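import Cfsg.Agent.OddHalf.SpTwo.PatSMain
import Cfsg.Agent.OddHalf.SpTwoN.Words

/-!
# `Sp_{2n}(2)`, pattern {short}, for `SpTwoN.Ctx`
-/

set_option autoImplicit false

namespace Cfsg.Agent.OddHalf.SpTwo.PatS

open Cfsg.Agent.StandardComponent.SpTwo
open Cfsg.Agent.OddHalf.SpTwoN

variable {G V : Type*} [Group G] [AddCommGroup V] [Module (ZMod 2) V]

/-- Pattern {short} for any subgroup `L ≅ Sp_{2n}(2)` (any `n`). -/
theorem main_of_subgroup [Finite G] [Finite V] (t : G) (L : Subgroup G) (S : SpData L V) (tt : t * t = 1)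
    (tL : t ∉ L) (hL : ∀ k ∈ L, t * k = k * t) (cent : ∀ g, g * t = t * g → g ∈ L ∨ t * g ∈ L)
    (hb : ∀ u, u ≠ 0 → ∀ g, g * t * g⁻¹ ≠ t * (S.τ u : G))
    (hc : ∀ u w, S.B u w = 0 → u ≠ 0 → w ≠ 0 → u ≠ w → ∀ g, g * t * g⁻¹ ≠ t * ((S.τ u : G) * (S.τ w : G)))
    (hy : ∀ u w, S.B u w = 0 → u ≠ 0 → w ≠ 0 → u ≠ w → ∃ y : G, y * y = 1 ∧
      y * t * y = t * ((S.τ u : G) * (S.τ w : G) * (S.τ (u + w) : G)) ∧
      ∀ e, S.B u e = 0 → S.B w e = 0 → y * (S.τ e : G) = (S.τ e : G) * y) : ∃ m : G →* ℤˣ, m t = -1 :=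
  Data.main (G := G) (X := L) (V := V)
    { S := S
      ι := L.subtype
      inj := Subtype.val_injective
      t := t
      tt := tt
      comm := fun k => hL k k.2
      tmem := fun k hk => tL (by rw [← hk]; exact k.2)
      cent := by
        intro g hg
        rcases cent g hg with h | h
        · exact ⟨⟨g, h⟩, Or.inl rfl⟩
        · refine ⟨⟨t * g, h⟩, Or.inr ?_⟩
          change g = t * (t * g)
          rw [← mul_assoc, tt, one_mul]
      notb := hb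
      notc := hc
      ex := hy }

/-- Pattern {short}, `SpTwoN.Ctx` version. -/
theorem main_of_ctx [Finite G] (C : Ctx G V) (hb : ∀ u, u ≠ 0 → C.t * C.b u ∉ C.D)
    (hc : ∀ u w, C.S.B u w = 0 → u ≠ 0 → w ≠ 0 → u ≠ w → C.t * (C.b u * C.b w) ∉ C.D)
    (hy : ∀ u w, C.S.B u w = 0 → u ≠ 0 → w ≠ 0 → u ≠ w → ∃ y : G, y * y = 1 ∧
      y * C.t * y = C.t * ((Words.sg C.S u w : C.L) : G) ∧
      ∀ e, C.S.B u e = 0 → C.S.B w e = 0 → y * C.b e = C.b e * y) : ∃ m : G →* ℤˣ, m C.t = -1 := by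
  have := C.finV
  refine main_of_subgroup C.t C.L C.S C.tt C.tL (fun k hk => (C.commute_of_mem hk).eq.symm)
    (fun g hg => (C.cent g).1 hg) ?_ ?_ hy
  · intro u hu g hg
    exact hb u hu ⟨g, hg.symm⟩
  · intro u w huw hu hw hne g hg
    exact hc u w huw hu hw hne ⟨g, hg.symm⟩

end Cfsg.Agent.OddHalf.SpTwo.PatS
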