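import Cfsg.Agent.OddHalf.SpTwo.Syl
import Cfsg.Agent.OddHalf.SpTwoN.Defs
import Cfsg.Agent.Blocks.SylowIn

/-!
# The start: an element `g` with `g t g⁻¹ = t z`, `g z g⁻¹ = z`

for `z = τ v` (or `z = s_ℓ`) as soon as `t` is conjugate to `t z`.
-/

set_option autoImplicit false
set_option linter.unusedSimpArgs false

open scoped commutatorElement

namespace Cfsg.Agent.OddHalf.SpTwo

open Cfsg.Agent.StandardComponent.SpTwo
open Cfsg.Agent.OddHalf.SpTwoN

section Sp

variable {X V : Type*} [Group X] [AddCommGroup V] [Module (ZMod 2) V] (D : SpData X V)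

theorem q_pl {v w a b : V} (hvw : D.B v w = 0) (ha : a ∈ pl v w) (hb : b ∈ pl v w) (ha0 : a ≠ 0)
    (hab : b ∉ ln a) : q D a b 0 = q D v w 0 := by
  have hwv : D.B w v = 0 := by rw [D.symm]; exact hvw
  have hba : D.B b a = 0 := pl_ti D hvw hb a ha
  have hb0 : b ≠ 0 := ne_zero_of_notMem hab
  have hne : b ≠ a := fun h => hab (by rw [h]; exact self_mem_ln a)
  apply D.ext_iff
  intro x
  apply ext_B D
  intro z
  rw [q_apply D hba, q_apply D hwv]
  rcases mem_pl.1 ha with ha1 | ha1 | ha1 | ha1 <;> rcases mem_pl.1 hb with hb1 | hb1 | hb1 | hb1 <;>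
    first
    | exact absurd ha1 ha0
    | exact absurd hb1 hb0
    | exact absurd (hb1.trans ha1.symm) hne
    | (simp only [ha1, hb1, map_add, LinearMap.add_apply, map_smul, LinearMap.smul_apply, smul_eq_mul]
       all_goals
         generalize D.B x v = a1
         generalize D.B x w = a2
         generalize D.B x z = a3
         generalize D.B v z = a4
         generalize D.B w z = a5
         revert a1 a2 a3 a4 a5
         decide)

theorem conj_eq_iff {x y : X} : x * y * x⁻¹ = y ↔ x * y = y * x := mul_inv_eq_iff_eq_mul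

theorem commute_s_iff [Finite V] {v w : V} (hv : v ≠ 0) (hw : w ∉ ln v) (hvw : D.B v w = 0) {g : X} :
    g * q D v w 0 = q D v w 0 * g ↔ g ∈ PU D (pl v w) := by
  have hwv : D.B w v = 0 := by rw [D.symm]; exact hvw
  constructor
  · intro h
    have h1 : ∀ x, D.ρ (q D v w 0) (D.ρ g x) = D.ρ g (D.ρ (q D v w 0) x) := by
      intro x
      rw [← D.ρ_mul, ← h, D.ρ_mul]
    obtain ⟨x, hx, hxw⟩ := sep D hw
    have hv' : v ∉ ln w := by
      rw [mem_ln]
      rintro (h | h)
      · exact hv h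
      · exact hw (by rw [h]; exact self_mem_ln _)
    obtain ⟨y, hy, hyv⟩ := sep D hv'
    rw [mem_perp_ln] at hx hy
    apply mem_PU_pl
    · have h2 := h1 x
      rw [q_apply D hwv _ x, q_apply D hwv, hxw, hx] at h2
      simp only [zero_mul, mul_zero, zero_smul, add_zero, one_smul, map_add] at h2
      have h3 := add_left_cancel (h2.symm.trans (add_assoc _ _ _))
      rw [h3]
      exact add_mem (Submodule.smul_mem _ _ (left_mem_pl v w)) (Submodule.smul_mem _ _ (right_mem_pl v w))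
    · have h2 := h1 y
      rw [q_apply D hwv _ y, q_apply D hwv, hyv, hy] at h2
      simp only [zero_mul, mul_zero, zero_smul, add_zero, one_smul, map_add] at h2
      have h3 := add_left_cancel (h2.symm.trans (add_assoc _ _ _))
      rw [h3]
      exact add_mem (Submodule.smul_mem _ _ (left_mem_pl v w)) (Submodule.smul_mem _ _ (right_mem_pl v w))
  · intro h
    rw [← conj_eq_iff, q_conj]
    apply q_pl D hvw ((h v).2 (left_mem_pl v w)) ((h w).2 (right_mem_pl v w))
    · intro h1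
      rw [← map_zero (D.ρ g)] at h1
      exact hv (D.ρ_inj g h1)
    · intro h1
      rcases mem_ln.1 h1 with h1 | h1
      · rw [← map_zero (D.ρ g)] at h1
        exact ne_zero_of_notMem hw (D.ρ_inj g h1)
      · exact hw (by rw [D.ρ_inj g h1]; exact self_mem_ln v)

theorem commute_b_iff {v : V} (hv : v ≠ 0) {g : X} : g * q D v 0 1 = q D v 0 1 * g ↔ g ∈ PU D (ln v) := by
  rw [q_zero_one, commute_τ_iff, mem_PU_ln D hv]

theorem commute_c_iff [Finite V] {v w : V} (hv : v ≠ 0) (hw : w ∉ ln v) (hvw : D.B v w = 0) {g : X} :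
    g * q D v w 1 = q D v w 1 * g ↔ g ∈ (PU D (ln v) ⊓ PU D (pl v w) : Subgroup X) := by
  have hwv : D.B w v = 0 := by rw [D.symm]; exact hvw
  have hc : q D v w 1 = q D v w 0 * q D v 0 1 := by
    rw [q_mul D hwv (B_zero D v)]; simp
  constructor
  · intro h
    have h1 : ∀ x, D.ρ (q D v w 1) (D.ρ g x) = D.ρ g (D.ρ (q D v w 1) x) := by
      intro x
      rw [← D.ρ_mul, ← h, D.ρ_mul]
    have h2 : ∀ x, D.B x (D.ρ (q D v w 1) x) = D.B x v := by
      intro x
      rw [q_apply D hwv]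
      simp only [map_add, map_smul, smul_eq_mul, D.alt, one_mul, zero_add, z2_mul]
      rw [mul_comm (D.B x w), z2_add, zero_add]
    have h3 : D.ρ g⁻¹ v = v := by
      apply ext_B D
      intro x
      have h4 := h2 (D.ρ g x)
      rw [h1, D.inv, h2, D.inv_left] at h4
      rw [D.symm, ← h4, D.symm]
    have h4 : g ∈ PU D (ln v) := by
      have := inv_mem ((mem_PU_ln D hv).2 h3)
      rwa [inv_inv] at this
    refine Subgroup.mem_inf.2 ⟨h4, ?_⟩
    rw [← commute_s_iff D hv hw hvw]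
    have h5 := (commute_b_iff D hv).2 h4
    have h6 : q D v w 0 = q D v w 1 * q D v 0 1 := by
      rw [hc, mul_assoc, q_sq D (B_zero D v), mul_one]
    rw [h6, ← mul_assoc, h, mul_assoc, h5, mul_assoc]
  · intro h
    have h5 := (commute_b_iff D hv).2 (Subgroup.mem_inf.1 h).1
    have h6 := (commute_s_iff D hv hw hvw).2 (Subgroup.mem_inf.1 h).2
    rw [hc, ← mul_assoc, h6, mul_assoc, h5, mul_assoc]

/-- transitivity on the nonzero vectors -/
theorem trans_vec [Finite V] {v v' : V} (hv : v ≠ 0) (hv' : v' ≠ 0) : ∃ g : X, D.ρ g v = v' := by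
  have key : ∀ a b : V, D.B a b = 1 → D.ρ (D.τ (a + b)) a = b := by
    intro a b h
    rw [D.hτ, map_add, D.alt, h, zero_add, one_smul, aac]
  obtain ⟨y1, -, h1⟩ := sep D (A := ⊥) (x := v) (by simpa using hv)
  obtain ⟨y2, -, h2⟩ := sep D (A := ⊥) (x := v') (by simpa using hv')
  have : ∃ y, D.B v y = 1 ∧ D.B y v' = 1 := by
    rcases z2 (D.B y1 v') with h3 | h3
    · rcases z2 (D.B y2 v) with h4 | h4
      · refine ⟨y1 + y2, ?_, ?_⟩
        · rw [D.symm, B_add, h1, h4, add_zero]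
        · rw [B_add, h2, h3, zero_add]
      · exact ⟨y2, by rw [D.symm]; exact h4, h2⟩
    · exact ⟨y1, by rw [D.symm]; exact h1, h3⟩
  obtain ⟨y, hy, hy'⟩ := this
  exact ⟨D.τ (y + v') * D.τ (v + y), by rw [D.ρ_mul, key _ _ hy, key _ _ hy']⟩

/-- transitivity of the stabilizer of a vector on the vectors of its orthogonal space -/
theorem trans_vec_perp [Finite V] {v w w' : V} (hw : w ∉ ln v) (hw' : w' ∉ ln v)
    (h : D.B w v = 0) (h' : D.B w' v = 0) : ∃ g : X, D.ρ g v = v ∧ D.ρ g w = w' ∧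
      g ∈ TG D (perp D (ln v) : Set V) := by
  have key : ∀ a b : V, D.B a b = 1 → D.ρ (D.τ (a + b)) a = b := by
    intro a b h
    rw [D.hτ, map_add, D.alt, h, zero_add, one_smul, aac]
  have key2 : ∀ a b : V, D.B a v = 0 → D.B b v = 0 → D.ρ (D.τ (a + b)) v = v := by
    intro a b h h'
    rw [D.hτ, D.symm, B_add, h, h', zero_add, zero_smul, add_zero]
  obtain ⟨y1, hy1, h1⟩ := sep D hw
  obtain ⟨y2, hy2, h2⟩ := sep D hw'
  rw [mem_perp_ln] at hy1 hy2
  have : ∃ y, D.B y v = 0 ∧ D.B w y = 1 ∧ D.B y w' = 1 := by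
    rcases z2 (D.B y1 w') with h3 | h3
    · rcases z2 (D.B y2 w) with h4 | h4
      · refine ⟨y1 + y2, ?_, ?_, ?_⟩
        · rw [B_add, hy1, hy2, add_zero]
        · rw [D.symm, B_add, h1, h4, add_zero]
        · rw [B_add, h2, h3, zero_add]
      · exact ⟨y2, hy2, by rw [D.symm]; exact h4, h2⟩
    · exact ⟨y1, hy1, by rw [D.symm]; exact h1, h3⟩
  obtain ⟨y, hyv, hy, hy'⟩ := this
  refine ⟨D.τ (y + w') * D.τ (w + y), ?_, ?_, ?_⟩
  · rw [D.ρ_mul, key2 _ _ h hyv, key2 _ _ hyv h']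
  · rw [D.ρ_mul, key _ _ hy, key _ _ hy']
  · refine mul_mem (τ_mem_TG D ?_) (τ_mem_TG D ?_)
    · exact (mem_perp_ln D).2 (by rw [B_add, hyv, h', add_zero])
    · exact (mem_perp_ln D).2 (by rw [B_add, hyv, h, add_zero])

theorem trans_pl [Finite V] {v w v' w' : V} (hv : v ≠ 0) (hw : w ∉ ln v) (h : D.B v w = 0)
    (hv' : v' ≠ 0) (hw' : w' ∉ ln v') (h' : D.B v' w' = 0) : ∃ g : X, D.ρ g v = v' ∧ D.ρ g w = w' := by
  obtain ⟨g, hg⟩ := trans_vec D hv hv'
  have h1 : D.ρ g w ∉ ln v' := by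
    rw [mem_ln, ← hg]
    rintro (h1 | h1)
    · rw [← map_zero (D.ρ g)] at h1
      exact ne_zero_of_notMem hw (D.ρ_inj g h1)
    · exact hw (by rw [D.ρ_inj g h1]; exact self_mem_ln v)
  obtain ⟨k, hk, hk', -⟩ := trans_vec_perp D h1 hw' (by rw [← hg, D.inv, D.symm]; exact h)
    (by rw [D.symm]; exact h')
  exact ⟨k * g, by rw [D.ρ_mul, hg, hk], by rw [D.ρ_mul, hk']⟩

end Sp

/-! ### contexts -/

variable {G V : Type*} [Group G] [AddCommGroup V] [Module (ZMod 2) V] (C : Ctx G V)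

theorem t_comm (y : C.L) : (y : G) * C.t = C.t * y := C.commute_of_mem y.2

theorem ne_t_mul (y y' : C.L) : (y : G) ≠ C.t * y' := by
  intro h
  apply C.tL
  have : C.t = (y : G) * (y' : G)⁻¹ := by rw [h]; group
  rw [this]
  exact mul_mem y.2 (inv_mem y'.2)

theorem exists_lift {x : G} (h : x * C.t = C.t * x) : ∃ y : C.L, x = y ∨ x = C.t * y := by
  rcases (C.cent x).1 h with h1 | h1
  · exact ⟨⟨x, h1⟩, Or.inl rfl⟩
  · refine ⟨⟨_, h1⟩, Or.inr ?_⟩
    change x = C.t * (C.t * x)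
    rw [← mul_assoc, C.tt, one_mul]

theorem tt_mid (a b : G) : a * C.t * (C.t * b) = a * b := by
  rw [mul_assoc, ← mul_assoc C.t, C.tt, one_mul]

/-- `⟨t⟩ × A` -/
def TX (A : Subgroup C.L) : Subgroup G where
  carrier := {x | ∃ y : C.L, y ∈ A ∧ (x = y ∨ x = C.t * y)}
  one_mem' := ⟨1, one_mem _, Or.inl rfl⟩
  mul_mem' := by
    rintro a b ⟨x, hx, hx'⟩ ⟨y, hy, hy'⟩
    refine ⟨x * y, mul_mem hx hy, ?_⟩
    rcases hx' with rfl | rfl <;> rcases hy' with rfl | rfl
    · left; rfl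
    · right; rw [← mul_assoc, t_comm, mul_assoc]; rfl
    · right; rw [mul_assoc]; rfl
    · left
      calc C.t * (x : G) * (C.t * y) = C.t * ((x : G) * C.t) * y := by group
        _ = (C.t * C.t) * (x * y) := by rw [t_comm]; group
        _ = _ := by rw [C.tt, one_mul]; rfl
  inv_mem' := by
    rintro a ⟨x, hx, hx'⟩
    refine ⟨x⁻¹, inv_mem hx, ?_⟩
    rcases hx' with rfl | rfl
    · left; rfl
    · right
      rw [mul_inv_rev, C.t_inv]
      have := t_comm C x⁻¹
      exact this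

theorem mem_TX {A : Subgroup C.L} {x : G} : x ∈ TX C A ↔ ∃ y : C.L, y ∈ A ∧ (x = y ∨ x = C.t * y) := Iff.rfl

theorem coe_mem_TX {A : Subgroup C.L} {y : C.L} : (y : G) ∈ TX C A ↔ y ∈ A := by
  constructor
  · rintro ⟨z, hz, h | h⟩
    · rwa [Subtype.ext h]
    · exact absurd h (ne_t_mul C _ _)
  · intro h; exact ⟨y, h, Or.inl rfl⟩

theorem t_mem_TX {A : Subgroup C.L} : C.t ∈ TX C A := ⟨1, one_mem _, Or.inr (mul_one _).symm⟩

theorem TX_comm_t {A : Subgroup C.L} {x : G} (h : x ∈ TX C A) : x * C.t = C.t * x := by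
  obtain ⟨y, -, rfl | rfl⟩ := h
  · exact t_comm C y
  · rw [mul_assoc, t_comm]

theorem TX_isPGroup {A : Subgroup C.L} (h : IsPGroup 2 A) : IsPGroup 2 (TX C A) := by
  rintro ⟨x, y, hy, hx⟩
  obtain ⟨k, hk⟩ := h ⟨y, hy⟩
  have hk' : (y : G) ^ 2 ^ k = 1 := by
    have := congrArg Subtype.val hk
    have h3 : y ^ 2 ^ k = 1 := this
    exact congrArg Subtype.val h3
  have hc : Commute C.t (y : G) := (t_comm C y).symm
  refine ⟨k + 1, ?_⟩
  apply Subtype.ext
  change x ^ 2 ^ (k + 1) = 1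
  have h2 : (y : G) ^ 2 ^ (k + 1) = 1 := by
    rw [pow_succ 2, pow_mul, hk', one_pow]
  rcases hx with rfl | rfl
  · exact h2
  · rw [hc.mul_pow, h2, mul_one, pow_succ 2, mul_comm, pow_mul, pow_two, C.tt, one_pow]

theorem TX_top : TX C ⊤ = Subgroup.centralizer {C.t} := by
  ext x
  rw [Subgroup.mem_centralizer_singleton_iff]
  constructor
  · intro h; exact TX_comm_t C h
  · intro h
    obtain ⟨y, hy⟩ := exists_lift C h
    exact ⟨y, Subgroup.mem_top _, hy⟩

theorem TX_mono {A B : Subgroup C.L} (h : A ≤ B) : TX C A ≤ TX C B :=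
  fun _ ⟨y, hy, hx⟩ => ⟨y, h hy, hx⟩

theorem TX_sylow (S : Sylow 2 C.L) :
    ∃ P : Sylow 2 (Subgroup.centralizer {C.t} : Subgroup G),
      (P : Subgroup (Subgroup.centralizer {C.t} : Subgroup G)).map (Subgroup.centralizer {C.t}).subtype =
        TX C (S : Subgroup C.L) := by
  rw [Blocks.SylowIn.exists_sylow_map_eq_iff]
  refine ⟨?_, TX_isPGroup C S.isPGroup', ?_⟩
  · rw [← TX_top]; exact TX_mono C le_top
  · intro Q hQ hQp hle
    let A : Subgroup C.L := Q.comap C.L.subtype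
    have hA : IsPGroup 2 A := hQp.comap_subtype
    have hSA : (S : Subgroup C.L) ≤ A := by
      intro s hs
      exact hle ((coe_mem_TX C).2 hs)
    have h1 := S.is_maximal' hA hSA
    apply le_antisymm _ hle
    intro x hx
    have h2 := hQ hx
    rw [Subgroup.mem_centralizer_singleton_iff] at h2
    obtain ⟨y, hy⟩ := exists_lift C h2
    have hyQ : (y : G) ∈ Q := by
      rcases hy with rfl | rfl
      · exact hx
      · have h3 : C.t ∈ Q := hle (t_mem_TX C)
        have := mul_mem h3 hx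
        rwa [← mul_assoc, C.tt, one_mul] at this
    have h4 : y ∈ A := hyQ
    rw [h1] at h4
    exact ⟨y, h4, hy⟩

/-- the normaliser step -/
theorem exists_norm [Finite G] (S : Sylow 2 C.L) {z : C.L} (hz : ∀ s ∈ (S : Subgroup C.L), z * s = s * z)
    {g : G} (hg : g * C.t * g⁻¹ = C.t * z) :
    ∃ n : G, (TX C (S : Subgroup C.L)).map (MulAut.conj n).toMonoidHom = TX C (S : Subgroup C.L) ∧
      n * C.t * n⁻¹ = C.t * z := by
  have h1 := TX_sylow C S
  have hcard := Blocks.SylowIn.card_of_sylow_map_eq h1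
  have hcc : Nat.card (Subgroup.centralizer {C.t * (z : G)} : Subgroup G) =
      Nat.card (Subgroup.centralizer {C.t} : Subgroup G) := by
    rw [← hg]; exact Blocks.SylowIn.card_centralizer_singleton_conj _ _
  have hTz : TX C (S : Subgroup C.L) ≤ Subgroup.centralizer {C.t * (z : G)} := by
    intro x hx
    rw [Subgroup.mem_centralizer_singleton_iff]
    have hxt := TX_comm_t C hx
    obtain ⟨y, hy, hxy⟩ := hx
    have hzy : (z : G) * y = y * z := congrArg Subtype.val (hz y hy)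
    rcases hxy with rfl | rfl
    · rw [← mul_assoc, hxt, mul_assoc, ← hzy, ← mul_assoc]
    · calc C.t * (y : G) * (C.t * z) = C.t * ((y : G) * C.t) * z := by group
        _ = C.t * C.t * ((y : G) * z) := by rw [t_comm]; group
        _ = C.t * C.t * ((z : G) * y) := by rw [hzy]
        _ = C.t * (C.t * z) * y := by group
        _ = C.t * (z * C.t) * y := by rw [t_comm]
        _ = _ := by group
  have h2 : ∃ P : Sylow 2 (Subgroup.centralizer {C.t * (z : G)} : Subgroup G),
      (P : Subgroup (Subgroup.centralizer {C.t * (z : G)} : Subgroup G)).map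
        (Subgroup.centralizer {C.t * (z : G)}).subtype = TX C (S : Subgroup C.L) := by
    apply Blocks.SylowIn.exists_sylow_map_eq_of_card hTz
    rw [hcard, hcc]
  have h3 : ∃ P : Sylow 2 (Subgroup.centralizer {C.t * (z : G)} : Subgroup G),
      (P : Subgroup (Subgroup.centralizer {C.t * (z : G)} : Subgroup G)).map
        (Subgroup.centralizer {C.t * (z : G)}).subtype =
          (TX C (S : Subgroup C.L)).map (MulAut.conj g).toMonoidHom := by
    apply Blocks.SylowIn.exists_sylow_map_eq_of_card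
    · rw [← hg, ← Blocks.SylowIn.centralizer_singleton_conj, ← TX_top]
      exact Subgroup.map_mono (TX_mono C le_top)
    · rw [hcc, ← hcard]
      exact (Nat.card_congr ((TX C (S : Subgroup C.L)).equivMapOfInjective _
        (MulAut.conj g).injective).toEquiv).symm
  obtain ⟨k, hk, hk'⟩ := Blocks.SylowIn.exists_conj_of_sylow_map_eq h3 h2
  refine ⟨k * g, ?_, ?_⟩
  · rw [Subgroup.map_map] at hk'
    rw [← hk']
    congr 1
    rw [map_mul]; rfl
  · rw [Subgroup.mem_centralizer_singleton_iff] at hk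
    calc k * g * C.t * (k * g)⁻¹ = k * (g * C.t * g⁻¹) * k⁻¹ := by group
      _ = k * (C.t * z) * k⁻¹ := by rw [hg]
      _ = _ := by rw [hk]; group

/-- `[⟨t⟩S, ⟨t⟩S] = [S, S]` -/
theorem commutator_TX_le (S : Subgroup C.L) : ⁅TX C S, TX C S⁆ ≤ S.map C.L.subtype := by
  rw [Subgroup.commutator_le]
  rintro a ⟨x, hx, hax⟩ b ⟨y, hy, hby⟩
  have h1 : ⁅a, b⁆ = ((⁅x, y⁆ : C.L) : G) := by
    rw [commutatorElement_def, commutatorElement_def]
    change _ = (x : G) * y * (x : G)⁻¹ * (y : G)⁻¹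
    have e1 : a * b * a⁻¹ * b⁻¹ = (a * b * a⁻¹) * b⁻¹ := rfl
    rcases hax with rfl | rfl <;> rcases hby with rfl | rfl
    · rfl
    · have h2 : (x : G) * (C.t * y) * (x : G)⁻¹ = C.t * (x * y * (x : G)⁻¹) := by
        rw [← mul_assoc, t_comm]; group
      rw [h2, mul_inv_rev, C.t_inv]
      have h3 := t_comm C y⁻¹
      have h3' : (y : G)⁻¹ * C.t = C.t * (y : G)⁻¹ := h3
      have h4 := t_comm C (x * y * x⁻¹)
      have h4' : (x : G) * y * (x : G)⁻¹ * C.t = C.t * (x * y * (x : G)⁻¹) := h4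
      rw [h3', ← h4', tt_mid]
    · have h2 : C.t * (x : G) * y * (C.t * (x : G))⁻¹ = (x * y * (x : G)⁻¹) := by
        have h4 := t_comm C (x * y * x⁻¹)
        have h4' : (x : G) * y * (x : G)⁻¹ * C.t = C.t * (x * y * (x : G)⁻¹) := h4
        rw [mul_inv_rev, C.t_inv]
        calc C.t * (x : G) * y * ((x : G)⁻¹ * C.t) = C.t * (x * y * (x : G)⁻¹ * C.t) := by group
          _ = _ := by rw [h4', ← mul_assoc, C.tt, one_mul]
      rw [h2]
    · have h2 : C.t * (x : G) * (C.t * y) * (C.t * (x : G))⁻¹ = C.t * (x * y * (x : G)⁻¹) := by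
        have h4 := t_comm C (x * y * x⁻¹)
        have h4' : (x : G) * y * (x : G)⁻¹ * C.t = C.t * (x * y * (x : G)⁻¹) := h4
        rw [mul_inv_rev, C.t_inv]
        calc C.t * (x : G) * (C.t * y) * ((x : G)⁻¹ * C.t) = C.t * ((x : G) * C.t) * y * (x : G)⁻¹ * C.t := by
              group
          _ = C.t * C.t * (x * y * (x : G)⁻¹ * C.t) := by rw [t_comm]; group
          _ = _ := by rw [h4', C.tt, one_mul]
      rw [h2, mul_inv_rev, C.t_inv]
      have h3 := t_comm C y⁻¹
      have h3' : (y : G)⁻¹ * C.t = C.t * (y : G)⁻¹ := h3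
      have h4 := t_comm C (x * y * x⁻¹)
      have h4' : (x : G) * y * (x : G)⁻¹ * C.t = C.t * (x * y * (x : G)⁻¹) := h4
      rw [h3', ← h4', tt_mid]
  rw [h1]
  exact ⟨_, S.mul_mem (S.mul_mem (S.mul_mem hx hy) (S.inv_mem hx)) (S.inv_mem hy), rfl⟩

theorem card_TX [Finite G] (A : Subgroup C.L) : Nat.card (TX C A) = 2 * Nat.card A := by
  let F : A ⊕ A → TX C A := fun x => match x with
    | Sum.inl a => ⟨((a : C.L) : G), (coe_mem_TX C).2 a.2⟩
    | Sum.inr a => ⟨C.t * ((a : C.L) : G), ⟨a, a.2, Or.inr rfl⟩⟩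
  have hF : Function.Bijective F := by
    constructor
    · rintro (⟨a, ha⟩ | ⟨a, ha⟩) (⟨b, hb⟩ | ⟨b, hb⟩) h
      · have h1 : (a : G) = b := congrArg (fun z : TX C A => (z : G)) h
        have h2 : a = b := Subtype.ext h1
        subst h2; rfl
      · have h1 : (a : G) = C.t * b := congrArg (fun z : TX C A => (z : G)) h
        exact absurd h1 (ne_t_mul C _ _)
      · have h1 : C.t * (a : G) = b := congrArg (fun z : TX C A => (z : G)) h
        exact absurd h1.symm (ne_t_mul C _ _)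
      · have h1 : C.t * (a : G) = C.t * b := congrArg (fun z : TX C A => (z : G)) h
        have h2 : a = b := Subtype.ext (mul_left_cancel h1)
        subst h2; rfl
    · rintro ⟨x, y, hy, hx | hx⟩
      · exact ⟨Sum.inl ⟨y, hy⟩, Subtype.ext hx.symm⟩
      · exact ⟨Sum.inr ⟨y, hy⟩, Subtype.ext hx.symm⟩
  have := Nat.card_congr (Equiv.ofBijective F hF)
  rw [← this, Nat.card_sum, two_mul]

end Cfsg.Agent.OddHalf.SpTwo
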