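import Cfsg.Agent.OddHalf.SpTwo.LongType

/-!
# Output for the long roots

`HasType C v y κ Q`: `y b_w y = q v ((Q w + κ) w) (Q w) * b_w` for `w ∈ v^⊥`, `Q (u+w) = Q u + Q w + κ (u,w)` and `Q v = 0`.
* `IsY.unique`: `IsY C v y → IsY C v y' → ∃ p e, (p,v) = 0 ∧ y' = y * q v p e`;
* `exists_kappa`: one `κ` for all `v` and all `y_v`;
* `IsY.exists_of_Q`: every `Q'` of the same kind is the `Q` of another `y_v`;
* `exists_commuting`: `κ = 0` gives a `y_v` commuting with `C_L(b_v)`;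
* `HasType.kappa_zero`: `κ = 0` as soon as one `b_w`, `w ∈ v^⊥ - ⟨v⟩`, is mapped to a transvection.
-/

set_option autoImplicit false
set_option linter.unusedSimpArgs false

open scoped commutatorElement

namespace Cfsg.Agent.OddHalf.SpTwo

open Cfsg.Agent.StandardComponent.SpTwo
open Cfsg.Agent.OddHalf.SpTwoN

section Sp

variable {X V : Type*} [Group X] [AddCommGroup V] [Module (ZMod 2) V] (D : SpData X V)

/-- the product of two commuting transvections is not a transvection -/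
theorem ττ_ne_τ [Finite V] {v a z : V} (hv : v ≠ 0) (ha : a ∉ ln v) (hav : D.B a v = 0) :
    D.τ v * D.τ a ≠ D.τ z := by
  intro h
  obtain ⟨x, hx, hxa⟩ := sep D ha
  rw [mem_perp_ln] at hx
  have h1 := (ρ_eq D).1 h x
  rw [D.ρ_mul, D.hτ _ x, hxa, one_smul, D.hτ, D.hτ, B_add, hx, zero_add, hav, zero_smul, add_zero] at h1
  have h2 := add_left_cancel h1
  rcases z2 (D.B x z) with h3 | h3
  · rw [h3, zero_smul] at h2
    exact ne_zero_of_notMem ha h2
  · rw [h3, one_smul] at h2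
    rw [h2] at h
    exact hv (D.τ_eq_one (mul_eq_right.1 h))

end Sp

variable {G V : Type*} [Group G] [AddCommGroup V] [Module (ZMod 2) V] {C : Ctx G V}
variable {v : V} {y : G}

/-- the type of `y_v` -/
structure HasType (C : Ctx G V) (v : V) (y : G) (κ : ZMod 2) (Q : V → ZMod 2) : Prop where
  form : ∀ w, C.S.B w v = 0 → y * C.b w * y = ((q C.S v ((Q w + κ) • w) (Q w) * C.S.τ w : C.L) : G)
  quad : ∀ u w, C.S.B u v = 0 → C.S.B w v = 0 → Q (u + w) = Q u + Q w + κ * C.S.B u w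
  zero : Q v = 0

theorem IsY.hasType (hv : v ≠ 0) (h : IsY C v y) : ∃ κ Q, HasType C v y κ Q := by
  obtain ⟨κ, Q, h1, h2, h3⟩ := h.exists_type hv
  exact ⟨κ, Q, h1, h2, h3⟩

theorem IsY.conj_L (h : IsY C v y) (m : C.L) : IsY C (C.S.ρ m v) (m * y * (m : G)⁻¹) := by
  have hm := t_comm C m
  have hm' : (m : G)⁻¹ * C.t * m = C.t := by rw [mul_assoc, ← hm]; group
  have hb := C.b_conj m v
  refine ⟨?_, ?_, ?_, ?_⟩
  · calc m * y * (m : G)⁻¹ * (m * y * (m : G)⁻¹) = m * (y * y) * (m : G)⁻¹ := by group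
      _ = 1 := by rw [h.sq]; group
  · calc m * y * (m : G)⁻¹ * C.t * (m * y * (m : G)⁻¹) = m * (y * ((m : G)⁻¹ * C.t * m) * y) * (m : G)⁻¹ := by
          group
      _ = (m * C.t) * C.b v * (m : G)⁻¹ := by rw [hm', h.conj_t]; group
      _ = _ := by rw [hm, mul_assoc, mul_assoc, ← mul_assoc (m : G), hb]
  · rw [← hb]
    calc m * y * (m : G)⁻¹ * (m * C.b v * (m : G)⁻¹) = m * (y * C.b v) * (m : G)⁻¹ := by group
      _ = _ := by rw [h.comm_b]; group
  · intro u hu
    have h1 : C.S.B (C.S.ρ m⁻¹ u) v = 0 := by rw [C.S.inv_left, inv_inv]; exact hu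
    have h2 : m * q C.S v (C.S.ρ m⁻¹ u) 0 * m⁻¹ = q C.S (C.S.ρ m v) u 0 := by
      rw [q_conj, C.S.ρ_apply_inv]
    rw [← h2]
    change m * y * (m : G)⁻¹ * ((m : G) * (q C.S v (C.S.ρ m⁻¹ u) 0 : C.L) * (m : G)⁻¹) =
      (m : G) * (q C.S v (C.S.ρ m⁻¹ u) 0 : C.L) * (m : G)⁻¹ * (m * y * (m : G)⁻¹)
    calc m * y * (m : G)⁻¹ * ((m : G) * (q C.S v (C.S.ρ m⁻¹ u) 0 : C.L) * (m : G)⁻¹) =
        m * (y * (q C.S v (C.S.ρ m⁻¹ u) 0 : C.L)) * (m : G)⁻¹ := by group
      _ = _ := by rw [h.comm _ h1]; group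

theorem HasType.conj_L {κ : ZMod 2} {Q : V → ZMod 2} (h : HasType C v y κ Q) (m : C.L) :
    HasType C (C.S.ρ m v) (m * y * (m : G)⁻¹) κ (fun w => Q (C.S.ρ m⁻¹ w)) := by
  have hB : ∀ w, C.S.B w (C.S.ρ m v) = 0 → C.S.B (C.S.ρ m⁻¹ w) v = 0 := by
    intro w hw
    rw [C.S.inv_left, inv_inv]; exact hw
  refine ⟨?_, ?_, ?_⟩
  · intro w hw
    have h1 := h.form _ (hB w hw)
    have h2 : (m : G)⁻¹ * C.b w * m = C.b (C.S.ρ m⁻¹ w) := by
      have := C.b_conj m⁻¹ w
      change (m : G)⁻¹ * C.b w * ((m : G)⁻¹)⁻¹ = _ at this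
      rwa [inv_inv] at this
    have h3 : m * (q C.S v ((Q (C.S.ρ m⁻¹ w) + κ) • C.S.ρ m⁻¹ w) (Q (C.S.ρ m⁻¹ w)) * C.S.τ (C.S.ρ m⁻¹ w)) * m⁻¹ =
        q C.S (C.S.ρ m v) ((Q (C.S.ρ m⁻¹ w) + κ) • w) (Q (C.S.ρ m⁻¹ w)) * C.S.τ w := by
      have e1 : ∀ a b : C.L, m * (a * b) * m⁻¹ = (m * a * m⁻¹) * (m * b * m⁻¹) := fun a b => by group
      rw [e1, q_conj, C.S.conj_τ, map_smul, C.S.ρ_apply_inv]
    rw [← h3]
    calc m * y * (m : G)⁻¹ * C.b w * (m * y * (m : G)⁻¹) = m * (y * ((m : G)⁻¹ * C.b w * m) * y) * (m : G)⁻¹ := by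
          group
      _ = _ := by rw [h2, h1]; rfl
  · intro u w hu hw
    have h1 := h.quad _ _ (hB u hu) (hB w hw)
    simp only [map_add]
    rw [h1, C.S.inv]
  · simp only [C.S.ρ_inv_apply]
    exact h.zero

/-- `y_v` times an element of `Q_v` -/
theorem IsY.mul_q (h : IsY C v y) {p : V} (hp : C.S.B p v = 0) (e : ZMod 2) :
    IsY C v (y * (q C.S v p e : C.L)) := by
  have h1 := h.conj_q hp e
  have hsq : ((q C.S v p e : C.L) : G) * (q C.S v p e : C.L) = 1 := congrArg Subtype.val (q_sq C.S hp e)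
  have ht := t_comm C (q C.S v p e)
  have hqq : ∀ u, C.S.B u v = 0 → ∀ e', ((q C.S v p e : C.L) : G) * (q C.S v u e' : C.L) =
      (q C.S v u e' : C.L) * (q C.S v p e : C.L) := fun u hu e' =>
    congrArg Subtype.val (q_comm C.S hp hu e e')
  refine ⟨?_, ?_, ?_, ?_⟩
  · calc y * ((q C.S v p e : C.L) : G) * (y * (q C.S v p e : C.L)) =
        (y * (q C.S v p e : C.L)) * y * (q C.S v p e : C.L) := by group
      _ = ((q C.S v p e : C.L) : G) * (y * y) * (q C.S v p e : C.L) := by rw [h1]; group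
      _ = 1 := by rw [h.sq, mul_one, hsq]
  · calc y * ((q C.S v p e : C.L) : G) * C.t * (y * (q C.S v p e : C.L)) =
        y * (((q C.S v p e : C.L) : G) * C.t) * y * (q C.S v p e : C.L) := by group
      _ = y * C.t * ((q C.S v p e : C.L) * y) * (q C.S v p e : C.L) := by rw [ht]; group
      _ = y * C.t * y * ((q C.S v p e : C.L) * (q C.S v p e : C.L)) := by rw [← h1]; group
      _ = _ := by rw [hsq, mul_one, h.conj_t]
  · have h2 : ((q C.S v p e : C.L) : G) * C.b v = C.b v * (q C.S v p e : C.L) := by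
      have := hqq 0 (B_zero C.S v) 1
      rwa [q_zero_one] at this
    rw [mul_assoc, h2, ← mul_assoc, h.comm_b, mul_assoc]
  · intro u hu
    rw [mul_assoc, hqq u hu 0, ← mul_assoc, h.comm u hu, mul_assoc]

theorem HasType.mul_q {κ : ZMod 2} {Q : V → ZMod 2} (h : IsY C v y) (ht : HasType C v y κ Q) {p : V}
    (hp : C.S.B p v = 0) (e : ZMod 2) :
    HasType C v (y * (q C.S v p e : C.L)) κ (fun w => Q w + C.S.B p w) := by
  have h1 := h.conj_q hp e
  refine ⟨?_, ?_, ?_⟩
  · intro w hw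
    have hsm : ∀ a : ZMod 2, C.S.B (a • w) v = 0 := by
      intro a
      rw [map_smul, LinearMap.smul_apply, hw, smul_zero]
    have h2 : q C.S v p e * C.S.τ w * q C.S v p e = q C.S v (C.S.B p w • w) (C.S.B p w) * C.S.τ w := by
      rw [← q_comm_τ C.S hw hp e, mul_assoc _ (C.S.τ w) (C.S.τ w), C.S.τ_sq, mul_one]
    have h2' : ((q C.S v p e : C.L) : G) * C.b w * (q C.S v p e : C.L) =
        (q C.S v (C.S.B p w • w) (C.S.B p w) : C.L) * C.b w := congrArg Subtype.val h2
    have h3 : y * ((q C.S v p e : C.L) : G) * C.b w * (y * (q C.S v p e : C.L)) =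
        (q C.S v (C.S.B p w • w) (C.S.B p w) : C.L) * (y * C.b w * y) := by
      calc y * ((q C.S v p e : C.L) : G) * C.b w * (y * (q C.S v p e : C.L)) =
          y * ((q C.S v p e : C.L) : G) * C.b w * ((q C.S v p e : C.L) * y) := by rw [← h1]
        _ = y * (((q C.S v p e : C.L) : G) * C.b w * (q C.S v p e : C.L)) * y := by group
        _ = (y * (q C.S v (C.S.B p w • w) (C.S.B p w) : C.L)) * C.b w * y := by rw [h2']; group
        _ = _ := by rw [h.conj_q (hsm _)]; group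
    rw [h3, ht.form w hw]
    have h4 : q C.S v (C.S.B p w • w) (C.S.B p w) * (q C.S v ((Q w + κ) • w) (Q w) * C.S.τ w) =
        q C.S v ((Q w + C.S.B p w + κ) • w) (Q w + C.S.B p w) * C.S.τ w := by
      rw [← mul_assoc, q_mul C.S (hsm _) (hsm _), ← add_smul]
      have e1 : C.S.B (C.S.B p w • w) ((Q w + κ) • w) = 0 := by
        rw [map_smul, map_smul, LinearMap.smul_apply, C.S.alt, smul_zero, smul_zero]
      have e2 : C.S.B p w + (Q w + κ) = Q w + C.S.B p w + κ := by abel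
      rw [e1, e2, add_zero, add_comm (C.S.B p w) (Q w)]
    exact congrArg Subtype.val h4
  · intro u w hu hw
    simp only [ht.quad u w hu hw, map_add]
    abel
  · simp only [ht.zero, hp, add_zero]

/-- uniqueness of `y_v` -/
theorem IsY.unique (hv : v ≠ 0) (h : IsY C v y) {y' : G} (h' : IsY C v y') :
    ∃ p e, C.S.B p v = 0 ∧ y' = y * (q C.S v p e : C.L) := by
  have hfinV := C.finV
  have hbG : C.b v * C.b v = 1 := C.b_sq v
  have hbt : C.b v * C.t = C.t * C.b v := t_comm C (C.S.τ v)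
  have hyt : y * C.t = C.t * C.b v * y := by
    calc y * C.t = y * C.t * (y * y) := by rw [h.sq, mul_one]
      _ = (y * C.t * y) * y := by group
      _ = _ := by rw [h.conj_t]
  have hyt' : y' * C.t = C.t * C.b v * y' := by
    calc y' * C.t = y' * C.t * (y' * y') := by rw [h'.sq, mul_one]
      _ = (y' * C.t * y') * y' := by group
      _ = _ := by rw [h'.conj_t]
  have h1 : y * y' * C.t = C.t * (y * y') := by
    calc y * y' * C.t = y * (C.t * C.b v * y') := by rw [mul_assoc, hyt']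
      _ = (y * C.t) * C.b v * y' := by group
      _ = C.t * C.b v * (y * C.b v) * y' := by rw [hyt]; group
      _ = C.t * (C.b v * C.b v) * y * y' := by rw [h.comm_b]; group
      _ = _ := by rw [hbG]; group
  obtain ⟨a, ha⟩ := exists_lift C h1
  have haQ : a ∈ QU C.S (ln v) := by
    have hcom : ∀ x : C.L, y * x = x * y → y' * x = x * y' → (a : G) * x = x * a := by
      intro x hx hx'
      have h2 : y * y' * x = x * (y * y') := by rw [mul_assoc, hx', ← mul_assoc, hx, mul_assoc]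
      rcases ha with ha | ha
      · rwa [ha] at h2
      · rw [ha] at h2
        have h3 : C.t * ((a : G) * x) = C.t * (x * a) := by
          rw [← mul_assoc, h2, ← mul_assoc, t_comm, mul_assoc]
        exact mul_left_cancel h3
    apply mem_QU_of_commute C.S hv
    · exact Subtype.ext (hcom _ h.comm_b h'.comm_b)
    · intro u hu
      exact Subtype.ext (hcom _ (h.comm u hu) (h'.comm u hu))
  obtain ⟨p, e, hp, rfl⟩ := mem_QU_ln C.S hv haQ
  rcases ha with ha | ha
  · refine ⟨p, e, hp, ?_⟩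
    rw [← ha, ← mul_assoc, h.sq, one_mul]
  · exfalso
    have h2 : y' = y * C.t * (q C.S v p e : C.L) := by
      rw [mul_assoc, ← ha, ← mul_assoc, h.sq, one_mul]
    have hsq : ((q C.S v p e : C.L) : G) * (q C.S v p e : C.L) = 1 := congrArg Subtype.val (q_sq C.S hp e)
    have h3 : y' * y' = C.b v := by
      calc y' * y' = y * C.t * ((q C.S v p e : C.L) * y) * C.t * (q C.S v p e : C.L) := by rw [h2]; group
        _ = y * C.t * y * ((q C.S v p e : C.L) * C.t) * (q C.S v p e : C.L) := by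
            rw [← h.conj_q hp e]; group
        _ = C.t * C.b v * C.t * ((q C.S v p e : C.L) * (q C.S v p e : C.L)) := by
            rw [t_comm, h.conj_t]; group
        _ = _ := by rw [hsq, mul_one, mul_assoc, hbt, ← mul_assoc, C.tt, one_mul]
    rw [h'.sq] at h3
    exact hv (C.S.τ_eq_one (Subtype.ext h3.symm))

/-- the type is determined by `y` -/
theorem HasType.unique (hv : v ≠ 0) {κ κ' : ZMod 2} {Q Q' : V → ZMod 2} (h : HasType C v y κ Q)
    (h' : HasType C v y κ' Q') : κ = κ' := by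
  have hfinV := C.finV
  have h256 := C.cardV
  obtain ⟨w, hw, hwl⟩ := room C.S h256 (A := ln v) (A' := ln v) (by
    have := finrank_ln_le v; omega)
  rw [mem_perp_ln] at hw
  have hsm : ∀ a : ZMod 2, C.S.B (a • w) v = 0 := by
    intro a
    rw [map_smul, LinearMap.smul_apply, hw, smul_zero]
  have h1 := (h.form w hw).symm.trans (h'.form w hw)
  have h2 := mul_right_cancel (Subtype.ext h1 : q C.S v ((Q w + κ) • w) (Q w) * C.S.τ w =
    q C.S v ((Q' w + κ') • w) (Q' w) * C.S.τ w)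
  obtain ⟨h3, h4⟩ := q_inj C.S hv (hsm _) (hsm _) h2
  rw [← add_smul, ← h4] at h3
  rcases z2 (Q w + κ + (Q w + κ')) with h5 | h5
  · have : ∀ a b c : ZMod 2, a + b + (a + c) = 0 → b = c := by decide
    exact this _ _ _ h5
  · rw [h5, one_smul] at h3
    exact absurd h3 hwl

/-- one `κ` for all `v`, all `y_v` -/
theorem exists_kappa (C : Ctx G V) : ∃ κ : ZMod 2, ∀ v y, v ≠ 0 → IsY C v y → ∃ Q, HasType C v y κ Q := by
  have hfinV := C.finV
  by_cases hex : ∃ v0 y0, v0 ≠ 0 ∧ IsY C v0 y0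
  · obtain ⟨v0, y0, hv0, h0⟩ := hex
    obtain ⟨κ, Q0, ht0⟩ := h0.hasType hv0
    refine ⟨κ, fun v y hv h => ?_⟩
    obtain ⟨m, hm⟩ := trans_vec C.S hv0 hv
    have h1 := h0.conj_L m
    have h2 := ht0.conj_L m
    rw [hm] at h1 h2
    obtain ⟨p, e, hp, rfl⟩ := h1.unique hv h
    exact ⟨_, h2.mul_q h1 hp e⟩
  · refine ⟨0, fun v y hv h => ?_⟩
    exact absurd ⟨v, y, hv, h⟩ hex

/-- every form is the form of some `y_v` -/
theorem IsY.exists_of_Q {κ : ZMod 2} {Q : V → ZMod 2} (h : IsY C v y) (ht : HasType C v y κ Q)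
    {Q' : V → ZMod 2}
    (hQ' : ∀ u w, C.S.B u v = 0 → C.S.B w v = 0 → Q' (u + w) = Q' u + Q' w + κ * C.S.B u w)
    (hQv : Q' v = 0) : ∃ y', IsY C v y' ∧ HasType C v y' κ Q' := by
  have hfinV := C.finV
  have hz : C.S.B 0 v = 0 := B_zero C.S v
  have hQ0 : Q 0 = 0 := by
    have := ht.quad 0 0 hz hz
    rw [add_zero, z2_add, B_zero, mul_zero, add_zero] at this
    exact this
  have hQ0' : Q' 0 = 0 := by
    have := hQ' 0 0 hz hz
    rw [add_zero, z2_add, B_zero, mul_zero, add_zero] at this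
    exact this
  let f : perp C.S (ln v) →ₗ[ZMod 2] ZMod 2 :=
    { toFun := fun x => Q x + Q' x
      map_add' := by
        intro x y
        have h1 := ht.quad x y ((mem_perp_ln C.S).1 x.2) ((mem_perp_ln C.S).1 y.2)
        have h2 := hQ' x y ((mem_perp_ln C.S).1 x.2) ((mem_perp_ln C.S).1 y.2)
        rw [Submodule.coe_add, h1, h2]
        generalize κ * C.S.B (x : V) (y : V) = k
        generalize Q x = a1
        generalize Q y = a2
        generalize Q' x = a3
        generalize Q' y = a4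
        revert a1 a2 a3 a4 k
        decide
      map_smul' := by
        intro c x
        rcases z2 c with rfl | rfl
        · simp [hQ0, hQ0']
        · simp }
  obtain ⟨p, hp⟩ := B_surj_on C.S (perp C.S (ln v)) f
  have hpv : C.S.B p v = 0 := by
    have := hp ⟨v, ln_ti C.S v (self_mem_ln v)⟩
    change C.S.B p v = Q v + Q' v at this
    rw [this, ht.zero, hQv, add_zero]
  refine ⟨_, h.mul_q hpv 0, ?_⟩
  have h1 := ht.mul_q h hpv 0
  have hQQ : ∀ w, C.S.B w v = 0 → Q w + C.S.B p w = Q' w := by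
    intro w hw
    have := hp ⟨w, (mem_perp_ln C.S).2 hw⟩
    change C.S.B p w = Q w + Q' w at this
    rw [this, ← add_assoc, z2_add, zero_add]
  refine ⟨fun w hw => ?_, hQ', hQv⟩
  have h2 := h1.form w hw
  simp only [hQQ w hw] at h2
  exact h2

/-- `κ = 0`: a `y_v` commuting with the whole stabilizer -/
theorem exists_commuting (hv : v ≠ 0) {Q : V → ZMod 2} (h : IsY C v y) (ht : HasType C v y 0 Q) :
    ∃ y', IsY C v y' ∧ ∀ m : C.L, C.S.ρ m v = v → y' * m = m * y' := by
  have hfinV := C.finV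
  obtain ⟨y', hy', ht'⟩ := h.exists_of_Q ht (Q' := fun _ => 0) (by intro u w _ _; simp) rfl
  refine ⟨y', hy', ?_⟩
  have hτ : ∀ w, C.S.B w v = 0 → y' * ((C.S.τ w : C.L) : G) = (C.S.τ w : C.L) * y' := by
    intro w hw
    have h1 := ht'.form w hw
    simp only [add_zero, zero_smul, q_zero, one_mul] at h1
    have h2 : y' * C.b w * y' = C.b w := h1
    change y' * C.b w = C.b w * y'
    calc y' * C.b w = y' * C.b w * (y' * y') := by rw [hy'.sq, mul_one]
      _ = (y' * C.b w * y') * y' := by group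
      _ = _ := by rw [h2]
  have hTG : ∀ p ∈ TG C.S (perp C.S (ln v) : Set V), y' * (p : G) = p * y' := by
    intro p hp
    induction hp using Subgroup.closure_induction with
    | mem x hx =>
      obtain ⟨w, hw, rfl⟩ := hx
      exact hτ w ((mem_perp_ln C.S).1 hw)
    | one =>
      change y' * (1 : G) = 1 * y'
      rw [mul_one, one_mul]
    | mul a b _ _ ha hb =>
      change y' * ((a : G) * b) = (a : G) * b * y'
      rw [← mul_assoc, ha, mul_assoc, hb, mul_assoc]
    | inv a _ ha =>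
      change y' * (a : G)⁻¹ = (a : G)⁻¹ * y'
      rw [eq_inv_mul_iff_mul_eq, ← mul_assoc, ← ha, mul_inv_cancel_right]
  intro m hm
  have hmP : m ∈ PU C.S (ln v) := (mem_PU_ln C.S hv).2 hm
  obtain ⟨p, hp, hpm⟩ := gen C.S (ln_ti C.S v) (fun x => C.S.ρ m x)
    (fun x hx => PU_perp C.S hmP hx) (fun x hx => (hmP x).2 hx)
    (fun x _ y _ => by rw [map_add, aa]; exact zero_mem _) (fun x _ y _ => C.S.inv _ _ _)
  have h1 : p⁻¹ * m ∈ QU C.S (ln v) := by
    have hpv : C.S.ρ p⁻¹ v = v := TG_fix C.S (inv_mem hp) (self_mem_ln v)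
    have hpi := TG_le_PU C.S (inv_mem hp)
    constructor
    · intro u hu
      rcases mem_ln.1 hu with rfl | rfl
      · exact map_zero _
      · rw [C.S.ρ_mul, hm, hpv]
    · intro x hx
      have h2 := (hpi _).2 (hpm x hx)
      rw [map_add, C.S.ρ_inv_apply, ← C.S.ρ_mul, add_comm] at h2
      exact h2
  obtain ⟨u, e, hu, hue⟩ := mem_QU_ln C.S hv h1
  have h2 : m = p * q C.S v u e := by rw [← hue, mul_inv_cancel_left]
  rw [h2]
  change y' * ((p : G) * (q C.S v u e : C.L)) = (p : G) * (q C.S v u e : C.L) * y'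
  rw [← mul_assoc, hTG p hp, mul_assoc, hy'.conj_q hu e, mul_assoc]

/-- `κ = 0` as soon as one transvection is mapped to a transvection -/
theorem HasType.kappa_zero (hv : v ≠ 0) {κ : ZMod 2} {Q : V → ZMod 2} (ht : HasType C v y κ Q) {w z : V}
    (hw : C.S.B w v = 0) (hwl : w ∉ ln v) (h : y * C.b w * y = C.b z) : κ = 0 := by
  have hfinV := C.finV
  rcases z2 κ with hκ | hκ
  · exact hκ
  exfalso
  have h1 := ht.form w hw
  rw [h, hκ] at h1
  have h2 : C.S.τ z = q C.S v ((Q w + 1) • w) (Q w) * C.S.τ w := Subtype.ext h1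
  rcases z2 (Q w) with h3 | h3
  · rw [h3, zero_add, one_smul] at h2
    -- `q v w 0 τ w = τ v τ (v + w)`
    have h4 : q C.S v w 0 * C.S.τ w = C.S.τ v * C.S.τ (w + v) := by
      have e1 : q C.S v w 0 = q C.S v 0 1 * q C.S v w 1 := by
        rw [q_mul C.S (B_zero C.S v) hw, B_zero, zero_add, add_zero, z2_add]
      rw [e1, mul_assoc, q_mul_τ C.S hw, q_zero_one]
    rw [h4] at h2
    exact ττ_ne_τ C.S hv (fun h5 => hwl (by
      have := add_mem h5 (self_mem_ln v)
      rwa [aab] at this)) (by rw [B_add, hw, C.S.alt, add_zero]) h2.symm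
  · have e0 : (1 : ZMod 2) + 1 = 0 := by decide
    rw [h3, e0, zero_smul, q_zero_one] at h2
    exact ττ_ne_τ C.S hv hwl hw h2.symm

end Cfsg.Agent.OddHalf.SpTwo
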