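import Cfsg.Agent.OddHalf.SpTwo.EndCO
import Cfsg.Agent.OddHalf.SpTwoN.Asm

/-!
# `Sp₂ₙ(2)`, pattern `(C, O)` on `SpTwoN.Ctx`

The input `co` of `SpTwoN.Asm.Inputs`.
-/

set_option autoImplicit false

namespace Cfsg.Agent.OddHalf.SpTwo.EndCOCtx

open Cfsg.Agent.StandardComponent.SpTwo
open Cfsg.Agent.OddHalf.SpTwoN
open Cfsg.Agent.OddHalf.SpTwo.EndCC

variable {G V : Type*} [Group G] [AddCommGroup V] [Module (ZMod 2) V]

/-- the context without the conditions on `V` -/
def loc (C : Ctx G V) : EndCC.Loc G V where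
  t := C.t
  tt := C.tt
  L := C.L
  S := C.S
  cent := C.cent
  tL := C.tL

theorem eqv {C : Ctx G V} {y : V → G} (Y : YBase C y) (h : Asm.CO C y) : EndCO.Loc.Eqv (loc C) y where
  Y u _ := by
    refine ⟨Y.sq u, ?_, ?_⟩
    · change y u * C.t * y u = C.t * C.b u
      have h1 := Y.conj_t u
      calc y u * C.t * y u = (C.t * C.t) * y u * C.t * y u := by rw [C.tt, one_mul]
        _ = C.t * (C.t * y u * C.t) * y u := by group
        _ = C.t * C.b u * (y u * y u) := by rw [h1]; group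
        _ = _ := by rw [Y.sq, mul_one]
    · intro x hx hxb
      exact Y.comm_L (((loc C).commute_iff ⟨x, hx⟩ u).1 hxb)
  eqv x u _ := Y.equiv x u
  br u v huv := by
    obtain ⟨hu, hv, hne, hB⟩ := huv
    have h1 := h u v hu hv hne hB
    change y u * y v = C.b (u + v) * (y v * y u)
    rw [← h1]
    calc y u * y v = y u * y v * (y u * (y v * y v) * y u) := by rw [Y.sq, mul_one, Y.sq, mul_one]
      _ = _ := by group

/-- the pattern `(C, O)` -/
theorem exists_hom [Finite G] {C : Ctx G V} {y : V → G} (Y : YBase C y) (h : Asm.CO C y) :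
    ∃ m : G →* ℤˣ, m C.t = -1 := by
  have := C.finV
  exact EndCO.Loc.exists_hom (eqv Y h) C.cardV

end Cfsg.Agent.OddHalf.SpTwo.EndCOCtx
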