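import Cfsg.Agent.OddHalf.SpTwo.ShortOut
import Cfsg.Agent.OddHalf.SpTwoN.Asm

/-!
# The input `short` of the assembly (`SpTwoN.Asm.Inputs`)
-/

set_option autoImplicit false

namespace Cfsg.Agent.OddHalf.SpTwo

open Cfsg.Agent.StandardComponent.SpTwo
open Cfsg.Agent.OddHalf.SpTwoN Cfsg.Agent.OddHalf.SpTwoN.LBStart

theorem sg_eq_q {X V : Type*} [Group X] [AddCommGroup V] [Module (ZMod 2) V] (D : SpData X V) (u v : V) :
    Words.sg D u v = q D u v 0 := by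
  rw [Words.sg, q, zero_smul, D.τ_zero, mul_one]

theorem short_of_PQ {G V : Type*} [Group G] [Finite G] [AddCommGroup V] [Module (ZMod 2) V] (C : Ctx G V)
    (h0 : PQ C 0) {u w : V} (huw : C.S.B u w = 0) (hu : u ≠ 0) (hw : w ≠ 0) (hne : u ≠ w) :
    ∃ y : G, y * y = 1 ∧ y * C.t * y = C.t * ((Words.sg C.S u w : C.L) : G) ∧
      ∀ e, C.S.B u e = 0 → C.S.B w e = 0 → y * C.b e = C.b e * y := by
  have hln : IsLn C.S u w := by
    refine ⟨hu, fun h1 => ?_, huw⟩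
    rcases mem_ln.1 h1 with h2 | h2
    · exact hw h2
    · exact hne h2.symm
  obtain ⟨g, hg⟩ := h0 u w hu huw hln.hw
  obtain ⟨y, hy⟩ := exists_x C ⟨g, u, w, hln, hg.symm⟩ hln
  refine ⟨y, hy.sq, ?_, fun e h1 h2 => ?_⟩
  · rw [sg_eq_q]; exact hy.conj_t
  · exact hy.comm_b ((mem_perp_pl C.S).2 ⟨by rw [C.S.symm]; exact h1, by rw [C.S.symm]; exact h2⟩)

end Cfsg.Agent.OddHalf.SpTwo
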