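import Cfsg.Agent.OddHalf.SpTwo.Fix

/-!
# The action of `g` (with `t ↦ t z`, `z ↦ z`) on the stabilizer of a totally isotropic subspace

`Nrm C U z g`: `z` is an involution with `C_L(z) = Stab(U)`, and `g t g⁻¹ = t z`, `g z g⁻¹ = z`.
Then `g` normalises `⟨t⟩ × Stab(U)` and `⟨t⟩ × Q_U`.
-/

set_option autoImplicit false
set_option linter.unusedSimpArgs false

open scoped commutatorElement

namespace Cfsg.Agent.OddHalf.SpTwo

open Cfsg.Agent.StandardComponent.SpTwo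
open Cfsg.Agent.OddHalf.SpTwoN

theorem eq_one_of_three {G : Type*} [Group G] {N : Subgroup G} (hN : IsPGroup 2 N) {c : G} (hc : c ∈ N)
    (h3 : c * c * c = 1) : c = 1 := by
  obtain ⟨k, hk⟩ := hN ⟨c, hc⟩
  have hk' : c ^ 2 ^ k = 1 := congrArg Subtype.val hk
  have h3' : c ^ 3 = 1 := by rw [pow_succ, pow_two]; exact h3
  have h1 : orderOf c ∣ 2 ^ k := orderOf_dvd_of_pow_eq_one hk'
  have h2 : orderOf c ∣ 3 := orderOf_dvd_of_pow_eq_one h3'
  have h4 : orderOf c ∣ 1 := by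
    have : Nat.Coprime (2 ^ k) 3 := Nat.Coprime.pow_left k (by norm_num)
    rw [← this.gcd_eq_one]; exact Nat.dvd_gcd h1 h2
  rw [Nat.dvd_one, orderOf_eq_one_iff] at h4
  exact h4

section Sp

variable {X V : Type*} [Group X] [AddCommGroup V] [Module (ZMod 2) V] (D : SpData X V)

theorem τ_conj (a b : V) : D.τ a * D.τ b * D.τ a = D.τ (b + D.B b a • a) := by
  have := D.conj_τ (D.τ a) b
  rwa [D.τ_inv, D.hτ] at this

theorem ττ_three {a b : V} (h : D.B a b = 1) : (D.τ a * D.τ b) * (D.τ a * D.τ b) * (D.τ a * D.τ b) = 1 := by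
  have h1 : D.τ a * D.τ b * D.τ a = D.τ (b + a) := by rw [τ_conj, D.symm, h, one_smul]
  have h2 : D.τ b * D.τ a * D.τ b = D.τ (b + a) := by rw [τ_conj, h, one_smul, add_comm]
  calc (D.τ a * D.τ b) * (D.τ a * D.τ b) * (D.τ a * D.τ b) =
      (D.τ a * D.τ b * D.τ a) * (D.τ b * D.τ a * D.τ b) := by simp only [mul_assoc]
    _ = 1 := by rw [h1, h2, D.τ_sq]

theorem ττ_ne_one {a b : V} (h : D.B a b = 1) : D.τ a * D.τ b ≠ 1 := by
  intro h1
  have h2 : D.τ a = D.τ b := by rw [← D.τ_inv b]; exact eq_inv_of_mul_eq_one_left h1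
  have h3 := D.τ_injective h2
  rw [h3, D.alt] at h
  exact zero_ne_one h

/-- the seven-term relation -/
theorem seven {a b c : V} (hab : D.B a b = 0) (hac : D.B a c = 0) (hbc : D.B b c = 0) :
    D.τ a * D.τ b * D.τ c * D.τ (a + b) * D.τ (a + c) * D.τ (b + c) * D.τ (a + b + c) = 1 := by
  have hba : D.B b a = 0 := by rw [D.symm]; exact hab
  have hca : D.B c a = 0 := by rw [D.symm]; exact hac
  have hcb : D.B c b = 0 := by rw [D.symm]; exact hbc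
  apply D.ext_iff
  intro x
  apply ext_B D
  intro z
  simp only [D.ρ_mul, D.ρ_one, D.hτ, map_add, LinearMap.add_apply, map_smul, LinearMap.smul_apply, smul_eq_mul,
    D.alt, hab, hac, hbc, hba, hca, hcb, mul_zero, add_zero, zero_add]
  generalize D.B x a = x1
  generalize D.B x b = x2
  generalize D.B x c = x3
  generalize D.B a z = z1
  generalize D.B b z = z2
  generalize D.B c z = z3
  generalize D.B x z = k
  revert x1 x2 x3 z1 z2 z3 k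
  decide

end Sp

variable {G V : Type*} [Group G] [AddCommGroup V] [Module (ZMod 2) V] (C : Ctx G V)

/-- conjugation by an element of `⟨t⟩ × L` -/
theorem conj_lift {x : G} {x0 : C.L} (h : x = x0 ∨ x = C.t * x0) (y : C.L) :
    x * y * x⁻¹ = ((x0 * y * x0⁻¹ : C.L) : G) := by
  have e : ((x0 * y * x0⁻¹ : C.L) : G) = (x0 : G) * y * (x0 : G)⁻¹ := rfl
  rw [e]
  rcases h with rfl | rfl
  · rfl
  · have h4 : (x0 : G) * y * (x0 : G)⁻¹ * C.t = C.t * (x0 * y * (x0 : G)⁻¹) := t_comm C (x0 * y * x0⁻¹)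
    calc C.t * (x0 : G) * y * (C.t * (x0 : G))⁻¹ = C.t * (x0 * y * (x0 : G)⁻¹) * C.t⁻¹ := by group
      _ = _ := by rw [← h4]; group

theorem O2_step {U : Submodule (ZMod 2) V} {N : Subgroup G} (hN : IsPGroup 2 N)
    (hn : ∀ m ∈ PU C.S U, ∀ x ∈ N, (m : G) * x * (m : G)⁻¹ ∈ N) {x : G} (hx : x ∈ N) {x0 : C.L}
    (hx0 : x0 ∈ PU C.S U) (h : x = x0 ∨ x = C.t * x0) : ∀ w ∈ perp C.S U, C.S.ρ x0 w + w ∈ U := by
  have hfinV := C.finV
  intro w hw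
  by_contra hcon
  set w' := C.S.ρ x0 w with hw'
  have hw'P : w' ∈ perp C.S U := PU_perp C.S hx0 hw
  have hnot : w' ∉ U ⊔ ln w := by
    intro h1
    rcases mem_sup_ln.1 h1 with h2 | h2
    · exact hcon (add_mem h2 ((hx0 w).1 h2))
    · exact hcon h2
  -- the commutator
  have hc : ((C.S.τ w' * C.S.τ w : C.L) : G) ∈ N := by
    have h1 : x * ((C.S.τ w : C.L) : G) * x⁻¹ = (C.S.τ w' : C.L) := by
      rw [conj_lift C h, C.S.conj_τ]
    have h2 : ((C.S.τ w' * C.S.τ w : C.L) : G) =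
        x * (((C.S.τ w : C.L) : G) * x⁻¹ * ((C.S.τ w : C.L) : G)⁻¹) := by
      have h3 : ((C.S.τ w : C.L) : G)⁻¹ = (C.S.τ w : C.L) := congrArg Subtype.val (C.S.τ_inv w)
      rw [h3]
      change ((C.S.τ w' : C.L) : G) * (C.S.τ w : C.L) = _
      rw [← h1]; group
    rw [h2]
    exact mul_mem hx (hn _ (τ_mem_PU C.S hw) _ (inv_mem hx))
  rcases z2 (C.S.B w' w) with hb | hb
  · obtain ⟨u, hu, huw⟩ := sep C.S hnot
    rw [mem_perp_sup, mem_perp_ln] at hu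
    have hc2 := hn _ (τ_mem_PU C.S hu.1) _ hc
    have hc3 := mul_mem hc hc2
    have e : (C.S.τ w' * C.S.τ w) * (C.S.τ u * (C.S.τ w' * C.S.τ w) * (C.S.τ u)⁻¹) =
        C.S.τ w' * C.S.τ (w' + u) := by
      have e1 : C.S.τ u * (C.S.τ w' * C.S.τ w) * (C.S.τ u)⁻¹ =
          (C.S.τ u * C.S.τ w' * (C.S.τ u)⁻¹) * (C.S.τ u * C.S.τ w * (C.S.τ u)⁻¹) := by group
      have e2 : C.S.τ u * C.S.τ w' * (C.S.τ u)⁻¹ = C.S.τ (w' + u) := by
        rw [C.S.conj_τ, C.S.hτ, C.S.symm w' u, huw, one_smul]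
      have e3 : C.S.τ u * C.S.τ w * (C.S.τ u)⁻¹ = C.S.τ w := by
        rw [C.S.conj_τ, C.S.hτ, C.S.symm w u, hu.2, zero_smul, add_zero]
      have e4 : C.S.τ w * C.S.τ (w' + u) = C.S.τ (w' + u) * C.S.τ w := by
        apply C.S.τ_commute
        rw [map_add, C.S.symm w w', hb, C.S.symm w u, hu.2, add_zero]
      rw [e1, e2, e3, mul_assoc (C.S.τ w'), ← mul_assoc (C.S.τ w), e4, mul_assoc (C.S.τ (w' + u)),
        C.S.τ_sq, mul_one]
    have hB : C.S.B w' (w' + u) = 1 := by rw [map_add, C.S.alt, zero_add, C.S.symm, huw]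
    have e' : ((C.S.τ w' * C.S.τ w : C.L) : G) * ((C.S.τ u : G) * ((C.S.τ w' * C.S.τ w : C.L) : G) *
        (C.S.τ u : G)⁻¹) = ((C.S.τ w' * C.S.τ (w' + u) : C.L) : G) := congrArg Subtype.val e
    rw [e'] at hc3
    have h3 := eq_one_of_three hN hc3 (congrArg Subtype.val (ττ_three C.S hB))
    exact ττ_ne_one C.S hB (Subtype.ext h3)
  · have h3 := eq_one_of_three hN hc (congrArg Subtype.val (ττ_three C.S hb))
    exact ττ_ne_one C.S hb (Subtype.ext h3)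

/-- `g` moves `t` to `t z` and fixes `z`; `C_L(z) = Stab(U)` -/
structure Nrm (U : Submodule (ZMod 2) V) (z : C.L) (g : G) : Prop where
  cz : ∀ x : C.L, x * z = z * x ↔ x ∈ PU C.S U
  zz : z * z = 1
  ht : g * C.t * g⁻¹ = C.t * z
  hz : g * z * g⁻¹ = z

namespace Nrm

variable {C}
variable {U : Submodule (ZMod 2) V} {z : C.L} {g : G}

theorem zzG (H : Nrm C U z g) : (z : G) * z = 1 := congrArg Subtype.val H.zz

theorem inv (H : Nrm C U z g) : Nrm C U z g⁻¹ := by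
  have h1 : g⁻¹ * z * g = (z : G) := by
    calc g⁻¹ * (z : G) * g = g⁻¹ * (g * z * g⁻¹) * g := by rw [H.hz]
      _ = z := by group
  refine ⟨H.cz, H.zz, ?_, ?_⟩
  · rw [inv_inv]
    have h2 : C.t = g⁻¹ * C.t * g * z := by
      calc C.t = g⁻¹ * (g * C.t * g⁻¹) * g := by group
        _ = g⁻¹ * (C.t * z) * g := by rw [H.ht]
        _ = g⁻¹ * C.t * g * (g⁻¹ * z * g) := by group
        _ = _ := by rw [h1]
    calc g⁻¹ * C.t * g = g⁻¹ * C.t * g * (z * z) := by rw [H.zzG, mul_one]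
      _ = g⁻¹ * C.t * g * z * z := by group
      _ = _ := by rw [← h2]
  · rw [inv_inv]; exact h1

theorem t_mul (H : Nrm C U z g) : Nrm C U z (C.t * g) := by
  have h := t_comm C z
  refine ⟨H.cz, H.zz, ?_, ?_⟩
  · calc C.t * g * C.t * (C.t * g)⁻¹ = C.t * (g * C.t * g⁻¹) * C.t⁻¹ := by group
      _ = C.t * (C.t * z) * C.t⁻¹ := by rw [H.ht]
      _ = C.t * (z * C.t) * C.t⁻¹ := by rw [h]
      _ = _ := by group
  · calc C.t * g * z * (C.t * g)⁻¹ = C.t * (g * z * g⁻¹) * C.t⁻¹ := by group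
      _ = C.t * z * C.t⁻¹ := by rw [H.hz]
      _ = _ := by rw [← h]; group

theorem mul_left (H : Nrm C U z g) {m : C.L} (hm : m ∈ PU C.S U) : Nrm C U z (m * g) := by
  have h := t_comm C m
  have h2 : (m : G) * z = z * m := congrArg Subtype.val ((H.cz m).2 hm)
  refine ⟨H.cz, H.zz, ?_, ?_⟩
  · calc m * g * C.t * (m * g)⁻¹ = m * (g * C.t * g⁻¹) * (m : G)⁻¹ := by group
      _ = m * (C.t * z) * (m : G)⁻¹ := by rw [H.ht]
      _ = (m * C.t) * z * (m : G)⁻¹ := by group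
      _ = C.t * (m * z) * (m : G)⁻¹ := by rw [h]; group
      _ = _ := by rw [h2]; group
  · calc m * g * z * (m * g)⁻¹ = m * (g * z * g⁻¹) * (m : G)⁻¹ := by group
      _ = _ := by rw [H.hz, h2]; group

theorem PUmem (H : Nrm C U z g) {x : G} (hx : x ∈ TX C (PU C.S U)) : g * x * g⁻¹ ∈ TX C (PU C.S U) := by
  have h1 := TX_comm_t C hx
  have h2 : x * z = z * x := by
    obtain ⟨y, hy, hxy⟩ := hx
    have h3 : (y : G) * z = z * y := congrArg Subtype.val ((H.cz y).2 hy)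
    rcases hxy with rfl | rfl
    · exact h3
    · rw [mul_assoc, h3, ← mul_assoc, ← t_comm, mul_assoc]
  have h3 : g * x * g⁻¹ * z = z * (g * x * g⁻¹) := by
    calc g * x * g⁻¹ * z = g * x * g⁻¹ * (g * z * g⁻¹) := by rw [H.hz]
      _ = g * (x * z) * g⁻¹ := by group
      _ = (g * z * g⁻¹) * (g * x * g⁻¹) := by rw [h2]; group
      _ = _ := by rw [H.hz]
  have h4 : g * x * g⁻¹ * (C.t * z) = (C.t * z) * (g * x * g⁻¹) := by
    rw [← H.ht]
    calc g * x * g⁻¹ * (g * C.t * g⁻¹) = g * (x * C.t) * g⁻¹ := by group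
      _ = _ := by rw [h1]; group
  have h5 : g * x * g⁻¹ * C.t = C.t * (g * x * g⁻¹) := by
    have h5 : g * x * g⁻¹ * C.t * z = C.t * (g * x * g⁻¹) * z := by
      calc g * x * g⁻¹ * C.t * z = g * x * g⁻¹ * (C.t * z) := by group
        _ = C.t * (z * (g * x * g⁻¹)) := by rw [h4]; group
        _ = C.t * (g * x * g⁻¹) * z := by rw [← h3]; group
    exact mul_right_cancel h5
  obtain ⟨y, hy⟩ := exists_lift C h5
  refine ⟨y, ?_, hy⟩
  rw [← H.cz]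
  apply Subtype.ext
  change (y : G) * z = z * y
  rcases hy with hy | hy
  · rw [← hy]; exact h3
  · have h6 : C.t * ((y : G) * z) = C.t * (z * y) := by
      rw [← mul_assoc, ← hy, h3, hy, ← mul_assoc, t_comm, mul_assoc]
    exact mul_left_cancel h6

theorem exists_PU (H : Nrm C U z g) {x : C.L} (hx : x ∈ PU C.S U) :
    ∃ y : C.L, y ∈ PU C.S U ∧ (g * x * g⁻¹ = y ∨ g * x * g⁻¹ = C.t * y) :=
  H.PUmem ((coe_mem_TX C).2 hx)

/-- the technical condition: normal 2-subgroups of the stabilizer are trivial on `U` -/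
def Triv (C : Ctx G V) (U : Submodule (ZMod 2) V) : Prop :=
  ∀ N : Subgroup G, IsPGroup 2 N → (∀ m ∈ PU C.S U, ∀ x ∈ N, (m : G) * x * (m : G)⁻¹ ∈ N) →
    ∀ x ∈ N, ∀ x0 ∈ PU C.S U, (x = x0 ∨ x = C.t * x0) → ∀ u ∈ U, C.S.ρ x0 u = u

theorem QUmem (H : Nrm C U z g) (hU : U ≤ perp C.S U) (hT : Triv C U) {x : G}
    (hx : x ∈ TX C (QU C.S U)) : g * x * g⁻¹ ∈ TX C (QU C.S U) := by
  set N : Subgroup G := (TX C (QU C.S U)).map (MulAut.conj g).toMonoidHom with hN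
  have hxN : g * x * g⁻¹ ∈ N := ⟨x, hx, rfl⟩
  have hNp : IsPGroup 2 N := by
    apply IsPGroup.map
    apply TX_isPGroup
    intro y
    exact ⟨2, Subtype.ext (QU_pow_four C.S hU y.2)⟩
  have hNn : ∀ m ∈ PU C.S U, ∀ y ∈ N, (m : G) * y * (m : G)⁻¹ ∈ N := by
    rintro m hm y ⟨a, ha, rfl⟩
    have h1 := H.inv.PUmem ((coe_mem_TX C).2 hm)
    rw [inv_inv] at h1
    refine ⟨(g⁻¹ * m * g) * a * (g⁻¹ * m * g)⁻¹, ?_, ?_⟩
    · obtain ⟨k, hk, hk'⟩ := h1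
      obtain ⟨b, hb, hab⟩ := ha
      have hkt : g⁻¹ * m * g * C.t * (g⁻¹ * m * g)⁻¹ = C.t := by
        have : g⁻¹ * m * g ∈ TX C (PU C.S U) := ⟨k, hk, hk'⟩
        rw [TX_comm_t C this]; group
      have h2 := conj_lift C hk' b
      refine ⟨k * b * k⁻¹, QU_conj C.S hk hb, ?_⟩
      rcases hab with rfl | rfl
      · left; exact h2
      · right
        rw [← h2]
        calc g⁻¹ * m * g * (C.t * b) * (g⁻¹ * m * g)⁻¹ =
            (g⁻¹ * m * g * C.t * (g⁻¹ * m * g)⁻¹) * (g⁻¹ * m * g * b * (g⁻¹ * m * g)⁻¹) := by group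
          _ = _ := by rw [hkt]
    · change g * ((g⁻¹ * m * g) * a * (g⁻¹ * m * g)⁻¹) * g⁻¹ = m * (g * a * g⁻¹) * (m : G)⁻¹
      group
  have hxP : g * x * g⁻¹ ∈ TX C (PU C.S U) := H.PUmem (TX_mono C (QU_le_PU C.S) hx)
  obtain ⟨x0, hx0, hx0'⟩ := hxP
  exact ⟨x0, ⟨hT N hNp hNn _ hxN x0 hx0 hx0', O2_step C hNp hNn hxN hx0 hx0'⟩, hx0'⟩

/-- the elements of `Q_U` mapped into `Q_U` -/
def QF (_H : Nrm C U z g) : Subgroup C.L where
  carrier := {x | x ∈ QU C.S U ∧ ∃ y ∈ QU C.S U, g * (x : G) * g⁻¹ = (y : G)}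
  one_mem' := ⟨one_mem _, 1, one_mem _, by
    change g * (1 : G) * g⁻¹ = 1
    group⟩
  mul_mem' := by
    rintro a b ⟨ha, y, hy, hay⟩ ⟨hb, y', hy', hby⟩
    refine ⟨mul_mem ha hb, y * y', mul_mem hy hy', ?_⟩
    change g * ((a : G) * b) * g⁻¹ = (y : G) * y'
    rw [← hay, ← hby]; group
  inv_mem' := by
    rintro a ⟨ha, y, hy, hay⟩
    refine ⟨inv_mem ha, y⁻¹, inv_mem hy, ?_⟩
    change g * (a : G)⁻¹ * g⁻¹ = (y : G)⁻¹
    rw [← hay]; group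

theorem commutator_mem_QF (H : Nrm C U z g) (hU : U ≤ perp C.S U) (hT : Triv C U) {x m : C.L}
    (hx : x ∈ QU C.S U) (hm : m ∈ PU C.S U) : x * (m * x⁻¹ * m⁻¹) ∈ H.QF := by
  refine ⟨mul_mem hx (QU_conj C.S hm (inv_mem hx)), ?_⟩
  obtain ⟨y, hy, hy'⟩ := H.QUmem hU hT ((coe_mem_TX C).2 hx)
  obtain ⟨k, hk, hk'⟩ := H.exists_PU hm
  refine ⟨y * (k * y⁻¹ * k⁻¹), mul_mem hy (QU_conj C.S hk (inv_mem hy)), ?_⟩
  change g * ((x : G) * (m * (x : G)⁻¹ * (m : G)⁻¹)) * g⁻¹ = (y : G) * ((k * y⁻¹ * k⁻¹ : C.L) : G)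
  have h1 : g * ((x : G) * (m * (x : G)⁻¹ * (m : G)⁻¹)) * g⁻¹ =
      (g * x * g⁻¹) * ((g * m * g⁻¹) * (g * x * g⁻¹)⁻¹ * (g * m * g⁻¹)⁻¹) := by group
  have hkt : (g * m * g⁻¹) * C.t = C.t * (g * m * g⁻¹) := TX_comm_t C (A := PU C.S U) ⟨k, hk, hk'⟩
  have h2 := conj_lift C hk' y⁻¹
  have h2' : g * m * g⁻¹ * (y : G)⁻¹ * (g * m * g⁻¹)⁻¹ = ((k * y⁻¹ * k⁻¹ : C.L) : G) := h2
  rw [h1]
  rcases hy' with hy' | hy'
  · rw [hy', h2']
  · rw [hy', mul_inv_rev]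
    have hkt' : C.t * (g * m * g⁻¹)⁻¹ = (g * m * g⁻¹)⁻¹ * C.t := by
      rw [eq_inv_mul_iff_mul_eq, ← mul_assoc, hkt, mul_inv_cancel_right]
    have h3 : (g * m * g⁻¹) * ((y : G)⁻¹ * C.t⁻¹) * (g * m * g⁻¹)⁻¹ =
        (g * m * g⁻¹ * (y : G)⁻¹ * (g * m * g⁻¹)⁻¹) * C.t := by
      rw [C.t_inv, mul_assoc _ _ (g * m * g⁻¹)⁻¹, mul_assoc (y : G)⁻¹, hkt']
      simp only [mul_assoc]
    rw [h3, h2', mul_assoc C.t, ← mul_assoc (y : G)]
    have h4 : ((y : G) * ((k * y⁻¹ * k⁻¹ : C.L) : G)) * C.t = C.t * ((y : G) * ((k * y⁻¹ * k⁻¹ : C.L) : G)) :=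
      t_comm C (y * (k * y⁻¹ * k⁻¹))
    rw [h4, ← mul_assoc, C.tt, one_mul]

end Nrm

end Cfsg.Agent.OddHalf.SpTwo
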