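import Cfsg.Agent.OddHalf.SpTwo.EndCCGrow

/-!
# `Sp₂ₙ(2)`, the end of the pattern `(C, C)`

`C_G(t) = ⟨t⟩ × L`, `L = Sp(V)` over the field with two elements; for every point `u` there is an involution `y_u` with
`t ^ y_u = t b_u` centralising `C_L(b_u)`, and `y_u`, `y_v` commute for `u ⊥ v`.  Then there is `m : G →* ℤˣ` with
`m t = -1`.  Induction on a nondegenerate subspace `U`.
-/

set_option autoImplicit false

namespace Cfsg.Agent.OddHalf.SpTwo.EndCC

open Subgroup
open Cfsg.Agent.StandardComponent.SpTwo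
open Cfsg.Agent.OddHalf.SpTwoN
open Cfsg.Agent.OddHalf.SpTwoN.Words

/-- if `B = H A` then `|B : A| = |H : H ∩ A|` -/
theorem relIndex_of_cover {G : Type*} [Group G] {A B H : Subgroup G} (hH : H ≤ B)
    (hcov : ∀ b ∈ B, ∃ h ∈ H, ∃ a ∈ A, b = h * a) : A.relIndex B = A.relIndex H := by
  rw [relIndex, relIndex, index, index]
  symm
  refine Nat.card_congr (Equiv.ofBijective (fun q : H ⧸ A.subgroupOf H =>
    Quotient.liftOn' q (fun h => ((⟨h, hH h.2⟩ : B) : B ⧸ A.subgroupOf B)) ?_) ⟨?_, ?_⟩)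
  · intro a b hab
    rw [QuotientGroup.leftRel_apply, mem_subgroupOf] at hab
    rw [QuotientGroup.eq, mem_subgroupOf]
    exact hab
  · intro q1 q2 h
    obtain ⟨c1, rfl⟩ := QuotientGroup.mk_surjective q1
    obtain ⟨c2, rfl⟩ := QuotientGroup.mk_surjective q2
    have h1 : ((⟨c1, hH c1.2⟩ : B) : B ⧸ A.subgroupOf B) = ((⟨c2, hH c2.2⟩ : B) : B ⧸ A.subgroupOf B) := h
    rw [QuotientGroup.eq, mem_subgroupOf] at h1
    rw [QuotientGroup.eq, mem_subgroupOf]
    exact h1
  · intro q
    obtain ⟨b, rfl⟩ := QuotientGroup.mk_surjective q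
    obtain ⟨h, hh, a, ha, hb⟩ := hcov b b.2
    refine ⟨((⟨h, hh⟩ : H) : H ⧸ A.subgroupOf H), ?_⟩
    change ((⟨h, hH hh⟩ : B) : B ⧸ A.subgroupOf B) = _
    rw [QuotientGroup.eq, mem_subgroupOf]
    change h⁻¹ * (b : G) ∈ A
    rw [hb, inv_mul_cancel_left]
    exact ha

/-- Orbit-stabiliser, for conjugation. -/
theorem relIndex_centralizer_eq' {G : Type*} [Group G] (A : Subgroup G) (x : G) {ι : Type*}
    (f : ι → G) (hf : Function.Injective f)
    (h1 : ∀ a ∈ A, ∃ i, f i = a * x * a⁻¹) (h2 : ∀ i, ∃ a ∈ A, f i = a * x * a⁻¹) :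
    (centralizer ({x} : Set G)).relIndex A = Nat.card ι := by
  rw [relIndex, index]
  choose φ hφ using fun a : A => h1 a a.2
  have key : ∀ a c : A, φ a = φ c ↔ a⁻¹ * c ∈ (centralizer ({x} : Set G)).subgroupOf A := by
    intro a c
    rw [mem_subgroupOf, mem_centralizer_singleton_iff, ← hf.eq_iff, hφ, hφ]
    push_cast
    constructor
    · intro h
      calc (a : G)⁻¹ * c * x = (a : G)⁻¹ * (c * x * (c : G)⁻¹) * c := by group
        _ = (a : G)⁻¹ * (a * x * (a : G)⁻¹) * c := by rw [h]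
        _ = _ := by group
    · intro h
      calc (a : G) * x * (a : G)⁻¹ = a * (x * ((a : G)⁻¹ * c)) * (c : G)⁻¹ := by group
        _ = a * ((a : G)⁻¹ * c * x) * (c : G)⁻¹ := by rw [h]
        _ = _ := by group
  refine Nat.card_congr (Equiv.ofBijective (Quotient.lift φ fun a c h =>
    (key a c).2 (QuotientGroup.leftRel_apply.1 h)) ⟨?_, ?_⟩)
  · intro p q
    induction p using Quotient.inductionOn
    induction q using Quotient.inductionOn
    rename_i a c
    intro h
    exact Quotient.sound (QuotientGroup.leftRel_apply.2 ((key a c).1 h))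
  · intro i
    obtain ⟨a, ha, h⟩ := h2 i
    refine ⟨Quotient.mk _ ⟨a, ha⟩, hf ?_⟩
    change f (φ ⟨a, ha⟩) = f i
    rw [hφ, h]

/-- The group `R S`, `S` normalising `R`. -/
def prodSub {G : Type*} [Group G] (R S : Subgroup G) (h : ∀ s ∈ S, ∀ r ∈ R, s * r * s⁻¹ ∈ R) : Subgroup G where
  carrier := {g | ∃ r ∈ R, ∃ s ∈ S, g = r * s}
  one_mem' := ⟨1, one_mem _, 1, one_mem _, (one_mul 1).symm⟩
  mul_mem' := by
    rintro _ _ ⟨r, hr, s, hs, rfl⟩ ⟨r', hr', s', hs', rfl⟩
    exact ⟨r * (s * r' * s⁻¹), mul_mem hr (h s hs r' hr'), s * s', mul_mem hs hs', by group⟩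
  inv_mem' := by
    rintro _ ⟨r, hr, s, hs, rfl⟩
    refine ⟨s⁻¹ * r⁻¹ * s⁻¹⁻¹, h _ (inv_mem hs) _ (inv_mem hr), s⁻¹, inv_mem hs, by group⟩

theorem mem_prodSub {G : Type*} [Group G] {R S : Subgroup G} {h : ∀ s ∈ S, ∀ r ∈ R, s * r * s⁻¹ ∈ R} {g : G} :
    g ∈ prodSub R S h ↔ ∃ r ∈ R, ∃ s ∈ S, g = r * s := Iff.rfl

theorem mem_normalizer_of {G : Type*} [Group G] {R : Subgroup G} {g : G} (h1 : ∀ r ∈ R, g * r * g⁻¹ ∈ R)
    (h2 : ∀ r ∈ R, g⁻¹ * r * g ∈ R) : g ∈ normalizer (R : Set G) := by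
  rw [mem_normalizer_iff]
  intro r
  refine ⟨fun h => h1 r h, fun h => ?_⟩
  have := h2 _ h
  have e : g⁻¹ * (g * r * g⁻¹) * g = r := by group
  rwa [e] at this

namespace Loc

variable {G V : Type*} [Group G] [AddCommGroup V] [Module (ZMod 2) V] {C : Loc G V}

/-- `C_{R_u}(b_{u'}) = 1` for `(u, u') = 1` -/
theorem R_eq_one {u u' : V} (hu : u ≠ 0) (h : C.S.B u u' = 1) {y g : G} (hy : C.Y u y) (hg : g ∈ C.R u y)
    (hc : Commute g (C.b u')) : g = 1 := by
  have key : ∀ q ∈ C.Q u, Commute q (C.b u') → q = 1 := by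
    rintro _ ⟨q, hq, rfl⟩ hqc
    have h1 := (C.commute_iff q u').1 hqc
    exact congrArg Subtype.val (Qu_eq_one h hq h1)
  have ht := C.commute_t (C.b_mem u')
  have h1 : Commute (C.t * g * C.t * g⁻¹) (C.b u') :=
    ((ht.symm.mul_left hc).mul_left ht.symm).mul_left hc.inv_left
  have h2 := key _ hg.2.2 h1
  have h3 : Commute g C.t := by
    have h4 := mul_inv_eq_one.1 h2
    change g * C.t = C.t * g
    calc g * C.t = (C.t * g * C.t) * C.t := by rw [h4]
      _ = C.t * g * (C.t * C.t) := by group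
      _ = _ := by rw [C.tt, mul_one]
  exact key _ (mem_Q_of_R hu hy hg h3) hc

/-- two nonzero vectors of `U` are conjugate under `N ∩ L` -/
theorem Sub.trans {U : Submodule (ZMod 2) V} {N : Subgroup G} (h : Sub C U N) {v w : V} (hvU : v ∈ U)
    (hwU : w ∈ U) (hv : v ≠ 0) (hw : w ≠ 0) : ∃ g : C.L, (g : G) ∈ N ∧ C.S.ρ g v = w := by
  have key : ∀ a b : V, a ∈ U → b ∈ U → C.S.B a b = 1 → ∃ g : C.L, (g : G) ∈ N ∧ C.S.ρ g a = b := by
    intro a b ha hb hab
    refine ⟨C.S.τ (a + b), h.b_mem _ (add_mem ha hb), ?_⟩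
    rw [C.S.hτ, map_add, C.S.alt, hab, zero_add, one_smul, aac]
  rcases z2 (C.S.B v w) with h0 | h0
  · obtain ⟨z, hz, hz1, hz2⟩ := h.exists_sep hvU (add_mem hvU hwU) hv (fun h1 => hw (by
      have := aac v w
      rw [← h1, aa] at this
      exact this.symm))
    have hz3 : C.S.B z w = 1 := by
      rw [map_add, hz1] at hz2
      generalize C.S.B z w = a at *
      revert hz2; revert a; decide
    obtain ⟨g1, hg1, e1⟩ := key v z hvU hz (by rw [C.S.symm, hz1])
    obtain ⟨g2, hg2, e2⟩ := key z w hz hwU hz3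
    exact ⟨g2 * g1, mul_mem hg2 hg1, by rw [C.S.ρ_mul, e1, e2]⟩
  · exact key v w hvU hwU h0

/-- the number of nonzero vectors of `U` is odd -/
theorem odd_card [Finite V] {U : Submodule (ZMod 2) V} (hU : ∃ u ∈ U, u ≠ (0 : V)) :
    Odd (Nat.card {v : V // v ∈ U ∧ v ≠ 0}) := by
  classical
  have : FiniteDimensional (ZMod 2) U := Module.Finite.of_finite
  have h1 : Nat.card U = 2 ^ Module.finrank (ZMod 2) U := by
    have := Module.natCard_eq_pow_finrank (K := ZMod 2) (V := U)
    rw [Nat.card_zmod] at this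
    exact this
  have h2 : Nat.card U = Nat.card {v : V // v ∈ U ∧ v ≠ 0} + 1 := by
    have e : U ≃ Option {v : V // v ∈ U ∧ v ≠ 0} :=
      { toFun := fun v => if h : (v : V) = 0 then none else some ⟨v, v.2, h⟩
        invFun := fun o => o.elim 0 (fun v => ⟨v.1, v.2.1⟩)
        left_inv := fun v => by
          by_cases h : (v : V) = 0
          · simp only [h, dif_pos]
            exact Subtype.ext h.symm
          · simp only [h, dif_neg, not_false_iff]
            rfl
        right_inv := fun o => by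
          cases o with
          | none => simp
          | some v => simp [v.2.2] }
    rw [Nat.card_congr e, Finite.card_option]
  have h3 : Module.finrank (ZMod 2) U ≠ 0 := by
    intro h0
    obtain ⟨u, hu, hu0⟩ := hU
    rw [h0, pow_zero] at h1
    have : Subsingleton U := (Nat.card_eq_one_iff_unique.1 h1).1
    exact hu0 (congrArg Subtype.val (Subsingleton.elim (⟨u, hu⟩ : U) 0))
  obtain ⟨m, hm⟩ := Nat.exists_eq_succ_of_ne_zero h3
  rw [hm, pow_succ] at h1
  refine ⟨2 ^ m - 1, ?_⟩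
  have : 0 < 2 ^ m := by positivity
  omega

section main

variable (hC : Comm C) (hI : ∀ u, u ≠ 0 → ∃ y, C.Y u y)

include hC hI

/-- the induction -/
theorem grow [Finite V] : ∀ n, ∀ (U : Submodule (ZMod 2) V) (N : Subgroup G), Sub C U N → Nat.card U ≤ n →
    ∃ S ≤ N, (∀ s ∈ S, C.t * s * C.t ∈ S) ∧ (∀ s ∈ S, Commute s C.t → s ∈ C.L) ∧
      (∀ s ∈ S, (C.t * s) * (C.t * s) = 1 → ∃ c ∈ S, C.t * s = c * C.t * c⁻¹) ∧
      Odd ((S ⊓ C.L).relIndex (N ⊓ C.L)) := by
  intro n
  induction n with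
  | zero =>
    intro U N _ hn
    have : 0 < Nat.card U := Nat.card_pos
    omega
  | succ n ih =>
    intro U N h hn
    by_cases hU : ∃ u ∈ U, u ≠ (0 : V)
    swap
    · push Not at hU
      refine ⟨⊥, bot_le, ?_, ?_, ?_, ?_⟩
      · intro s hs
        rw [mem_bot.1 hs, mul_one, C.tt]
        exact one_mem _
      · intro s hs _
        rw [mem_bot.1 hs]; exact one_mem _
      · intro s hs _
        exact ⟨1, one_mem _, by rw [mem_bot.1 hs]; group⟩
      · have : N ⊓ C.L = ⊥ := by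
          rw [eq_bot_iff]
          rintro g ⟨hgN, hgL⟩
          have h1 : (⟨g, hgL⟩ : C.L) = 1 := by
            apply C.S.ext_iff
            intro v
            rw [C.S.ρ_one]
            apply h.fix _ hgN
            intro w hw
            rw [hU w hw, map_zero, LinearMap.zero_apply]
          exact mem_bot.2 (congrArg Subtype.val h1)
        rw [this, relIndex_bot_right]
        exact odd_one
    have hU' := hU
    obtain ⟨u, huU, hu⟩ := hU
    obtain ⟨u', hu'U, huu', -⟩ := h.exists_sep huU (zero_mem U) hu hu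
    rw [C.S.symm] at huu'
    obtain ⟨y, hyN, hy⟩ := h.y_mem u huU hu
    set R := C.R u y with hR
    set U1 : Submodule (ZMod 2) V := U ⊓ (LinearMap.ker (C.S.B u) ⊓ LinearMap.ker (C.S.B u')) with hU1
    have memU1 : ∀ v, v ∈ U1 ↔ v ∈ U ∧ C.S.B u v = 0 ∧ C.S.B u' v = 0 := by
      intro v
      rw [hU1, Submodule.mem_inf, Submodule.mem_inf, LinearMap.mem_ker, LinearMap.mem_ker]
    set N1 : Subgroup G := N ⊓ (centralizer ({C.b u, C.b u'} : Set G) ⊓ normalizer (R : Set G)) with hN1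
    have memN1 : ∀ g, g ∈ N1 ↔ g ∈ N ∧ (Commute g (C.b u) ∧ Commute g (C.b u')) ∧ g ∈ normalizer (R : Set G) := by
      intro g
      rw [hN1, mem_inf, mem_inf, mem_centralizer_iff]
      constructor
      · rintro ⟨h1, h2, h3⟩
        exact ⟨h1, ⟨(h2 (C.b u) (by simp)).symm, (h2 (C.b u') (by simp)).symm⟩, h3⟩
      · rintro ⟨h1, ⟨h2, h2'⟩, h3⟩
        refine ⟨h1, ?_, h3⟩
        rintro x (rfl | rfl)
        · exact h2.eq.symm
        · exact h2'.eq.symm
    have normL : ∀ x ∈ C.L, Commute x (C.b u) → x ∈ normalizer (R : Set G) := by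
      intro x hx hxu
      refine mem_normalizer_of (fun r hr => conj_R hy hx hxu hr) (fun r hr => ?_)
      have := conj_R hy (inv_mem hx) hxu.inv_left hr
      rwa [inv_inv] at this
    -- projection
    have hproj : ∀ v ∈ U, v + (C.S.B u' v) • u + (C.S.B u v) • u' ∈ U1 := by
      intro v hv
      rw [memU1]
      refine ⟨add_mem (add_mem hv (U.smul_mem _ huU)) (U.smul_mem _ hu'U), ?_, ?_⟩
      · simp only [map_add, map_smul, C.S.alt, huu', smul_eq_mul]
        generalize C.S.B u v = a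
        generalize C.S.B u' v = b
        revert a b; decide
      · simp only [map_add, map_smul, C.S.alt, C.S.symm u' u, huu', smul_eq_mul]
        generalize C.S.B u v = a
        generalize C.S.B u' v = b
        revert a b; decide
    have hsub : Sub C U1 N1 := by
      refine ⟨?_, ?_, ?_, ?_, ?_⟩
      · rw [memN1]
        refine ⟨h.t_mem, ⟨(C.commute_t (C.b_mem u)).symm, (C.commute_t (C.b_mem u')).symm⟩, ?_⟩
        refine mem_normalizer_of (fun r hr => ?_) (fun r hr => ?_)
        · rw [C.t_inv]; exact t_R hu hy hr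
        · rw [C.t_inv]; exact t_R hu hy hr
      · intro v hv
        obtain ⟨hvU, hv1, hv2⟩ := (memU1 v).1 hv
        rw [memN1]
        exact ⟨h.b_mem v hvU, ⟨(C.b_comm hv1).symm, (C.b_comm hv2).symm⟩,
          normL _ (C.b_mem v) (C.b_comm hv1).symm⟩
      · intro v hv hv0
        obtain ⟨hvU, hv1, hv2⟩ := (memU1 v).1 hv
        obtain ⟨z, hzN, hz⟩ := h.y_mem v hvU hv0
        refine ⟨z, ?_, hz⟩
        rw [memN1]
        refine ⟨hzN, ⟨(hz.2.2 _ (C.b_mem u) (C.b_comm hv1)).symm, (hz.2.2 _ (C.b_mem u') (C.b_comm hv2)).symm⟩, ?_⟩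
        have huv : u ≠ v := by
          rintro rfl
          rw [C.S.symm, huu'] at hv2
          exact absurd hv2 (by decide)
        refine mem_normalizer_of (fun r hr => ?_) (fun r hr => ?_)
        · rw [hz.inv]; exact norm_R hC hI hu hv0 huv hv1 hy hz hr
        · rw [hz.inv]; exact norm_R hC hI hu hv0 huv hv1 hy hz hr
      · intro g hg x hx
        obtain ⟨hgN, ⟨hg1, hg2⟩, -⟩ := (memN1 g).1 hg
        have e1 : C.S.ρ g u = u := (C.commute_iff g u).1 hg1
        have e2 : C.S.ρ g u' = u' := (C.commute_iff g u').1 hg2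
        have h1 : C.S.ρ g (x + (C.S.B u' x) • u + (C.S.B u x) • u') = x + (C.S.B u' x) • u + (C.S.B u x) • u' := by
          apply h.fix g hgN
          intro w hw
          have h2 := hx _ (hproj w hw)
          simp only [map_add, map_smul, LinearMap.add_apply, LinearMap.smul_apply, smul_eq_mul, C.S.symm w u,
            C.S.symm w u'] at h2 ⊢
          generalize C.S.B w x = a at *
          generalize C.S.B u' x = b at *
          generalize C.S.B u x = c at *
          generalize C.S.B u' w = d at *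
          generalize C.S.B u w = e at *
          revert h2
          clear * -
          revert a b c d e
          decide
        rw [map_add, map_add, map_smul, map_smul, e1, e2] at h1
        exact add_right_cancel (add_right_cancel h1)
      · intro x
        obtain ⟨v, hv, hxv⟩ := h.split x
        refine ⟨_, hproj v hv, fun w hw => ?_⟩
        obtain ⟨hwU, hw1, hw2⟩ := (memU1 w).1 hw
        have h1 := hxv w hwU
        rw [show x + (v + C.S.B u' v • u + C.S.B u v • u') = (x + v) + (C.S.B u' v • u + C.S.B u v • u') by abel,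
          map_add, h1, map_add, map_smul, map_smul, C.S.symm w u, hw1, C.S.symm w u', hw2]
        simp
    have hcard : Nat.card U1 ≤ n := by
      have hlt : U1 < U := by
        refine lt_of_le_of_ne inf_le_left (fun he => ?_)
        have h1 : u ∈ U1 := by rw [he]; exact huU
        have h2 := ((memU1 u).1 h1).2.2
        rw [C.S.symm, huu'] at h2
        exact absurd h2 (by decide)
      have h2 := SpData.two_mul_card_le hlt
      have h3 : 0 < Nat.card U1 := Nat.card_pos
      omega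
    obtain ⟨S1, hS1N, hS1t, hS1c, hS1i, hS1o⟩ := ih U1 N1 hsub hcard
    have hS1 : ∀ s ∈ S1, s ∈ N ∧ (Commute s (C.b u) ∧ Commute s (C.b u')) ∧ s ∈ normalizer (R : Set G) :=
      fun s hs => (memN1 s).1 (hS1N hs)
    have hnorm : ∀ s ∈ N1, ∀ r ∈ R ⊓ N, s * r * s⁻¹ ∈ R ⊓ N := by
      intro s hs r hr
      obtain ⟨h1, -, h3⟩ := (memN1 s).1 hs
      exact mem_inf.2 ⟨(mem_normalizer_iff.1 h3 r).1 hr.1, mul_mem (mul_mem h1 hr.2) (inv_mem h1)⟩
    have one_of : ∀ d ∈ R, Commute d (C.b u') → d = 1 := fun d hd hc => R_eq_one hu huu' hy hd hc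
    set S := prodSub (R ⊓ N) S1 (fun s hs => hnorm s (hS1N hs)) with hS
    have tN : ∀ r ∈ N, C.t * r * C.t ∈ N := fun r hr => mul_mem (mul_mem h.t_mem hr) h.t_mem
    have hQS : ∀ q ∈ C.Q u, q ∈ N → q ∈ S := fun q hq hqN =>
      ⟨q, ⟨Q_le_R hu hy hq, hqN⟩, 1, one_mem _, (mul_one q).symm⟩
    refine ⟨S, ?_, ?_, ?_, ?_, ?_⟩
    · rintro _ ⟨r, hr, s, hs, rfl⟩
      exact mul_mem hr.2 (hS1 s hs).1
    · rintro _ ⟨r, hr, s, hs, rfl⟩
      refine ⟨C.t * r * C.t, ⟨t_R hu hy hr.1, tN r hr.2⟩, C.t * s * C.t, hS1t s hs, ?_⟩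
      calc C.t * (r * s) * C.t = C.t * r * (1 : G) * s * C.t := by group
        _ = C.t * r * (C.t * C.t) * s * C.t := by rw [C.tt]
        _ = _ := by group
    · rintro _ ⟨r, hr, s, hs, rfl⟩ hc
      have h1 : r⁻¹ * (C.t * r * C.t) = s * (C.t * s * C.t)⁻¹ := by
        have h2 : (C.t * r * C.t) * (C.t * s * C.t) = r * s := by
          calc (C.t * r * C.t) * (C.t * s * C.t) = C.t * r * (C.t * C.t) * s * C.t := by group
            _ = C.t * (r * s) * C.t := by rw [C.tt]; group
            _ = (r * s * C.t) * C.t := by rw [← hc.eq]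
            _ = r * s * (C.t * C.t) := by group
            _ = r * s := by rw [C.tt, mul_one]
        rw [inv_mul_eq_iff_eq_mul, ← mul_assoc, ← h2, mul_inv_cancel_right]
      have h3 : r⁻¹ * (C.t * r * C.t) = 1 := by
        apply one_of _ (mul_mem (inv_mem hr.1) (t_R hu hy hr.1))
        rw [h1]
        exact ((hS1 s hs).2.1.2).mul_left ((hS1 _ (hS1t s hs)).2.1.2.inv_left)
      have h4 : C.t * r * C.t = r := (inv_mul_eq_one.1 h3).symm
      have h5 : C.t * s * C.t = s := by
        rw [h3] at h1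
        exact (mul_inv_eq_one.1 h1.symm).symm
      have comm_of : ∀ x : G, C.t * x * C.t = x → Commute x C.t := by
        intro x hx
        change x * C.t = C.t * x
        calc x * C.t = (C.t * x * C.t) * C.t := by rw [hx]
          _ = C.t * x * (C.t * C.t) := by group
          _ = _ := by rw [C.tt, mul_one]
      exact mul_mem (C.Q_le u (mem_Q_of_R hu hy hr.1 (comm_of r h4))) (hS1c s hs (comm_of s h5))
    · rintro _ ⟨r, hr, s, hs, rfl⟩ hinv
      set r1 := C.t * r * C.t with hr1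
      have hr1R : r1 ∈ R := t_R hu hy hr.1
      have hr1N : r1 ∈ N := tN r hr.2
      have e0 : C.t * (r * s) = r1 * (C.t * s) := by
        rw [hr1]
        calc C.t * (r * s) = C.t * r * (1 : G) * s := by group
          _ = C.t * r * (C.t * C.t) * s := by rw [C.tt]
          _ = _ := by group
      have htsN : C.t * s ∈ N1 := mul_mem hsub.t_mem (hS1N hs)
      have h1 : (C.t * s) * (C.t * s) = 1 := by
        apply one_of
        · have h2 : (C.t * s) * (C.t * s) = (r1 * ((C.t * s) * r1 * (C.t * s)⁻¹))⁻¹ := by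
            rw [e0] at hinv
            apply eq_inv_of_mul_eq_one_right
            rw [← hinv]
            group
          rw [h2]
          exact inv_mem (mul_mem hr1R (hnorm _ htsN r1 ⟨hr1R, hr1N⟩).1)
        · have h3 := ((memN1 _).1 htsN).2.1.2
          exact h3.mul_left h3
      obtain ⟨c, hcS, hc⟩ := hS1i s hs h1
      obtain ⟨hcN, -, -⟩ := hS1 c hcS
      set r2 := c⁻¹ * r1 * c with hr2
      have hr2RN : r2 ∈ R ⊓ N := by
        have := hnorm _ (inv_mem (hS1N hcS)) r1 ⟨hr1R, hr1N⟩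
        rwa [inv_inv] at this
      have e1 : C.t * (r * s) = c * (r2 * C.t) * c⁻¹ := by
        rw [e0, hc, hr2]; group
      have h4 : (r2 * C.t) * (r2 * C.t) = 1 := by
        rw [e1] at hinv
        have : (r2 * C.t) * (r2 * C.t) = c⁻¹ * (c * (r2 * C.t) * c⁻¹ * (c * (r2 * C.t) * c⁻¹)) * c := by group
        rw [this, hinv]; group
      have h5 := R_sq hC hI hu hy hr2RN.1
      have h6 : Commute r2 C.t := by
        change r2 * C.t = C.t * r2
        calc r2 * C.t = (r2 * C.t) * (r2 * C.t) * C.t⁻¹ * r2⁻¹ := by group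
          _ = C.t⁻¹ * r2⁻¹ := by rw [h4]; group
          _ = C.t * r2 := by rw [C.t_inv, inv_eq_of_mul_eq_one_right h5]
      have h7 := mem_Q_of_R hu hy hr2RN.1 h6
      obtain ⟨r3, hr3N, hr3R, hr33, hr3b⟩ := exists_bracket hC h hu huU hy hyN h7 hr2RN.2
      refine ⟨c * r3, ?_, ?_⟩
      · have h8 : c * r3 = (c * r3 * c⁻¹) * c := by group
        rw [h8]
        exact ⟨c * r3 * c⁻¹, hnorm c (hS1N hcS) r3 ⟨hr3R, hr3N⟩, c, hcS, rfl⟩
      · have h9 : r3 * C.t * r3⁻¹ = r2 * C.t := by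
          rw [h6.eq, ← hr3b]
          calc r3 * C.t * r3⁻¹ = (C.t * C.t) * r3 * C.t * r3⁻¹ := by rw [C.tt, one_mul]
            _ = _ := by group
        rw [e1, ← h9]
        group
    · -- the index
      set B0 : Subgroup G := centralizer ({C.b u} : Set G) ⊓ (N ⊓ C.L) with hB0
      have hSB : S ⊓ C.L ≤ B0 := by
        rintro g ⟨⟨r, hr, s, hs, rfl⟩, hgL⟩
        refine mem_inf.2 ⟨mem_centralizer_singleton_iff.2 ?_, mem_inf.2 ⟨mul_mem hr.2 (hS1 s hs).1, hgL⟩⟩
        exact ((hr.1.1 _ (C.b_mem_Q u)).mul_left (hS1 s hs).2.1.1).eq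
      have i1 := relIndex_mul_relIndex (S ⊓ C.L) B0 (N ⊓ C.L) hSB inf_le_right
      rw [← i1, hB0, inf_relIndex_right, ← hB0]
      have i2 : (centralizer ({C.b u} : Set G)).relIndex (N ⊓ C.L) = Nat.card {v : V // v ∈ U ∧ v ≠ 0} := by
        apply relIndex_centralizer_eq' _ _ (fun v => C.b v.1) (fun v w hvw => Subtype.ext (C.b_inj hvw))
        · rintro a ⟨haN, haL⟩
          refine ⟨⟨C.S.ρ ⟨a, haL⟩ u, h.ρ_mem ⟨a, haL⟩ haN huU, fun h0 => hu ?_⟩, ?_⟩
          · exact C.S.ρ_inj ⟨a, haL⟩ (by rw [h0, map_zero])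
          · exact (C.b_conj ⟨a, haL⟩ u).symm
        · rintro ⟨v, hvU, hv0⟩
          obtain ⟨g, hgN, hg⟩ := h.trans huU hvU hu hv0
          refine ⟨g, ⟨hgN, g.2⟩, ?_⟩
          change C.b v = _
          rw [C.b_conj, hg]
      rw [i2]
      refine Odd.mul ?_ (odd_card hU')
      have i3 : (S ⊓ C.L).relIndex B0 = (S ⊓ C.L).relIndex (N1 ⊓ C.L) := by
        apply relIndex_of_cover
        · rintro g ⟨hg, hgL⟩
          obtain ⟨hgN, hgc, -⟩ := (memN1 g).1 hg
          exact ⟨mem_centralizer_singleton_iff.2 hgc.1.eq, hgN, hgL⟩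
        · rintro g ⟨hgc, hgN, hgL⟩
          have hgc' : Commute g (C.b u) := mem_centralizer_singleton_iff.1 hgc
          have e1 : C.S.ρ ⟨g, hgL⟩ u = u := (C.commute_iff ⟨g, hgL⟩ u).1 hgc'
          set z' := C.S.ρ ⟨g, hgL⟩ u' with hz'
          have hz'U : z' ∈ U := h.ρ_mem ⟨g, hgL⟩ hgN hu'U
          have huz' : C.S.B u z' = 1 := by
            have := C.S.inv ⟨g, hgL⟩ u u'
            rw [e1] at this
            rw [hz', this, huu']
          set d := u' + z' with hd
          have hdU : d ∈ U := add_mem hu'U hz'U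
          have hud : C.S.B u d = 0 := by rw [hd, map_add, huu', huz']; decide
          set q : C.L := sg C.S u d * C.S.τ (C.S.B u' d • u) with hq
          have hqQ : q ∈ Qu C.S u := mul_mem (sg_mem_Qu hud) (τ_smul_mem_Qu u _)
          have hqN : (q : G) ∈ N := by
            change C.b u * C.b d * C.b (u + d) * C.b (C.S.B u' d • u) ∈ N
            exact mul_mem (mul_mem (mul_mem (h.b_mem u huU) (h.b_mem d hdU)) (h.b_mem _ (add_mem huU hdU)))
              (h.b_mem _ (U.smul_mem _ huU))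
          have hqu' : C.S.ρ q u' = z' := by
            have e1' : C.S.ρ (sg C.S u d) u' = u' + (C.S.B u' d • u + d) := by
              rw [ρ_sg C.S hud, C.S.symm u' u, huu', one_smul]
            have e2' : ∀ c : ZMod 2, C.S.ρ (C.S.τ (c • u)) u' = u' + c • u := by
              intro c
              rcases z2 c with hc | hc
              · rw [hc, zero_smul, C.S.τ_zero, C.S.ρ_one, add_zero]
              · rw [hc, one_smul, C.S.hτ, C.S.symm u' u, huu', one_smul]
            rw [hq, C.S.ρ_mul, e2', map_add, map_smul, (sg_mem_Qu hud).1, e1']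
            have e3' := aac (C.S.B u' d • u) d
            calc u' + (C.S.B u' d • u + d) + C.S.B u' d • u = u' + (C.S.B u' d • u + (C.S.B u' d • u + d)) := by
                  abel
              _ = u' + d := by rw [e3']
              _ = z' := aac u' z'
          have hqG : (q : G) ∈ C.Q u := ⟨q, hqQ, rfl⟩
          have hqi : (q : G)⁻¹ ∈ C.Q u := inv_mem hqG
          have hqc : Commute (q : G) (C.b u) := C.Q_comm hu hqG (C.b_mem_Q u)
          have hn : (q : G)⁻¹ * g ∈ N1 ⊓ C.L := by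
            have hL' : (q : G)⁻¹ * g ∈ C.L := mul_mem (inv_mem q.2) hgL
            have hc' : Commute ((q : G)⁻¹ * g) (C.b u) := hqc.inv_left.mul_left hgc'
            refine ⟨(memN1 _).2 ⟨mul_mem (inv_mem hqN) hgN, ⟨hc', ?_⟩, normL _ hL' hc'⟩, hL'⟩
            have e3 : C.S.ρ (q⁻¹ * ⟨g, hgL⟩) u' = u' := by
              rw [C.S.ρ_mul, ← hz', ← hqu', C.S.ρ_inv_apply]
            exact (C.commute_iff (q⁻¹ * ⟨g, hgL⟩) u').2 e3
          refine ⟨_, hn, ((q : G)⁻¹ * g)⁻¹ * q * ((q : G)⁻¹ * g), ?_, by group⟩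
          have hq2 : ((q : G)⁻¹ * g)⁻¹ * q * ((q : G)⁻¹ * g) ∈ C.Q u := by
            have hc' : Commute ((q : G)⁻¹ * g) (C.b u) := hqc.inv_left.mul_left hgc'
            have := C.Q_conj (inv_mem hn.2) hc'.inv_left hqG
            rwa [inv_inv] at this
          have hq3 : ((q : G)⁻¹ * g)⁻¹ * q * ((q : G)⁻¹ * g) ∈ N := by
            have h5 := mul_mem (inv_mem hqN) hgN
            exact mul_mem (mul_mem (inv_mem h5) hqN) h5
          exact ⟨hQS _ hq2 hq3, C.Q_le u hq2⟩
      rw [i3]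
      refine Odd.of_dvd_nat hS1o (relIndex_dvd_of_le_left _ ?_)
      rintro g ⟨hg, hgL⟩
      exact ⟨⟨1, one_mem _, g, hg, (one_mul g).symm⟩, hgL⟩

/-- **The end of the pattern `(C, C)`.** -/
theorem exists_hom [Finite G] [Finite V] : ∃ m : G →* ℤˣ, m C.t = -1 := by
  obtain ⟨S, -, hSt, hSc, hSi, hSo⟩ := grow hC hI (Nat.card (⊤ : Submodule (ZMod 2) V)) ⊤ ⊤ (sub_top hI) le_rfl
  have htS : C.t ∉ S := fun h => C.tL (hSc _ h (Commute.refl _))
  refine Cfsg.Agent.OddHalf.D7.Uni.Lay.exists_hom_of_free (F := S) (U := S ⊓ C.L) C.tt hSt htS ?_ hSi ?_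
  · intro w
    constructor
    · rintro ⟨h1, h2⟩
      refine ⟨h1, ?_⟩
      rw [← (C.commute_t h2).eq, mul_assoc, C.tt, mul_one]
    · rintro ⟨h1, h2⟩
      refine ⟨h1, hSc w h1 ?_⟩
      change w * C.t = C.t * w
      calc w * C.t = (C.t * w * C.t) * C.t := by rw [h2]
        _ = C.t * w * (C.t * C.t) := by group
        _ = _ := by rw [C.tt, mul_one]
  · have h1 : ((S ⊓ C.L) ⊔ zpowers C.t).relIndex (centralizer ({C.t} : Set G)) =
        ((S ⊓ C.L) ⊔ zpowers C.t).relIndex C.L := by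
      apply relIndex_of_cover
      · intro x hx
        rw [mem_centralizer_singleton_iff]
        exact (C.commute_t hx).eq
      · intro g hg
        have hg' : Commute g C.t := mem_centralizer_singleton_iff.1 hg
        rcases (C.cent g).1 hg' with h | h
        · exact ⟨g, h, 1, one_mem _, (mul_one g).symm⟩
        · refine ⟨C.t * g, h, C.t, mem_sup_right (mem_zpowers _), ?_⟩
          rw [mul_assoc, hg'.eq, ← mul_assoc, C.tt, one_mul]
    rw [h1]
    refine Odd.of_dvd_nat ?_ (relIndex_dvd_of_le_left _ (le_sup_left (a := S ⊓ C.L)))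
    rwa [top_inf_eq] at hSo

end main

end Loc

end Cfsg.Agent.OddHalf.SpTwo.EndCC
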