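import Cfsg.Agent.OddHalf.SpTwoN.Words
import Cfsg.Agent.OddHalf.D7.Uni.Lay

/-!
# `Sp₂ₙ(2)`, the end of the pattern `(C, C)`: facts about the groups `Q_u` and `R_u`

`Q_u` is the unipotent radical of the stabiliser of the point `u`.  The context `Loc G V`: `C_G(t) = ⟨t⟩ × L`, `L` acting
as a group of isometries containing all transvections.  `Y u y`: `y` is an involution with `t ^ y = t b_u` centralising
`C_L(b_u)`.
-/

set_option autoImplicit false

namespace Cfsg.Agent.OddHalf.SpTwo.EndCC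

open Subgroup
open Cfsg.Agent.StandardComponent.SpTwo
open Cfsg.Agent.OddHalf.SpTwoN
open Cfsg.Agent.OddHalf.SpTwoN.Words

section K

variable {X V : Type*} [Group X] [AddCommGroup V] [Module (ZMod 2) V] (D : SpData X V)

/-- The group acting trivially on `u` and on `u^⊥ / u`. -/
def Qu (u : V) : Subgroup X where
  carrier := {g | D.ρ g u = u ∧ ∀ w, D.B w u = 0 → ∃ c : ZMod 2, D.ρ g w = w + c • u}
  one_mem' := ⟨D.ρ_one u, fun w _ => ⟨0, by rw [D.ρ_one, zero_smul, add_zero]⟩⟩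
  mul_mem' := by
    rintro g h ⟨hg, hg'⟩ ⟨hh, hh'⟩
    refine ⟨by rw [D.ρ_mul, hh, hg], fun w hw => ?_⟩
    obtain ⟨c, hc⟩ := hh' w hw
    obtain ⟨c', hc'⟩ := hg' w hw
    refine ⟨c' + c, ?_⟩
    rw [D.ρ_mul, hc, map_add, map_smul, hg, hc', add_smul, add_assoc]
  inv_mem' := by
    rintro g ⟨hg, hg'⟩
    have hi : D.ρ g⁻¹ u = u := by
      apply D.ρ_inj g
      rw [D.ρ_apply_inv, hg]
    refine ⟨hi, fun w hw => ?_⟩
    obtain ⟨c, hc⟩ := hg' w hw
    refine ⟨c, ?_⟩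
    apply D.ρ_inj g
    rw [D.ρ_apply_inv, map_add, map_smul, hg, hc, add_assoc, aa, add_zero]

variable {D}

theorem mem_Qu {u : V} {g : X} :
    g ∈ Qu D u ↔ D.ρ g u = u ∧ ∀ w, D.B w u = 0 → ∃ c : ZMod 2, D.ρ g w = w + c • u := Iff.rfl

theorem sg_mem_Qu {u w : V} (h : D.B u w = 0) : sg D u w ∈ Qu D u := by
  refine ⟨?_, fun x hx => ⟨D.B x w, ?_⟩⟩
  · rw [ρ_sg D h, h, D.alt, zero_smul, zero_smul, add_zero, add_zero]
  · rw [ρ_sg D h, hx, zero_smul, add_zero]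

theorem τ_mem_Qu (u : V) : D.τ u ∈ Qu D u := by
  refine ⟨?_, fun x hx => ⟨0, ?_⟩⟩
  · rw [D.hτ, D.alt, zero_smul, add_zero]
  · rw [D.hτ, hx]

theorem τ_smul_mem_Qu (u : V) (c : ZMod 2) : D.τ (c • u) ∈ Qu D u := by
  rcases z2 c with h | h
  · rw [h, zero_smul, D.τ_zero]; exact one_mem _
  · rw [h, one_smul]; exact τ_mem_Qu u

theorem ττ_mem_Qu {u v : V} (h : D.B u v = 0) : D.τ v * D.τ (v + u) ∈ Qu D u := by
  have h1 : D.τ v * D.τ (v + u) = D.τ u * sg D u v := by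
    unfold sg
    rw [← mul_assoc, ← mul_assoc, D.τ_sq, one_mul, add_comm]
  rw [h1]
  exact mul_mem (τ_mem_Qu u) (sg_mem_Qu h)

/-- normal form of the elements of `Q_u` -/
theorem Qu_form {u e : V} (he : D.B u e = 1) {g : X} (hg : g ∈ Qu D u) :
    D.B u (D.ρ g e + e) = 0 ∧
      g = sg D u (D.ρ g e + e) * D.τ (D.B e (D.ρ g e + e) • u) := by
  obtain ⟨hu, hw⟩ := hg
  have h1 : D.B u (D.ρ g e + e) = 0 := by
    have h2 := D.inv g u e
    rw [hu] at h2
    rw [map_add, h2, he]; decide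
  refine ⟨h1, ?_⟩
  set z := D.ρ g e + e with hz
  have hge : D.ρ g e = e + z := by rw [hz, add_comm (D.ρ g e) e, aac]
  have hlam : ∀ w, D.B w u = 0 → D.ρ g w = w + D.B w z • u := by
    intro w hwu
    obtain ⟨c, hc⟩ := hw w hwu
    have h3 := D.inv g w e
    rw [hc, hge] at h3
    simp only [map_add, map_smul, LinearMap.add_apply, LinearMap.smul_apply, smul_eq_mul, he, h1] at h3
    rw [hc]
    congr 2
    clear hc
    generalize D.B w e = a at *
    generalize D.B w z = b at *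
    revert h3
    revert a b c
    decide
  apply D.ext_iff
  intro x
  have hx : x = (x + D.B x u • e) + D.B x u • e := by rw [add_assoc, aa, add_zero]
  have hxu : D.B (x + D.B x u • e) u = 0 := by
    rw [map_add, map_smul, LinearMap.add_apply, LinearMap.smul_apply, D.symm e u, he, smul_eq_mul, mul_one]
    generalize D.B x u = a
    revert a
    decide
  have h4 : D.ρ g x = x + D.B x u • e + D.B (x + D.B x u • e) z • u + D.B x u • (e + z) := by
    conv_lhs => rw [hx]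
    rw [map_add, map_smul, hge, hlam _ hxu]
  rw [h4, D.ρ_mul, ρ_sg D h1, D.hτ]
  have h1' : D.B z u = 0 := by rw [D.symm, h1]
  simp only [map_add, map_smul, LinearMap.add_apply, LinearMap.smul_apply, smul_eq_mul, D.alt, h1, mul_zero,
    add_zero]
  match_scalars <;> (generalize D.B x u = a; generalize D.B x z = b; generalize D.B e z = c; revert a b c; decide)

theorem exists_dual {u : V} (hu : u ≠ 0) : ∃ e, D.B u e = 1 := by
  by_contra hn
  push Not at hn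
  apply hu
  apply D.nondeg
  intro w
  rcases z2 (D.B u w) with h | h
  · exact h
  · exact absurd h (hn w)

theorem Qu_comm {u : V} (hu : u ≠ 0) {g h : X} (hg : g ∈ Qu D u) (hh : h ∈ Qu D u) : Commute g h := by
  obtain ⟨e, he⟩ := exists_dual (D := D) hu
  obtain ⟨h1, h2⟩ := Qu_form he hg
  obtain ⟨h3, h4⟩ := Qu_form he hh
  have key : ∀ (c : ZMod 2) (z : V), D.B u z = 0 → Commute (D.τ (c • u)) (sg D u z) := by
    intro c z hz
    rcases z2 c with h | h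
    · rw [h, zero_smul, D.τ_zero]; exact Commute.one_left _
    · rw [h, one_smul]
      exact commute_τ_sg D (D.alt u) hz
  have key2 : ∀ (c c' : ZMod 2), Commute (D.τ (c • u)) (D.τ (c' • u)) := by
    intro c c'
    apply D.τ_commute
    simp [D.alt]
  rw [h2, h4]
  exact Commute.mul_left (Commute.mul_right (commute_sg_sg D h1 h3) (key _ _ h1).symm)
    (Commute.mul_right (key _ _ h3) (key2 _ _))

theorem Qu_sq {u : V} (hu : u ≠ 0) {g : X} (hg : g ∈ Qu D u) : g * g = 1 := by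
  obtain ⟨e, he⟩ := exists_dual (D := D) hu
  obtain ⟨h1, h2⟩ := Qu_form he hg
  have h3 : D.τ (D.B e (D.ρ g e + e) • u) ∈ Qu D u := τ_smul_mem_Qu u _
  have h4 := Qu_comm hu (sg_mem_Qu h1) h3
  rw [h2]
  calc sg D u (D.ρ g e + e) * D.τ (D.B e (D.ρ g e + e) • u) * (sg D u (D.ρ g e + e) *
      D.τ (D.B e (D.ρ g e + e) • u)) = sg D u (D.ρ g e + e) * (D.τ (D.B e (D.ρ g e + e) • u) *
        sg D u (D.ρ g e + e)) * D.τ (D.B e (D.ρ g e + e) • u) := by group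
    _ = (sg D u (D.ρ g e + e) * sg D u (D.ρ g e + e)) * (D.τ (D.B e (D.ρ g e + e) • u) *
        D.τ (D.B e (D.ρ g e + e) • u)) := by rw [← h4.eq]; group
    _ = 1 := by rw [sg_sq D h1, D.τ_sq, one_mul]

theorem Qu_eq_one {u e : V} (he : D.B u e = 1) {g : X} (hg : g ∈ Qu D u) (h : D.ρ g e = e) : g = 1 := by
  obtain ⟨-, h2⟩ := Qu_form he hg
  rw [h, aa, sg_zero_right, map_zero, zero_smul, D.τ_zero, one_mul] at h2
  exact h2

/-- `C_X(Q_u) ≤ Q_u` -/
theorem mem_Qu_of_commute {u : V} (hu : u ≠ 0) {g : X} (hg : ∀ k ∈ Qu D u, Commute g k) : g ∈ Qu D u := by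
  have h1 : D.ρ g u = u := D.fix_of_τ_commute (hg _ (τ_mem_Qu u)).symm
  refine ⟨h1, fun w hw => ?_⟩
  obtain ⟨e, he⟩ := exists_dual (D := D) hu
  have hw' : D.B u w = 0 := by rw [D.symm, hw]
  have h2 := conj_sg D g u w
  rw [(hg _ (sg_mem_Qu hw')).eq, mul_inv_cancel_right, h1] at h2
  have h3 : D.B u (D.ρ g w) = 0 := by
    have := D.inv g u w
    rw [h1] at this
    rw [this, hw']
  have h4 := ρ_sg D hw' e
  rw [h2, ρ_sg D h3, D.symm e u, he, one_smul, one_smul] at h4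
  have h5 := add_left_cancel h4
  refine ⟨D.B e (D.ρ g w) + D.B e w, ?_⟩
  rw [add_smul]
  calc D.ρ g w = D.B e (D.ρ g w) • u + (D.B e (D.ρ g w) • u + D.ρ g w) := by rw [aac]
    _ = D.B e (D.ρ g w) • u + (D.B e w • u + w) := by rw [h5]
    _ = _ := by abel

theorem Qu_conj {u : V} {x g : X} (hx : D.ρ x u = u) (hg : g ∈ Qu D u) : x * g * x⁻¹ ∈ Qu D u := by
  obtain ⟨h1, h2⟩ := hg
  have hi : D.ρ x⁻¹ u = u := by
    apply D.ρ_inj x
    rw [D.ρ_apply_inv, hx]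
  refine ⟨by rw [D.ρ_mul, D.ρ_mul, hi, h1, hx], fun w hw => ?_⟩
  have h3 : D.B (D.ρ x⁻¹ w) u = 0 := by
    have := D.inv x⁻¹ w u
    rw [hi] at this
    rw [this, hw]
  obtain ⟨c, hc⟩ := h2 _ h3
  refine ⟨c, ?_⟩
  rw [D.ρ_mul, D.ρ_mul, hc, map_add, map_smul, D.ρ_apply_inv, hx]

/-- an element of `Q_u` moving `v` to `v + u` -/
theorem exists_swap {u v : V} (hv : v ≠ 0) (huv : v ≠ u) (h : D.B u v = 0) :
    ∃ k ∈ Qu D u, D.ρ k v = v + u := by
  obtain ⟨x, hx1, hx2⟩ := D.exists_sep hv huv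
  have h1 : D.B u x = 0 := by rw [D.symm, hx2]
  refine ⟨sg D u x, sg_mem_Qu h1, ?_⟩
  rw [ρ_sg D h1, D.symm v x, hx1, D.symm v u, h, one_smul, zero_smul, add_zero]

theorem Qu_apply {u v : V} {k : X} (hk : k ∈ Qu D u) (h : D.B u v = 0) : D.ρ k v = v ∨ D.ρ k v = v + u := by
  obtain ⟨c, hc⟩ := hk.2 v (by rw [D.symm, h])
  rcases z2 c with h1 | h1
  · left; rw [hc, h1, zero_smul, add_zero]
  · right; rw [hc, h1, one_smul]

end K

/-- `C_G(t) = ⟨t⟩ × L`, `L` a group of isometries containing the transvections -/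
structure Loc (G V : Type*) [Group G] [AddCommGroup V] [Module (ZMod 2) V] where
  t : G
  tt : t * t = 1
  L : Subgroup G
  S : SpData L V
  cent : ∀ g : G, Commute g t ↔ g ∈ L ∨ t * g ∈ L
  tL : t ∉ L

namespace Loc

variable {G V : Type*} [Group G] [AddCommGroup V] [Module (ZMod 2) V] (C : Loc G V)

/-- The transvections, as elements of `G`. -/
def b (u : V) : G := (C.S.τ u : G)

theorem b_mem (u : V) : C.b u ∈ C.L := (C.S.τ u).2

theorem b_sq (u : V) : C.b u * C.b u = 1 := congrArg Subtype.val (C.S.τ_sq u)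

theorem b_zero : C.b 0 = 1 := congrArg Subtype.val C.S.τ_zero

theorem b_inj {u v : V} (h : C.b u = C.b v) : u = v := C.S.τ_injective (Subtype.ext h)

theorem b_ne_one {u : V} (hu : u ≠ 0) : C.b u ≠ 1 := fun h => hu (C.b_inj (by rw [h, C.b_zero]))

theorem b_comm {u v : V} (h : C.S.B u v = 0) : Commute (C.b u) (C.b v) :=
  congrArg Subtype.val (C.S.τ_commute h)

theorem commute_iff (x : C.L) (u : V) : Commute (x : G) (C.b u) ↔ C.S.ρ x u = u := by
  constructor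
  · intro h
    have h1 : Commute (C.S.τ u) x := Subtype.ext h.symm
    exact C.S.fix_of_τ_commute h1
  · intro h
    exact (congrArg Subtype.val (C.S.τ_commute_of_fix h)).symm

theorem b_conj (g : C.L) (u : V) : (g : G) * C.b u * (g : G)⁻¹ = C.b (C.S.ρ g u) :=
  congrArg Subtype.val (C.S.conj_τ g u)

theorem commute_t {l : G} (hl : l ∈ C.L) : Commute l C.t := (C.cent l).2 (Or.inl hl)

theorem t_inv : C.t⁻¹ = C.t := inv_eq_of_mul_eq_one_right C.tt

/-- `Q_u` as a subgroup of `G` -/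
def Q (u : V) : Subgroup G := (Qu C.S u).map C.L.subtype

theorem mem_Q {u : V} {k : G} : k ∈ C.Q u ↔ ∃ x : C.L, x ∈ Qu C.S u ∧ (x : G) = k := Iff.rfl

theorem Q_le (u : V) : C.Q u ≤ C.L := by
  rintro _ ⟨x, -, rfl⟩
  exact x.2

theorem Q_comm {u : V} (hu : u ≠ 0) {g h : G} (hg : g ∈ C.Q u) (hh : h ∈ C.Q u) : Commute g h := by
  obtain ⟨x, hx, rfl⟩ := hg
  obtain ⟨y, hy, rfl⟩ := hh
  exact congrArg Subtype.val (Qu_comm hu hx hy).eq

theorem Q_sq {u : V} (hu : u ≠ 0) {g : G} (hg : g ∈ C.Q u) : g * g = 1 := by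
  obtain ⟨x, hx, rfl⟩ := hg
  exact congrArg Subtype.val (Qu_sq hu hx)

theorem b_mem_Q (u : V) : C.b u ∈ C.Q u := ⟨C.S.τ u, τ_mem_Qu u, rfl⟩

theorem bb_mem_Q {u v : V} (h : C.S.B u v = 0) : C.b v * C.b (v + u) ∈ C.Q u :=
  ⟨_, ττ_mem_Qu h, rfl⟩

theorem mem_Q_of_commute {u : V} (hu : u ≠ 0) {g : G} (hgL : g ∈ C.L) (hg : ∀ k ∈ C.Q u, Commute g k) :
    g ∈ C.Q u := by
  refine ⟨⟨g, hgL⟩, mem_Qu_of_commute hu fun k hk => ?_, rfl⟩
  exact Subtype.ext (hg (k : G) ⟨k, hk, rfl⟩)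

theorem Q_conj {u : V} {x g : G} (hx : x ∈ C.L) (hxu : Commute x (C.b u)) (hg : g ∈ C.Q u) :
    x * g * x⁻¹ ∈ C.Q u := by
  obtain ⟨y, hy, rfl⟩ := hg
  exact ⟨⟨x, hx⟩ * y * (⟨x, hx⟩ : C.L)⁻¹, Qu_conj ((C.commute_iff ⟨x, hx⟩ u).1 hxu) hy, rfl⟩

/-- `y` is an involution, `t ^ y = t b_u`, `y` centralises `C_L(b_u)` -/
def Y (u : V) (y : G) : Prop :=
  y * y = 1 ∧ y * C.t * y = C.t * C.b u ∧ ∀ x ∈ C.L, Commute x (C.b u) → Commute x y

variable {C}

theorem Y.conj {u : V} {y : G} (h : C.Y u y) (x : C.L) : C.Y (C.S.ρ x u) ((x : G) * y * (x : G)⁻¹) := by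
  obtain ⟨h1, h2, h3⟩ := h
  have hxt := C.commute_t x.2
  have hxt' : (x : G)⁻¹ * C.t * (x : G) = C.t := by
    rw [mul_assoc, ← hxt.eq, inv_mul_cancel_left]
  refine ⟨?_, ?_, ?_⟩
  · calc (x : G) * y * (x : G)⁻¹ * ((x : G) * y * (x : G)⁻¹) = (x : G) * (y * y) * (x : G)⁻¹ := by group
      _ = 1 := by rw [h1]; group
  · calc (x : G) * y * (x : G)⁻¹ * C.t * ((x : G) * y * (x : G)⁻¹)
        = (x : G) * (y * ((x : G)⁻¹ * C.t * (x : G)) * y) * (x : G)⁻¹ := by group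
      _ = (x : G) * (C.t * C.b u) * (x : G)⁻¹ := by rw [hxt', h2]
      _ = ((x : G) * C.t) * C.b u * (x : G)⁻¹ := by group
      _ = C.t * ((x : G) * C.b u * (x : G)⁻¹) := by rw [hxt.eq]; group
      _ = C.t * C.b (C.S.ρ x u) := by rw [C.b_conj]
  · intro z hz hzc
    have h4 : Commute ((x : G)⁻¹ * z * (x : G)) (C.b u) := by
      have h5 : C.b u = (x : G)⁻¹ * C.b (C.S.ρ x u) * (x : G) := by rw [← C.b_conj]; group
      change (x : G)⁻¹ * z * (x : G) * C.b u = C.b u * ((x : G)⁻¹ * z * (x : G))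
      rw [h5]
      calc (x : G)⁻¹ * z * (x : G) * ((x : G)⁻¹ * C.b (C.S.ρ x u) * (x : G))
          = (x : G)⁻¹ * (z * C.b (C.S.ρ x u)) * (x : G) := by group
        _ = (x : G)⁻¹ * (C.b (C.S.ρ x u) * z) * (x : G) := by rw [hzc.eq]
        _ = _ := by group
    have h6 := h3 _ (mul_mem (mul_mem (inv_mem x.2) hz) x.2) h4
    change z * ((x : G) * y * (x : G)⁻¹) = (x : G) * y * (x : G)⁻¹ * z
    calc z * ((x : G) * y * (x : G)⁻¹) = (x : G) * (((x : G)⁻¹ * z * (x : G)) * y) * (x : G)⁻¹ := by group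
      _ = (x : G) * (y * ((x : G)⁻¹ * z * (x : G))) * (x : G)⁻¹ := by rw [h6.eq]
      _ = _ := by group

/-- `t y = y t b_u` -/
theorem Y.t_mul {u : V} {y : G} (h : C.Y u y) : C.t * y = y * (C.t * C.b u) := by
  rw [← h.2.1]
  calc C.t * y = (y * y) * C.t * y := by rw [h.1, one_mul]
    _ = _ := by group

theorem Y.mul_t {u : V} {y : G} (h : C.Y u y) : y * C.t = C.t * C.b u * y := by
  rw [← h.2.1]
  calc y * C.t = y * C.t * (y * y) := by rw [h.1, mul_one]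
    _ = _ := by group

theorem Y.inv {u : V} {y : G} (h : C.Y u y) : y⁻¹ = y := inv_eq_of_mul_eq_one_right h.1

theorem Y.not_commute {u : V} {y : G} (hu : u ≠ 0) (h : C.Y u y) : ¬ Commute y C.t := by
  intro hc
  have h1 := h.2.1
  rw [hc.eq, mul_assoc, h.1, mul_one] at h1
  exact C.b_ne_one hu (by
    have := mul_left_cancel ((mul_one C.t).trans h1)
    exact this.symm)

variable (C)

/-- the group `R_u` -/
def R (u : V) (y : G) : Subgroup G where
  carrier := {g | (∀ k ∈ C.Q u, Commute g k) ∧ Commute g y ∧ C.t * g * C.t * g⁻¹ ∈ C.Q u}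
  one_mem' := ⟨fun k _ => Commute.one_left k, Commute.one_left y, by
    rw [mul_one, C.tt, inv_one, mul_one]; exact one_mem _⟩
  mul_mem' := by
    rintro g h ⟨g1, g2, g3⟩ ⟨h1, h2, h3⟩
    refine ⟨fun k hk => (g1 k hk).mul_left (h1 k hk), g2.mul_left h2, ?_⟩
    have h4 : C.t * (g * h) * C.t * (g * h)⁻¹ = C.t * g * C.t * g⁻¹ * (C.t * h * C.t * h⁻¹) := by
      have h5 := (g1 _ h3).eq
      calc C.t * (g * h) * C.t * (g * h)⁻¹ = C.t * g * (C.t * C.t) * h * C.t * h⁻¹ * g⁻¹ := by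
            rw [C.tt]; group
        _ = C.t * g * C.t * (C.t * h * C.t * h⁻¹) * g⁻¹ := by group
        _ = C.t * g * C.t * g⁻¹ * (g * (C.t * h * C.t * h⁻¹)) * g⁻¹ := by group
        _ = C.t * g * C.t * g⁻¹ * (C.t * h * C.t * h⁻¹ * g) * g⁻¹ := by rw [h5]
        _ = _ := by group
    rw [h4]
    exact mul_mem g3 h3
  inv_mem' := by
    rintro g ⟨g1, g2, g3⟩
    refine ⟨fun k hk => (g1 k hk).inv_left, g2.inv_left, ?_⟩
    have h5 := (g1 _ (inv_mem g3)).eq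
    have h4 : C.t * g⁻¹ * C.t * g⁻¹⁻¹ = (C.t * g * C.t * g⁻¹)⁻¹ := by
      have h6 : (C.t * g * C.t * g⁻¹)⁻¹ = g * C.t * g⁻¹ * C.t := by
        rw [mul_inv_rev, mul_inv_rev, mul_inv_rev, C.t_inv, inv_inv]; group
      have h7 : g⁻¹ * (C.t * g * C.t * g⁻¹)⁻¹ * g = (C.t * g * C.t * g⁻¹)⁻¹ := by
        rw [mul_assoc, ← h5, inv_mul_cancel_left]
      rw [← h7, h6]
      group
    rw [h4]
    exact inv_mem g3

variable {C}

theorem mem_R {u : V} {y g : G} :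
    g ∈ C.R u y ↔ (∀ k ∈ C.Q u, Commute g k) ∧ Commute g y ∧ C.t * g * C.t * g⁻¹ ∈ C.Q u := Iff.rfl

theorem bracket_mul {u : V} {g h : G} (g1 : ∀ k ∈ C.Q u, Commute g k) (h3 : C.t * h * C.t * h⁻¹ ∈ C.Q u) :
    C.t * (g * h) * C.t * (g * h)⁻¹ = C.t * g * C.t * g⁻¹ * (C.t * h * C.t * h⁻¹) := by
  have h5 := (g1 _ h3).eq
  calc C.t * (g * h) * C.t * (g * h)⁻¹ = C.t * g * (C.t * C.t) * h * C.t * h⁻¹ * g⁻¹ := by
        rw [C.tt]; group
    _ = C.t * g * C.t * (C.t * h * C.t * h⁻¹) * g⁻¹ := by group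
    _ = C.t * g * C.t * g⁻¹ * (g * (C.t * h * C.t * h⁻¹)) * g⁻¹ := by group
    _ = C.t * g * C.t * g⁻¹ * (C.t * h * C.t * h⁻¹ * g) * g⁻¹ := by rw [h5]
    _ = _ := by group

theorem Y.comm_Q {u : V} {y : G} (h : C.Y u y) (hu : u ≠ 0) {k : G} (hk : k ∈ C.Q u) : Commute y k :=
  (h.2.2 k (C.Q_le u hk) (C.Q_comm hu hk (C.b_mem_Q u))).symm

/-- elements of `G` commuting with `t` and with `Q_u` -/
theorem mem_Q_or {u : V} (hu : u ≠ 0) {g : G} (ht : Commute g C.t) (hg : ∀ k ∈ C.Q u, Commute g k) :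
    g ∈ C.Q u ∨ C.t * g ∈ C.Q u := by
  rcases (C.cent g).1 ht with h | h
  · exact Or.inl (C.mem_Q_of_commute hu h hg)
  · refine Or.inr (C.mem_Q_of_commute hu h fun k hk => ?_)
    exact (C.commute_t (C.Q_le u hk)).symm.mul_left (hg k hk)

theorem Q_le_R {u : V} (hu : u ≠ 0) {y : G} (hy : C.Y u y) : C.Q u ≤ C.R u y := by
  intro k hk
  refine ⟨fun l hl => C.Q_comm hu hk hl, (hy.comm_Q hu hk).symm, ?_⟩
  have h := C.commute_t (C.Q_le u hk)
  rw [← h.eq, mul_assoc k, C.tt, mul_one, mul_inv_cancel]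
  exact one_mem _

/-- `C_{R_u}(t) = Q_u` -/
theorem mem_Q_of_R {u : V} (hu : u ≠ 0) {y : G} (hy : C.Y u y) {g : G} (hg : g ∈ C.R u y)
    (ht : Commute g C.t) : g ∈ C.Q u := by
  rcases mem_Q_or hu ht hg.1 with h | h
  · exact h
  · exfalso
    apply hy.not_commute hu
    have h1 := (hy.comm_Q hu h).symm
    have h2 := h1.mul_left (hg.2.1.inv_left)
    rw [mul_inv_cancel_right] at h2
    exact h2.symm

theorem t_R {u : V} (hu : u ≠ 0) {y : G} (hy : C.Y u y) {g : G} (hg : g ∈ C.R u y) :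
    C.t * g * C.t ∈ C.R u y := by
  obtain ⟨g1, g2, g3⟩ := hg
  have hb := (g1 _ (C.b_mem_Q u))
  refine ⟨fun k hk => ?_, ?_, ?_⟩
  · have h := (C.commute_t (C.Q_le u hk)).symm
    exact (h.mul_left (g1 k hk)).mul_left h
  · -- t g t commutes with y, as g commutes with y b
    have h1 : C.t * y * C.t = y * C.b u := by
      rw [hy.t_mul, mul_assoc, mul_assoc, (C.commute_t (C.b_mem u)).eq, ← mul_assoc C.t C.t, C.tt, one_mul]
    have h2 : Commute g (C.t * y * C.t) := by rw [h1]; exact g2.mul_right hb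
    change C.t * g * C.t * y = y * (C.t * g * C.t)
    calc C.t * g * C.t * y = C.t * (g * (C.t * y * C.t)) * C.t := by
          rw [← mul_assoc, ← mul_assoc, ← mul_assoc]
          rw [mul_assoc _ C.t C.t, C.tt, mul_one]
      _ = C.t * ((C.t * y * C.t) * g) * C.t := by rw [h2.eq]
      _ = (C.t * C.t) * y * (C.t * g * C.t) := by group
      _ = y * (C.t * g * C.t) := by rw [C.tt, one_mul]
  · have h3 : C.t * (C.t * g * C.t) * C.t * (C.t * g * C.t)⁻¹ = C.t * (C.t * g * C.t * g⁻¹)⁻¹ * C.t := by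
      have h4 : (C.t * g * C.t)⁻¹ = C.t * g⁻¹ * C.t := by
        rw [mul_inv_rev, mul_inv_rev, C.t_inv, mul_assoc]
      have h5 : (C.t * g * C.t * g⁻¹)⁻¹ = g * (C.t * g⁻¹ * C.t) := by
        rw [mul_inv_rev, h4, inv_inv]
      rw [h4, h5]
      calc C.t * (C.t * g * C.t) * C.t * (C.t * g⁻¹ * C.t) = (C.t * C.t) * g * (C.t * C.t) * C.t * g⁻¹ * C.t := by
            group
        _ = g * C.t * g⁻¹ * C.t := by rw [C.tt]; group
        _ = (C.t * C.t) * g * C.t * g⁻¹ * C.t := by rw [C.tt]; group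
        _ = C.t * (C.t * g * C.t * g⁻¹) * C.t := by group
        _ = C.t * (g * (C.t * g⁻¹ * C.t)) * C.t := ?_
      -- both are in `Q`, of order two
      congr 2
      have h6 := C.Q_sq hu g3
      rw [← h5]
      exact eq_inv_of_mul_eq_one_left h6
    rw [h3]
    have h6 := C.commute_t (C.Q_le u (inv_mem g3))
    rw [← h6.eq, mul_assoc, C.tt, mul_one]
    exact inv_mem g3

theorem conj_R {u : V} {y : G} (hy : C.Y u y) {x g : G} (hx : x ∈ C.L) (hxu : Commute x (C.b u))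
    (hg : g ∈ C.R u y) : x * g * x⁻¹ ∈ C.R u y := by
  obtain ⟨g1, g2, g3⟩ := hg
  have hxy := hy.2.2 x hx hxu
  have hxt := C.commute_t hx
  refine ⟨fun k hk => ?_, ?_, ?_⟩
  · have h1 : x⁻¹ * k * x ∈ C.Q u := by
      have := C.Q_conj (inv_mem hx) hxu.inv_left hk
      rwa [inv_inv] at this
    have h2 := (g1 _ h1).eq
    change x * g * x⁻¹ * k = k * (x * g * x⁻¹)
    calc x * g * x⁻¹ * k = x * (g * (x⁻¹ * k * x)) * x⁻¹ := by group
      _ = x * ((x⁻¹ * k * x) * g) * x⁻¹ := by rw [h2]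
      _ = _ := by group
  · exact (hxy.mul_left g2).mul_left hxy.inv_left
  · have h4 : C.t * (x * g * x⁻¹) * C.t * (x * g * x⁻¹)⁻¹ = x * (C.t * g * C.t * g⁻¹) * x⁻¹ := by
      calc C.t * (x * g * x⁻¹) * C.t * (x * g * x⁻¹)⁻¹
          = (C.t * x) * g * (x⁻¹ * C.t) * x * g⁻¹ * x⁻¹ := by group
        _ = (x * C.t) * g * (C.t * x⁻¹) * x * g⁻¹ * x⁻¹ := by rw [hxt.eq, hxt.inv_left.eq]
        _ = _ := by group
    rw [h4]
    exact C.Q_conj hx hxu g3

end Loc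

end Cfsg.Agent.OddHalf.SpTwo.EndCC
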