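import Cfsg.Agent.OddHalf.SpTwo.EndCCBase

/-!
# `Sp₂ₙ(2)`, the end of the pattern `(C, C)`: `R_u` is elementary abelian, normalised by `y_v` for `v ⊥ u`
-/

set_option autoImplicit false

namespace Cfsg.Agent.OddHalf.SpTwo.EndCC

open Subgroup
open Cfsg.Agent.StandardComponent.SpTwo
open Cfsg.Agent.OddHalf.SpTwoN
open Cfsg.Agent.OddHalf.SpTwoN.Words

namespace Loc

variable {G V : Type*} [Group G] [AddCommGroup V] [Module (ZMod 2) V]

/-- (I2): the involutions `y` of perpendicular points commute -/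
def Comm (C : Loc G V) : Prop :=
  ∀ u v y z, u ≠ 0 → v ≠ 0 → u ≠ v → C.S.B u v = 0 → C.Y u y → C.Y v z → Commute y z

variable {C : Loc G V}

/-- the bracket `t g t g⁻¹` of the product `y_u y_w y_{w+u}` -/
theorem line (hC : Comm C) {N : Subgroup G} {u w : V} (hu : u ≠ 0) (hw : w ≠ 0) (huw : w ≠ u)
    (h : C.S.B u w = 0) {y z : G} (hy : C.Y u y) (hyN : y ∈ N) (hz : C.Y w z) (hzN : z ∈ N)
    (k : C.L) (hk : k ∈ Qu C.S u) (hkN : (k : G) ∈ N) (hkw : C.S.ρ k w = w + u) :
    ∃ r ∈ N, r ∈ C.R u y ∧ r * r = 1 ∧ C.t * r * C.t * r⁻¹ = C.b u * C.b w * C.b (w + u) := by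
  have hwu0 : w + u ≠ 0 := fun h0 => huw (eq_of_add _ _ h0)
  have huw' : u ≠ w + u := fun h0 => hw (by
    have : w = w + u + u := (aab w u).symm
    rw [this, ← h0, aa])
  have hww' : w ≠ w + u := fun h0 => hu (by
    have h1 := aac w u
    rw [← h0, aa] at h1
    exact h1.symm)
  have hpu : C.S.B u (w + u) = 0 := by rw [map_add, h, C.S.alt, add_zero]
  have hpw : C.S.B w (w + u) = 0 := by rw [map_add, C.S.alt, C.S.symm, h, add_zero]
  have hkQ : (k : G) ∈ C.Q u := ⟨k, hk, rfl⟩
  have hkk : (k : G) * k = 1 := C.Q_sq hu hkQ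
  have hz' : C.Y (w + u) ((k : G) * z * (k : G)⁻¹) := by
    have := hz.conj k
    rwa [hkw] at this
  set z' := (k : G) * z * (k : G)⁻¹ with hz'def
  have c1 : Commute y z := hC _ _ _ _ hu hw huw.symm h hy hz
  have c2 : Commute y z' := hC _ _ _ _ hu hwu0 huw' hpu hy hz'
  have c3 : Commute z z' := hC _ _ _ _ hw hwu0 hww' hpw hz hz'
  have hyk : Commute y (k : G) := hy.comm_Q hu hkQ
  have hkz' : (k : G) * z' * (k : G)⁻¹ = z := by
    rw [hz'def]
    calc (k : G) * ((k : G) * z * (k : G)⁻¹) * (k : G)⁻¹ = ((k : G) * k) * z * ((k : G) * k)⁻¹ := by group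
      _ = z := by rw [hkk]; group
  -- bracket
  have hb1 : C.t * z' = z' * (C.t * C.b (w + u)) := hz'.t_mul
  have hbw : C.t * z = z * (C.t * C.b w) := hz.t_mul
  have hbu : C.t * y = y * (C.t * C.b u) := hy.t_mul
  have m1 : Commute (C.b u) z := hz.2.2 _ (C.b_mem u) (C.b_comm h)
  have m2 : Commute (C.b u) z' := hz'.2.2 _ (C.b_mem u) (C.b_comm hpu)
  have m3 : Commute (C.b w) z' := hz'.2.2 _ (C.b_mem w) (C.b_comm hpw)
  have hbr : C.t * (y * z * z') * C.t * (y * z * z')⁻¹ = C.b u * C.b w * C.b (w + u) := by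
    have h1 : C.t * (y * z * z') = (y * z * z') * (C.t * (C.b u * C.b w * C.b (w + u))) := by
      calc C.t * (y * z * z') = (C.t * y) * z * z' := by group
        _ = y * (C.t * C.b u) * z * z' := by rw [hbu]
        _ = y * C.t * (C.b u * z) * z' := by group
        _ = y * C.t * (z * C.b u) * z' := by rw [m1.eq]
        _ = y * (C.t * z) * C.b u * z' := by group
        _ = y * (z * (C.t * C.b w)) * C.b u * z' := by rw [hbw]
        _ = y * z * C.t * C.b w * (C.b u * z') := by group
        _ = y * z * C.t * (C.b w * z') * C.b u := by rw [m2.eq]; group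
        _ = y * z * (C.t * z') * C.b w * C.b u := by rw [m3.eq]; group
        _ = y * z * (z' * (C.t * C.b (w + u))) * (C.b w * C.b u) := by rw [hb1]; group
        _ = y * z * (z' * (C.t * C.b (w + u))) * (C.b u * C.b w) := by rw [(C.b_comm h).eq]
        _ = y * z * z' * (C.t * (C.b (w + u) * (C.b u * C.b w))) := by group
        _ = y * z * z' * (C.t * (C.b u * C.b w * C.b (w + u))) := by
            have h3 : Commute (C.b (w + u)) (C.b u * C.b w) :=
              ((C.b_comm hpu).symm).mul_right ((C.b_comm hpw).symm)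
            rw [h3.eq]
    have h2 : C.t * (y * z * z') * C.t = (y * z * z') * (C.b u * C.b w * C.b (w + u)) := by
      rw [h1]
      have h4 := (C.commute_t (mul_mem (mul_mem (C.b_mem u) (C.b_mem w)) (C.b_mem (w + u)))).eq
      calc y * z * z' * (C.t * (C.b u * C.b w * C.b (w + u))) * C.t
          = y * z * z' * (C.t * (C.b u * C.b w * C.b (w + u) * C.t)) := by group
        _ = y * z * z' * (C.t * (C.t * (C.b u * C.b w * C.b (w + u)))) := by rw [h4]
        _ = y * z * z' * ((C.t * C.t) * (C.b u * C.b w * C.b (w + u))) := by group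
        _ = _ := by rw [C.tt, one_mul]
    rw [h2]
    have h5 : Commute (y * z * z') (C.b u * C.b w * C.b (w + u)) := by
      have y1 : Commute y (C.b u) := hy.comm_Q hu (C.b_mem_Q u)
      have y2 : Commute y (C.b w) := (hy.2.2 _ (C.b_mem w) (C.b_comm h).symm).symm
      have y3 : Commute y (C.b (w + u)) := (hy.2.2 _ (C.b_mem _) (C.b_comm hpu).symm).symm
      have z2' : Commute z (C.b w) := hz.comm_Q hw (C.b_mem_Q w)
      have z3 : Commute z (C.b (w + u)) := (hz.2.2 _ (C.b_mem _) (C.b_comm hpw).symm).symm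
      have z3' : Commute z' (C.b (w + u)) := hz'.comm_Q hwu0 (C.b_mem_Q _)
      exact ((y1.mul_right y2).mul_right y3).mul_left ((m1.symm.mul_right z2').mul_right z3) |>.mul_left
        ((m2.symm.mul_right m3.symm).mul_right z3')
    rw [h5.eq, mul_inv_cancel_right]
  refine ⟨y * z * z', mul_mem (mul_mem hyN hzN) (mul_mem (mul_mem hkN hzN) (inv_mem hkN)), ⟨?_, ?_, ?_⟩, ?_, hbr⟩
  · -- commutes with `Q_u`
    have key : ∀ l : C.L, l ∈ Qu C.S u → C.S.ρ l w = w → Commute (y * z * z') (l : G) := by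
      intro l hl hlw
      have hlQ : (l : G) ∈ C.Q u := ⟨l, hl, rfl⟩
      have h1 : Commute (l : G) z := hz.2.2 _ l.2 ((C.commute_iff l w).2 hlw)
      have h2 : Commute (l : G) k := C.Q_comm hu hlQ hkQ
      exact ((hy.comm_Q hu hlQ).mul_left h1.symm).mul_left
        (((h2.mul_right h1).mul_right h2.inv_right).symm)
    have hk2 : Commute (y * z * z') (k : G) := by
      change y * z * z' * k = k * (y * z * z')
      calc y * z * z' * k = k * ((k : G)⁻¹ * (y * z * z') * k) := by group
        _ = k * (((k : G)⁻¹ * y * k) * ((k : G)⁻¹ * z * k) * ((k : G)⁻¹ * z' * k)) := by group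
        _ = k * (y * z' * z) := by
            have e1 : (k : G)⁻¹ * y * k = y := by rw [mul_assoc, hyk.eq, inv_mul_cancel_left]
            have e2 : (k : G)⁻¹ * z' * k = z := by rw [hz'def]; group
            have hki : (k : G)⁻¹ = k := inv_eq_of_mul_eq_one_right hkk
            have e3 : (k : G)⁻¹ * z * k = z' := by
              rw [hz'def, hki]
            rw [e1, e2, e3]
        _ = k * (y * (z' * z)) := by group
        _ = k * (y * z * z') := by rw [← c3.eq, ← mul_assoc y]
    rintro _ ⟨l, hl, rfl⟩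
    change Commute (y * z * z') (l : G)
    rcases Qu_apply hl h with h1 | h1
    · exact key l hl h1
    · have h2 : C.S.ρ (k⁻¹ * l) w = w := by
        rw [C.S.ρ_mul, h1, ← hkw, C.S.ρ_inv_apply]
      have h3 := key (k⁻¹ * l) (mul_mem (inv_mem hk) hl) h2
      have h4 := hk2.mul_right h3
      have h5 : (k : G) * ((k⁻¹ * l : C.L) : G) = l := by
        push_cast
        group
      rwa [h5] at h4
  · exact (((Commute.refl y).mul_left c1.symm).mul_left c2.symm)
  · rw [hbr, mul_assoc]
    exact mul_mem (C.b_mem_Q u) (C.bb_mem_Q h)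
  · have h1 : Commute (y * z) z' := c2.mul_left c3
    calc y * z * z' * (y * z * z') = y * z * (z' * (y * z)) * z' := by group
      _ = y * z * ((y * z) * z') * z' := by rw [h1.eq]
      _ = y * (z * y) * z * (z' * z') := by group
      _ = y * (y * z) * z * (z' * z') := by rw [c1.eq]
      _ = (y * y) * (z * z) * (z' * z') := by group
      _ = 1 := by rw [hy.1, hz.1, hz'.1, one_mul, one_mul]

/-- `Q_u` in terms of `b` -/
theorem Q_cases {u : V} (hu : u ≠ 0) {q : G} (hq : q ∈ C.Q u) :
    ∃ w, C.S.B u w = 0 ∧ (q = C.b u * C.b w * C.b (w + u) ∨ q = C.b w * C.b (w + u)) := by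
  obtain ⟨x, hx, rfl⟩ := hq
  obtain ⟨e, he⟩ := exists_dual (D := C.S) hu
  obtain ⟨h1, h2⟩ := Qu_form he hx
  set z := C.S.ρ x e + e with hz
  refine ⟨z, h1, ?_⟩
  have h3 : (sg C.S u z : C.L) = C.S.τ u * C.S.τ z * C.S.τ (z + u) := by
    unfold sg
    rw [add_comm]
  rcases z2 (C.S.B e z) with h4 | h4
  · left
    rw [h4, zero_smul, C.S.τ_zero, mul_one, h3] at h2
    rw [h2]
    rfl
  · right
    rw [h4, one_smul, h3] at h2
    have h5 : C.S.τ u * C.S.τ z * C.S.τ (z + u) * C.S.τ u = C.S.τ z * C.S.τ (z + u) := by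
      have h6 := C.S.τ_commute (a := z + u) (b := u) (by
        rw [map_add, LinearMap.add_apply, C.S.alt, C.S.symm z u, h1, add_zero])
      have h7 := C.S.τ_commute (a := z) (b := u) (by rw [C.S.symm, h1])
      calc C.S.τ u * C.S.τ z * C.S.τ (z + u) * C.S.τ u = C.S.τ u * C.S.τ z * (C.S.τ (z + u) * C.S.τ u) := by
            group
        _ = C.S.τ u * (C.S.τ z * C.S.τ u) * C.S.τ (z + u) := by rw [h6]; group
        _ = (C.S.τ u * C.S.τ u) * C.S.τ z * C.S.τ (z + u) := by rw [h7]; group
        _ = _ := by rw [C.S.τ_sq, one_mul]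
    rw [h5] at h2
    rw [h2]
    rfl

/-- Representatives: `N` contains `y_v` and `b_v` for `v ∈ U` -/
structure Sub (C : Loc G V) (U : Submodule (ZMod 2) V) (N : Subgroup G) : Prop where
  t_mem : C.t ∈ N
  b_mem : ∀ v ∈ U, C.b v ∈ N
  y_mem : ∀ v ∈ U, v ≠ 0 → ∃ y ∈ N, C.Y v y
  fix : ∀ g : C.L, (g : G) ∈ N → ∀ x, (∀ v ∈ U, C.S.B v x = 0) → C.S.ρ g x = x
  split : ∀ x, ∃ v ∈ U, ∀ w ∈ U, C.S.B w (x + v) = 0

theorem Sub.nondeg {U : Submodule (ZMod 2) V} {N : Subgroup G} (h : Sub C U N) {v : V} (hv : v ∈ U)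
    (hvU : ∀ w ∈ U, C.S.B w v = 0) : v = 0 := by
  apply C.S.nondeg
  intro x
  obtain ⟨w, hw, hx⟩ := h.split x
  have h1 := hx v hv
  have h2 := hvU w hw
  rw [C.S.symm] at h2
  rw [map_add, h2, add_zero] at h1
  exact h1

theorem Sub.exists_sep {U : Submodule (ZMod 2) V} {N : Subgroup G} (h : Sub C U N) {v w : V} (hvU : v ∈ U)
    (hwU : w ∈ U) (hv : v ≠ 0) (hvw : v ≠ w) : ∃ x ∈ U, C.S.B x v = 1 ∧ C.S.B x w = 0 := by
  obtain ⟨x, hx1, hx2⟩ := C.S.exists_sep hv hvw
  obtain ⟨x', hx', hxx⟩ := h.split x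
  refine ⟨x', hx', ?_, ?_⟩
  · have h1 := hxx v hvU
    rw [map_add, C.S.symm v x, hx1] at h1
    rw [C.S.symm]
    generalize C.S.B v x' = a at *
    revert h1; revert a; decide
  · have h1 := hxx w hwU
    rw [map_add, C.S.symm w x, hx2] at h1
    rw [C.S.symm]
    generalize C.S.B w x' = a at *
    revert h1; revert a; decide

/-- membership in `U` by perpendicularity -/
theorem Sub.mem_of_perp {U : Submodule (ZMod 2) V} {N : Subgroup G} (h : Sub C U N) {v : V}
    (hv : ∀ x, (∀ w ∈ U, C.S.B w x = 0) → C.S.B v x = 0) : v ∈ U := by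
  obtain ⟨w, hw, hvw⟩ := h.split v
  have h1 : v + w = 0 := by
    apply C.S.nondeg
    intro x
    obtain ⟨x', hx', hxx⟩ := h.split x
    have h2 := hvw x' hx'
    have h3 := hxx w hw
    have h4 := hv (x + x') hxx
    rw [C.S.symm] at h2
    simp only [map_add, LinearMap.add_apply] at h2 h3 h4 ⊢
    generalize C.S.B v x = a at *
    generalize C.S.B w x = b at *
    generalize C.S.B v x' = c at *
    generalize C.S.B w x' = d at *
    revert h2 h3 h4
    revert a b c d
    decide
  rw [eq_of_add _ _ h1]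
  exact hw

theorem Sub.ρ_mem {U : Submodule (ZMod 2) V} {N : Subgroup G} (h : Sub C U N) (g : C.L) (hg : (g : G) ∈ N)
    {v : V} (hv : v ∈ U) : C.S.ρ g v ∈ U := by
  apply h.mem_of_perp
  intro x hx
  have h1 := h.fix g hg x hx
  rw [← h1, C.S.inv, hx v hv]

/-- every element of `Q_u ∩ N` is a bracket -/
theorem exists_bracket (hC : Comm C) {U : Submodule (ZMod 2) V} {N : Subgroup G} (h : Sub C U N) {u : V} {y : G}
    (hu : u ≠ 0) (huU : u ∈ U) (hy : C.Y u y) (hyN : y ∈ N) {q : G} (hq : q ∈ C.Q u) (hqN : q ∈ N) :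
    ∃ r ∈ N, r ∈ C.R u y ∧ r * r = 1 ∧ C.t * r * C.t * r⁻¹ = q := by
  have hyR : y ∈ C.R u y := by
    refine ⟨fun k hk => hy.comm_Q hu hk, Commute.refl y, ?_⟩
    have h1 : C.t * y * C.t * y⁻¹ = C.b u := by
      rw [hy.t_mul, mul_assoc y, mul_assoc C.t, (C.commute_t (C.b_mem u)).eq, ← mul_assoc C.t C.t, C.tt, one_mul]
      rw [(hy.comm_Q hu (C.b_mem_Q u)).eq, mul_inv_cancel_right]
    rw [h1]
    exact C.b_mem_Q u
  have hyb : C.t * y * C.t * y⁻¹ = C.b u := by
    rw [hy.t_mul, mul_assoc y, mul_assoc C.t, (C.commute_t (C.b_mem u)).eq, ← mul_assoc C.t C.t, C.tt, one_mul]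
    rw [(hy.comm_Q hu (C.b_mem_Q u)).eq, mul_inv_cancel_right]
  obtain ⟨w, hw, hqw⟩ := Q_cases hu hq
  -- `w ∈ U`
  have hwU : w ∈ U := by
    obtain ⟨q', hq', rfl⟩ := hq
    apply h.mem_of_perp
    intro x hx
    have h1 := h.fix q' hqN x hx
    have h2 : C.S.ρ (sg C.S u w) x = x := by
      rcases hqw with h3 | h3
      · have h4 : q' = sg C.S u w := by
          apply Subtype.ext
          rw [show (q' : G) = _ from h3]
          unfold sg
          rw [add_comm u w]
          rfl
        rw [← h4]; exact h1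
      · have h4 : q' = C.S.τ u * sg C.S u w := by
          apply Subtype.ext
          rw [show (q' : G) = _ from h3]
          unfold sg
          rw [← mul_assoc, ← mul_assoc, C.S.τ_sq, one_mul, add_comm u w]
          rfl
        rw [h4, C.S.ρ_mul, C.S.hτ] at h1
        have h5 : C.S.B (C.S.ρ (sg C.S u w) x) u = 0 := by
          have h6 := C.S.inv (sg C.S u w) x u
          rw [(sg_mem_Qu hw).1] at h6
          rw [h6, C.S.symm, hx u huU]
        rwa [h5, zero_smul, add_zero] at h1
    rw [ρ_sg C.S hw, C.S.symm x u, hx u huU, zero_smul, add_zero] at h2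
    have h7 : C.S.B x w • u = 0 := by
      have := add_left_cancel (h2.trans (add_zero x).symm)
      exact this
    rw [C.S.symm]
    rcases z2 (C.S.B x w) with h8 | h8
    · exact h8
    · rw [h8, one_smul] at h7
      exact absurd h7 hu
  by_cases hw0 : w = 0
  · subst hw0
    rcases hqw with h1 | h1
    · refine ⟨1, one_mem _, one_mem _, one_mul 1, ?_⟩
      rw [h1, C.b_zero, zero_add, mul_one, mul_one, C.tt, inv_one, one_mul, C.b_sq]
    · refine ⟨y, hyN, hyR, hy.1, ?_⟩
      rw [hyb, h1, C.b_zero, zero_add, one_mul]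
  by_cases hwu : w = u
  · subst hwu
    rcases hqw with h1 | h1
    · refine ⟨1, one_mem _, one_mem _, one_mul 1, ?_⟩
      rw [h1, aa, C.b_zero, mul_one, mul_one, C.tt, inv_one, one_mul, C.b_sq]
    · refine ⟨y, hyN, hyR, hy.1, ?_⟩
      rw [hyb, h1, aa, C.b_zero, mul_one]
  -- a swap inside `N`
  obtain ⟨x, hxU, hx1, hx2⟩ := h.exists_sep hwU huU hw0 hwu
  have hux : C.S.B u x = 0 := by rw [C.S.symm, hx2]
  obtain ⟨z, hzN, hz⟩ := h.y_mem w hwU hw0
  have hkN : (sg C.S u x : C.L) ∈ N.comap C.L.subtype := by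
    change C.b u * C.b x * C.b (u + x) ∈ N
    exact mul_mem (mul_mem (h.b_mem u huU) (h.b_mem x hxU)) (h.b_mem _ (add_mem huU hxU))
  obtain ⟨r, hrN, hrR, hrr, hrb⟩ := line hC hu hw0 hwu hw hy hyN hz hzN (sg C.S u x) (sg_mem_Qu hux) hkN (by
    rw [ρ_sg C.S hux, C.S.symm w x, hx1, C.S.symm w u, hw, one_smul, zero_smul, add_zero])
  rcases hqw with h1 | h1
  · exact ⟨r, hrN, hrR, hrr, by rw [hrb, h1]⟩
  · refine ⟨r * y, mul_mem hrN hyN, mul_mem hrR hyR, ?_, ?_⟩
    · have h2 := hrR.2.1
      calc r * y * (r * y) = r * (y * r) * y := by group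
        _ = r * (r * y) * y := by rw [h2.eq]
        _ = (r * r) * (y * y) := by group
        _ = 1 := by rw [hrr, hy.1, one_mul]
    · rw [bracket_mul hrR.1 hyR.2.2, hrb, hyb, h1]
      have h3 : Commute (C.b w * C.b (w + u)) (C.b u) := by
        apply Commute.mul_left
        · exact C.b_comm (by rw [C.S.symm, hw])
        · apply C.b_comm
          rw [map_add, LinearMap.add_apply, C.S.alt, C.S.symm w u, hw, add_zero]
      rw [mul_assoc (C.b u), mul_assoc, h3.eq, ← mul_assoc, C.b_sq, one_mul]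

/-- the whole space -/
theorem sub_top (hI : ∀ u, u ≠ 0 → ∃ y, C.Y u y) : Sub C ⊤ ⊤ where
  t_mem := mem_top _
  b_mem _ _ := mem_top _
  y_mem v _ hv := by
    obtain ⟨y, hy⟩ := hI v hv
    exact ⟨y, mem_top _, hy⟩
  fix g _ x hx := by
    have : x = 0 := by
      apply C.S.nondeg
      intro w
      rw [C.S.symm]
      exact hx w trivial
    rw [this, map_zero]
  split x := ⟨x, trivial, fun w _ => by rw [aa, map_zero]⟩

section R

variable (hC : Comm C) (hI : ∀ u, u ≠ 0 → ∃ y, C.Y u y)

include hC hI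

theorem R_sq {u : V} (hu : u ≠ 0) {y g : G} (hy : C.Y u y) (hg : g ∈ C.R u y) : g * g = 1 := by
  obtain ⟨r, -, hrR, hrr, hrb⟩ := exists_bracket hC (sub_top hI) hu trivial hy (mem_top _) hg.2.2 (mem_top _)
  -- `r * g` commutes with `t`
  have h1 : C.t * (r * g) * C.t * (r * g)⁻¹ = 1 := by
    rw [bracket_mul hrR.1 hg.2.2, hrb]
    exact C.Q_sq hu hg.2.2
  have h2 : Commute (r * g) C.t := by
    have h3 := mul_inv_eq_one.1 h1
    change r * g * C.t = C.t * (r * g)
    calc r * g * C.t = (C.t * (r * g) * C.t) * C.t := by rw [h3]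
      _ = C.t * (r * g) * (C.t * C.t) := by group
      _ = _ := by rw [C.tt, mul_one]
  have h4 := mem_Q_of_R hu hy (mul_mem hrR hg) h2
  have h5 : g = r * (r * g) := by rw [← mul_assoc, hrr, one_mul]
  have h6 := hrR.1 _ h4
  rw [h5]
  calc r * (r * g) * (r * (r * g)) = r * ((r * g) * r) * (r * g) := by group
    _ = r * (r * (r * g)) * (r * g) := by rw [h6.eq]
    _ = (r * r) * ((r * g) * (r * g)) := by group
    _ = 1 := by rw [hrr, C.Q_sq hu h4, one_mul]

theorem R_comm {u : V} (hu : u ≠ 0) {y g h : G} (hy : C.Y u y) (hg : g ∈ C.R u y) (hh : h ∈ C.R u y) :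
    Commute g h := by
  have h1 := R_sq hC hI hu hy hg
  have h2 := R_sq hC hI hu hy hh
  have h3 := R_sq hC hI hu hy (mul_mem hg hh)
  change g * h = h * g
  calc g * h = g * (g * h * (g * h)) * h := by rw [h3]; group
    _ = (g * g) * h * g * (h * h) := by group
    _ = h * g := by rw [h1, h2, one_mul, mul_one]

/-- (B): `y_v` normalises `R_u` for `v ⊥ u` -/
theorem norm_R {u v : V} (hu : u ≠ 0) (hv : v ≠ 0) (huv : u ≠ v) (h : C.S.B u v = 0) {y z : G} (hy : C.Y u y)
    (hz : C.Y v z) {g : G} (hg : g ∈ C.R u y) : z * g * z ∈ C.R u y := by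
  have cyz : Commute y z := hC _ _ _ _ hu hv huv h hy hz
  have hzb : Commute z (C.b v) := hz.comm_Q hv (C.b_mem_Q v)
  have hbuz : Commute (C.b u) z := hz.2.2 _ (C.b_mem u) (C.b_comm h)
  have hbv : Commute (C.b v) y := hy.2.2 _ (C.b_mem v) (C.b_comm h).symm
  -- `Q_u ^ z ≤ R_u`
  have hQ : ∀ k ∈ C.Q u, z * k * z ∈ C.R u y := by
    rintro _ ⟨k, hk, rfl⟩
    change z * (k : G) * z ∈ _
    have hkQ : (k : G) ∈ C.Q u := ⟨k, hk, rfl⟩
    rcases Qu_apply hk h with h1 | h1
    · have h2 : Commute (k : G) z := hz.2.2 _ k.2 ((C.commute_iff k v).2 h1)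
      rw [← h2.eq, mul_assoc, hz.1, mul_one]
      exact Q_le_R hu hy hkQ
    have hvu0 : v + u ≠ 0 := fun h0 => huv (eq_of_add _ _ h0).symm
    have hvv' : v ≠ v + u := fun h0 => hu (by
      have h1 := aac v u
      rw [← h0, aa] at h1
      exact h1.symm)
    have hpv : C.S.B v (v + u) = 0 := by rw [map_add, C.S.alt, C.S.symm, h, add_zero]
    have hz' : C.Y (v + u) ((k : G) * z * (k : G)⁻¹) := by
      have := hz.conj k
      rwa [h1] at this
    have c3 : Commute z ((k : G) * z * (k : G)⁻¹) := hC _ _ _ _ hv hvu0 hvv' hpv hz hz'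
    have hkk : (k : G) * k = 1 := C.Q_sq hu hkQ
    have hki : (k : G)⁻¹ = k := inv_eq_of_mul_eq_one_right hkk
    rw [hki] at c3 hz'
    have hkk' : Commute (z * (k : G) * z) k := by
      change z * (k : G) * z * k = k * (z * (k : G) * z)
      calc z * (k : G) * z * k = z * (k * z * k) := by group
        _ = k * z * k * z := by rw [c3.eq]
        _ = _ := by group
    have key : ∀ l : C.L, l ∈ Qu C.S u → C.S.ρ l v = v → Commute (z * (k : G) * z) (l : G) := by
      intro l hl hlv
      have hlQ : (l : G) ∈ C.Q u := ⟨l, hl, rfl⟩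
      have h3 : Commute (l : G) z := hz.2.2 _ l.2 ((C.commute_iff l v).2 hlv)
      exact (((h3.mul_right (C.Q_comm hu hlQ hkQ)).mul_right h3)).symm
    have hb' : Commute z (C.b (v + u)) := (hz.2.2 _ (C.b_mem _) (C.b_comm hpv).symm).symm
    refine ⟨?_, ?_, ?_⟩
    · rintro _ ⟨l, hl, rfl⟩
      change Commute _ (l : G)
      rcases Qu_apply hl h with h2 | h2
      · exact key l hl h2
      · have h3 : C.S.ρ (k⁻¹ * l) v = v := by
          rw [C.S.ρ_mul, h2, ← h1, C.S.ρ_inv_apply]
        have h4 := key (k⁻¹ * l) (mul_mem (inv_mem hk) hl) h3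
        have h5 := hkk'.mul_right h4
        have h6 : (k : G) * ((k⁻¹ * l : C.L) : G) = l := by
          push_cast
          group
        rwa [h6] at h5
    · exact ((cyz.symm.mul_left (hy.comm_Q hu hkQ).symm).mul_left cyz.symm)
    · -- the bracket is `b_v b_{v+u}`
      have h3 : C.t * (z * k * z) * C.t * (z * k * z)⁻¹ = C.b v * C.b (v + u) := by
        have h4 : (k : G) * C.b v * (k : G) = C.b (v + u) := by
          have := C.b_conj k v
          rwa [h1, hki] at this
        have h5 : C.t * (z * k * z) * C.t = z * (C.b v * k * C.b v) * z := by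
          calc C.t * (z * k * z) * C.t = (C.t * z) * k * (z * C.t) := by group
            _ = z * (C.t * C.b v) * k * (C.t * C.b v * z) := by rw [hz.t_mul, hz.mul_t]
            _ = z * (C.t * (C.b v * k) * C.t) * C.b v * z := by group
            _ = z * (C.b v * k) * C.b v * z := by
                have h6 := (C.commute_t (mul_mem (C.b_mem v) k.2)).eq
                have h7 : C.t * (C.b v * (k : G)) * C.t = C.b v * k := by
                  rw [← h6, mul_assoc, C.tt, mul_one]
                rw [h7]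
            _ = _ := by group
        have h6 : C.b v * k * C.b v = C.b v * C.b (v + u) * k := by
          rw [← h4]
          calc C.b v * k * C.b v = C.b v * k * C.b v * (k * k) := by rw [hkk, mul_one]
            _ = _ := by group
        rw [h5, h6]
        have h7 : Commute z (C.b v * C.b (v + u)) := hzb.mul_right hb'
        calc z * (C.b v * C.b (v + u) * k) * z * (z * k * z)⁻¹
            = (z * (C.b v * C.b (v + u))) * k * z * (z * k * z)⁻¹ := by group
          _ = (C.b v * C.b (v + u)) * z * k * z * (z * k * z)⁻¹ := by rw [h7.eq]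
          _ = _ := by group
      rw [h3]
      exact C.bb_mem_Q h
  have zi : z⁻¹ = z := hz.inv
  have cc : ∀ k ∈ C.Q u, Commute (z * g * z) k := by
    intro k hk
    have h1 := R_comm hC hI hu hy hg (hQ k hk)
    change z * g * z * k = k * (z * g * z)
    calc z * g * z * k = z * (g * (z * k * z)) * z := by
          rw [← mul_assoc, ← mul_assoc, ← mul_assoc, mul_assoc _ z z, hz.1, mul_one]
      _ = z * ((z * k * z) * g) * z := by rw [h1.eq]
      _ = (z * z) * k * (z * g * z) := by group
      _ = _ := by rw [hz.1, one_mul]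
  refine ⟨cc, ?_, ?_⟩
  · exact ((cyz.symm.mul_left hg.2.1).mul_left cyz.symm)
  · -- the bracket
    set s := C.t * C.b v with hs
    have hss : s * s = 1 := by
      rw [hs]
      calc C.t * C.b v * (C.t * C.b v) = C.t * (C.b v * C.t) * C.b v := by group
        _ = C.t * (C.t * C.b v) * C.b v := by rw [(C.commute_t (C.b_mem v)).eq]
        _ = (C.t * C.t) * (C.b v * C.b v) := by group
        _ = 1 := by rw [C.tt, C.b_sq, one_mul]
    have hgs : s * g * s ∈ C.R u y := by
      have h1 := conj_R hy (C.b_mem v) (C.b_comm h).symm hg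
      have hbi : (C.b v)⁻¹ = C.b v := inv_eq_of_mul_eq_one_right (C.b_sq v)
      rw [hbi] at h1
      have h2 := t_R hu hy h1
      have h3 : s * g * s = C.t * (C.b v * g * C.b v) * C.t := by
        rw [hs]
        calc C.t * C.b v * g * (C.t * C.b v) = C.t * C.b v * g * (C.b v * C.t) := by
              rw [(C.commute_t (C.b_mem v)).eq]
          _ = _ := by group
      rw [h3]; exact h2
    set c := s * g * s * g with hc
    have hcR : c ∈ C.R u y := mul_mem hgs hg
    have hgg := R_sq hC hI hu hy hg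
    have hgi : g⁻¹ = g := inv_eq_of_mul_eq_one_right hgg
    have hcs : Commute c s := by
      have h1 := (R_comm hC hI hu hy hgs hg).eq
      change c * s = s * c
      calc c * s = s * g * s * g * s := by rw [hc]
        _ = s * (g * (s * g * s)) := by group
        _ = s * (s * g * s * g) := by rw [← h1]
        _ = _ := by rw [hc]
    have hct : Commute (z * c * z) C.t := by
      have h1 : z * s * z = C.t := by
        have := hz.2.1
        rw [hs, ← this]
        calc z * (z * C.t * z) * z = (z * z) * C.t * (z * z) := by group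
          _ = C.t := by rw [hz.1, one_mul, mul_one]
      rw [← h1]
      change z * c * z * (z * s * z) = z * s * z * (z * c * z)
      calc z * c * z * (z * s * z) = z * c * (z * z) * s * z := by group
        _ = z * (c * s) * z := by rw [hz.1]; group
        _ = z * (s * c) * z := by rw [hcs.eq]
        _ = z * s * (z * z) * c * z := by rw [hz.1]; group
        _ = _ := by group
    have hcQ : ∀ k ∈ C.Q u, Commute (z * c * z) k := by
      intro k hk
      have h1 := R_comm hC hI hu hy hcR (hQ k hk)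
      change z * c * z * k = k * (z * c * z)
      calc z * c * z * k = z * c * z * k * (z * z) := by rw [hz.1, mul_one]
        _ = z * (c * (z * k * z)) * z := by group
        _ = z * ((z * k * z) * c) * z := by rw [h1.eq]
        _ = (z * z) * k * (z * c * z) := by group
        _ = _ := by rw [hz.1, one_mul]
    have hfin : z * c * z ∈ C.Q u := by
      rcases mem_Q_or hu hct hcQ with h1 | h1
      · exact h1
      · exfalso
        -- then `s = t b_v` is in `R_u`
        have h2 := hQ _ h1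
        have h3 : z * (C.t * (z * c * z)) * z = s * c := by
          have h4 := hz.2.1
          calc z * (C.t * (z * c * z)) * z = (z * C.t * z) * c * (z * z) := by group
            _ = s * c := by rw [h4, hz.1, mul_one]
        rw [h3] at h2
        have h4 : s ∈ C.R u y := by
          have := mul_mem h2 (inv_mem hcR)
          rwa [mul_inv_cancel_right] at this
        have h5 := h4.2.1
        rw [hs] at h5
        have h6 := h5.mul_left hbv
        rw [mul_assoc, C.b_sq, mul_one] at h6
        exact hy.not_commute hu h6.symm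
    have h8 : C.t * (z * g * z) * C.t * (z * g * z)⁻¹ = z * c * z := by
      have h9 : (z * g * z)⁻¹ = z * g * z := by
        rw [mul_inv_rev, mul_inv_rev, zi, hgi, mul_assoc]
      rw [h9, hc]
      calc C.t * (z * g * z) * C.t * (z * g * z) = (C.t * z) * g * (z * C.t * z) * g * z := by group
        _ = (z * s) * g * s * g * z := by rw [hz.t_mul, hz.2.1]
        _ = _ := by group
    rw [h8]
    exact hfin

end R

end Loc

end Cfsg.Agent.OddHalf.SpTwo.EndCC
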