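import Cfsg.Agent.OddHalf.SpTwo.EndCCGrow

/-!
# `Sp₂ₙ(2)`, the end of the pattern `(C, O)`: the elements `z_u`, `g_v` and the group `F_u`

`y : V → G` is equivariant, `y_u` an involution centralising `C_L(b_u)`, `t ^ y_u = t b_u`, `[y_u, y_v] = b_{u+v}` for
`u ⊥ v`.  `z_u = y_u t`, `g_v = y_v y_{v+u}` (`v ⊥ u`), `m_v = b_v b_{v+u}`.  `F_u` is the group of all `g` with
`[g, Q_u] ≤ ⟨b_u⟩` and either `g ∈ C(z_u)`, `[t, g] ∈ Q_u`, or `z_u ^ g = z_u b_u`, `[t, g] ∈ z_u Q_u`.
-/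

set_option autoImplicit false

namespace Cfsg.Agent.OddHalf.SpTwo.EndCO

open Subgroup
open Cfsg.Agent.StandardComponent.SpTwo
open Cfsg.Agent.OddHalf.SpTwoN
open Cfsg.Agent.OddHalf.SpTwoN.Words
open Cfsg.Agent.OddHalf.SpTwo.EndCC

section K

variable {X V : Type*} [Group X] [AddCommGroup V] [Module (ZMod 2) V] {D : SpData X V}

/-- `x` acts trivially on `u^⊥ / u`: it is in `Q_u` -/
theorem mem_Qu_of_comm_mod {u : V} (hu : u ≠ 0) {g : X}
    (hg : ∀ k ∈ Qu D u, g * k * g⁻¹ * k⁻¹ = 1 ∨ g * k * g⁻¹ * k⁻¹ = D.τ u) : g ∈ Qu D u := by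
  have hgu : D.ρ g u = u := by
    have h1 := hg _ (τ_mem_Qu u)
    rw [D.conj_τ, D.τ_inv] at h1
    rcases h1 with h1 | h1
    · have h2 : D.τ (D.ρ g u) = D.τ u := by
        have := mul_eq_one_iff_eq_inv.1 h1
        rw [this, D.τ_inv]
      exact D.τ_injective h2
    · exfalso
      have h2 : D.τ (D.ρ g u) = 1 := by
        have := mul_eq_right.1 h1
        exact this
      have h3 := D.τ_eq_one h2
      exact hu (D.ρ_inj g (by rw [h3, map_zero]))
  refine ⟨hgu, fun w hw => ?_⟩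
  obtain ⟨e, he⟩ := exists_dual (D := D) hu
  have hw' : D.B u w = 0 := by rw [D.symm, hw]
  have h3 : D.B u (D.ρ g w) = 0 := by
    have := D.inv g u w
    rw [hgu] at this
    rw [this, hw']
  have h2 := conj_sg D g u w
  rw [hgu] at h2
  have hk := hg _ (sg_mem_Qu hw')
  rw [h2, sg_inv D hw', sg_mul D h3 hw'] at hk
  -- `sg u (g w + w)` is in `⟨τ u⟩`
  have hp : D.B u (D.ρ g w + w) = 0 := by rw [map_add, h3, hw', add_zero]
  have h4 : ∀ c : ZMod 2, D.τ (c • u) * sg D u (D.ρ g w + w) = 1 ∨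
      D.τ (c • u) * sg D u (D.ρ g w + w) = D.τ u → ∃ c' : ZMod 2, sg D u (D.ρ g w + w) = D.τ (c' • u) := by
    intro c hc
    have e1 : D.τ (c • u) * D.τ (c • u) = 1 := D.τ_sq _
    rcases hc with hc | hc
    · refine ⟨c, ?_⟩
      calc sg D u (D.ρ g w + w) = D.τ (c • u) * D.τ (c • u) * sg D u (D.ρ g w + w) := by rw [e1, one_mul]
        _ = _ := by rw [mul_assoc, hc, mul_one]
    · refine ⟨c + 1, ?_⟩
      calc sg D u (D.ρ g w + w) = D.τ (c • u) * D.τ (c • u) * sg D u (D.ρ g w + w) := by rw [e1, one_mul]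
        _ = D.τ (c • u) * D.τ u := by rw [mul_assoc, hc]
        _ = _ := by
            rcases z2 c with h | h
            · rw [h, zero_smul, D.τ_zero, one_mul, zero_add, one_smul]
            · rw [h, one_smul, D.τ_sq, show (1 : ZMod 2) + 1 = 0 from rfl, zero_smul, D.τ_zero]
  obtain ⟨c', hc'⟩ := h4 _ hk
  have h5 := ρ_sg D hp e
  have h6 : D.ρ (D.τ (c' • u)) e = e + c' • u := by
    rcases z2 c' with h | h
    · rw [h, zero_smul, D.τ_zero, D.ρ_one, add_zero]
    · rw [h, one_smul, D.hτ, D.symm e u, he, one_smul]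
  rw [hc', h6, D.symm e u, he, one_smul] at h5
  have h7 := add_left_cancel h5
  refine ⟨c' + D.B e (D.ρ g w + w), ?_⟩
  have h8 : D.ρ g w + w = c' • u + D.B e (D.ρ g w + w) • u := by
    rw [h7, add_right_comm, aa, zero_add]
  calc D.ρ g w = w + (D.ρ g w + w) := by rw [add_comm (D.ρ g w) w, aac]
    _ = w + (c' + D.B e (D.ρ g w + w)) • u := by rw [add_smul, ← h8]

/-- an element of `Q_u` fixing `u^⊥` pointwise -/
theorem Qu_eq_of_fix {u : V} (hu : u ≠ 0) {k : X} (hk : k ∈ Qu D u) (h : ∀ w, D.B w u = 0 → D.ρ k w = w) :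
    k = 1 ∨ k = D.τ u := by
  obtain ⟨e, he⟩ := exists_dual (D := D) hu
  obtain ⟨h1, h2⟩ := Qu_form he hk
  set x := D.ρ k e + e with hx
  have h3 : x = 0 ∨ x = u := by
    by_contra hcon
    push Not at hcon
    obtain ⟨f, hf1, hf2⟩ := D.exists_sep hcon.1 hcon.2
    have h4 := h f hf2
    have h5 := D.inv k f e
    rw [h4] at h5
    have h6 : D.B f x = 0 := by
      rw [hx, map_add, h5]
      rcases z2 (D.B f e) with h7 | h7 <;> rw [h7] <;> decide
    rw [h6] at hf1
    exact absurd hf1 (by decide)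
  have h4 : sg D u x = 1 := by
    rcases h3 with h3 | h3
    · rw [h3, sg_zero_right]
    · rw [h3, sg_self]
  rw [h4, one_mul] at h2
  rcases z2 (D.B e x) with h5 | h5
  · left; rw [h5, zero_smul, D.τ_zero] at h2; exact h2
  · right; rw [h5, one_smul] at h2; exact h2

/-- `m_w = b_w b_{w+u}` moves `v` by `(v, w) u` -/
theorem ρ_m {u v w : V} (hw : D.B u w = 0) (hv : D.B u v = 0) :
    D.ρ (D.τ w * D.τ (w + u)) v = v + D.B v w • u := by
  have hv' : D.B v u = 0 := by rw [D.symm, hv]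
  rw [D.ττ]
  simp only [map_add, LinearMap.add_apply, D.alt, hw, hv', add_zero, mul_zero]
  match_scalars <;> (generalize D.B v w = a; revert a; decide)

end K

namespace Loc

open EndCC.Loc

variable {G V : Type*} [Group G] [AddCommGroup V] [Module (ZMod 2) V] {C : Loc G V}

/-- two independent perpendicular vectors -/
def Pr (C : Loc G V) (u v : V) : Prop := u ≠ 0 ∧ v ≠ 0 ∧ u ≠ v ∧ C.S.B u v = 0

theorem Pr.symm {u v : V} (h : Pr C u v) : Pr C v u := ⟨h.2.1, h.1, h.2.2.1.symm, by rw [C.S.symm, h.2.2.2]⟩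

theorem Pr.add {u v : V} (h : Pr C u v) : Pr C u (v + u) := by
  obtain ⟨h1, h2, h3, h4⟩ := h
  refine ⟨h1, fun h0 => h3 (eq_of_add _ _ h0).symm, fun h0 => h2 ?_, by rw [map_add, h4, C.S.alt, add_zero]⟩
  have : v = v + u + u := (aab v u).symm
  rw [this, ← h0, aa]

theorem Pr.add' {u v : V} (h : Pr C u v) : Pr C v (v + u) := by
  have := h.symm.add
  rwa [add_comm] at this

theorem Pr.of_hyp {u v w : V} (hu : u ≠ 0) (h1 : C.S.B u v = 0) (h2 : C.S.B u w = 0) (h3 : C.S.B v w = 1) :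
    Pr C u v := by
  refine ⟨hu, ?_, ?_, h1⟩
  · rintro rfl
    rw [map_zero, LinearMap.zero_apply] at h3
    exact absurd h3 (by decide)
  · rintro rfl
    rw [h2] at h3
    exact absurd h3 (by decide)

/-- the hypothesis of the pattern `(C, O)` -/
structure Eqv (C : Loc G V) (y : V → G) : Prop where
  Y : ∀ u, u ≠ 0 → C.Y u (y u)
  eqv : ∀ (x : C.L) (u : V), u ≠ 0 → (x : G) * y u * (x : G)⁻¹ = y (C.S.ρ x u)
  br : ∀ u v, Pr C u v → y u * y v = C.b (u + v) * (y v * y u)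

/-- `⟨b_u⟩` -/
def Zm (C : Loc G V) (u : V) (g : G) : Prop := g = 1 ∨ g = C.b u

theorem Zm.one (u : V) : Zm C u (1 : G) := Or.inl rfl

theorem Zm.b (u : V) : Zm C u (C.b u) := Or.inr rfl

theorem Zm.mul {u : V} {g h : G} (hg : Zm C u g) (hh : Zm C u h) : Zm C u (g * h) := by
  rcases hg with rfl | rfl
  · rwa [one_mul]
  · rcases hh with rfl | rfl
    · rw [mul_one]; exact Or.inr rfl
    · rw [C.b_sq]; exact Or.inl rfl

theorem b_inv (u : V) : (C.b u)⁻¹ = C.b u := inv_eq_of_mul_eq_one_right (C.b_sq u)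

theorem Zm.inv {u : V} {g : G} (hg : Zm C u g) : Zm C u g⁻¹ := by
  rcases hg with rfl | rfl
  · rw [inv_one]; exact Or.inl rfl
  · rw [b_inv]; exact Or.inr rfl

theorem Zm.mem_Q {u : V} {g : G} (hg : Zm C u g) : g ∈ C.Q u := by
  rcases hg with rfl | rfl
  · exact one_mem _
  · exact C.b_mem_Q u

theorem Zm.comm {u : V} {g x : G} (hg : Zm C u g) (hx : Commute x (C.b u)) : Commute x g := by
  rcases hg with rfl | rfl
  · exact Commute.one_right x
  · exact hx

/-- squares and commutators modulo `⟨b_u⟩` -/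
theorem comm_of_sq {u : V} {a c : G} (hc : Commute c (C.b u)) (h1 : Zm C u (a * a))
    (h2 : Zm C u (c * c)) (h3 : Zm C u (a * c * (a * c))) : Zm C u (a * c * a⁻¹ * c⁻¹) := by
  have e1 : a * c * a⁻¹ * c⁻¹ = (a * c * (a * c)) * (c⁻¹ * (a * a)⁻¹ * c) * (c * c)⁻¹ := by group
  have e2 : c⁻¹ * (a * a)⁻¹ * c = (a * a)⁻¹ := by
    rw [mul_assoc, ← (h1.inv.comm hc).eq, inv_mul_cancel_left]
  rw [e1, e2]
  exact (h3.mul h1.inv).mul h2.inv

theorem sq_of_comm {u : V} {a c : G} (_ha : Commute a (C.b u)) (hc : Commute c (C.b u)) (h1 : Zm C u (a * a))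
    (h2 : Zm C u (c * c)) (h3 : Zm C u (a * c * a⁻¹ * c⁻¹)) : Zm C u (a * c * (a * c)) := by
  have e1 : a * c * (a * c) = (a * c * a⁻¹ * c⁻¹) * (c * (a * a) * c⁻¹) * (c * c) := by group
  have e2 : c * (a * a) * c⁻¹ = a * a := by
    rw [(h1.comm hc).eq, mul_inv_cancel_right]
  rw [e1, e2]
  exact (h3.mul h1).mul h2

variable (C) in
/-- `z_u = y_u t` -/
def z (y : V → G) (u : V) : G := y u * C.t

/-- `g_v = y_v y_{v+u}` -/
def g (y : V → G) (u v : V) : G := y v * y (v + u)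

variable (C) in
/-- `m_v = b_v b_{v+u}` -/
def m (u v : V) : G := C.b v * C.b (v + u)

variable {y : V → G} (h : Eqv C y)

include h

theorem y_comm {v : V} (hv : v ≠ 0) {x : C.L} (hx : C.S.ρ x v = v) : Commute (y v) x :=
  ((h.Y v hv).2.2 x x.2 ((C.commute_iff x v).2 hx)).symm

theorem y_comm_b {v w : V} (hv : v ≠ 0) (hw : C.S.B v w = 0) : Commute (y v) (C.b w) :=
  ((h.Y v hv).2.2 _ (C.b_mem w) (C.b_comm hw).symm).symm

theorem t_y_t {v : V} (hv : v ≠ 0) : C.t * y v * C.t = y v * C.b v := by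
  rw [(h.Y v hv).t_mul, mul_assoc, mul_assoc, (C.commute_t (C.b_mem v)).eq, ← mul_assoc C.t C.t, C.tt, one_mul]

theorem z_sq {u : V} (hu : u ≠ 0) : z C y u * z C y u = C.b u := by
  unfold z
  have h1 := (h.Y u hu).2.1
  calc y u * C.t * (y u * C.t) = (y u * C.t * y u) * C.t := by group
    _ = C.t * (C.b u * C.t) := by rw [h1]; group
    _ = C.t * (C.t * C.b u) := by rw [(C.commute_t (C.b_mem u)).eq]
    _ = C.b u := by rw [← mul_assoc, C.tt, one_mul]

theorem z_comm {u : V} (hu : u ≠ 0) {x : C.L} (hx : C.S.ρ x u = u) : Commute (z C y u) x :=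
  (y_comm h hu hx).mul_left (C.commute_t x.2).symm

theorem z_comm_b {u w : V} (hu : u ≠ 0) (hw : C.S.B u w = 0) : Commute (z C y u) (C.b w) :=
  (y_comm_b h hu hw).mul_left (C.commute_t (C.b_mem w)).symm

theorem z_inv {u : V} (hu : u ≠ 0) : (z C y u)⁻¹ = z C y u * C.b u := by
  rw [inv_eq_iff_mul_eq_one]
  have h1 := z_sq h hu
  rw [← mul_assoc, h1, C.b_sq]

theorem t_z_t {u : V} (hu : u ≠ 0) : C.t * z C y u * C.t = z C y u * C.b u := by
  rw [← z_inv h hu]
  unfold z
  rw [mul_inv_rev, (h.Y u hu).inv, C.t_inv, ← mul_assoc, mul_assoc _ C.t C.t, C.tt, mul_one]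

theorem z_Q {u : V} (hu : u ≠ 0) {k : G} (hk : k ∈ C.Q u) : Commute (z C y u) k := by
  obtain ⟨x, hx, rfl⟩ := hk
  exact z_comm h hu hx.1

theorem z_not_t {u : V} (hu : u ≠ 0) : ¬ Commute (z C y u) C.t := by
  intro hc
  have h1 := t_z_t h hu
  rw [mul_assoc, hc.eq, ← mul_assoc, C.tt, one_mul] at h1
  exact C.b_ne_one hu (mul_eq_left.1 h1.symm)

/-! ### `g_v` -/

theorem g_conj {u v : V} (hv : Pr C u v) {x : C.L} (hx : C.S.ρ x u = u) :
    (x : G) * g y u v * (x : G)⁻¹ = g y u (C.S.ρ x v) := by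
  unfold g
  rw [← hx, ← map_add, hx, ← h.eqv x v hv.2.1, ← h.eqv x (v + u) hv.add.2.1]
  group

omit h in
theorem g_add (u v : V) : g y u (v + u) = y (v + u) * y v := by
  unfold g
  rw [aab]

theorem g_inv' {u v : V} (hv : Pr C u v) : (g y u v)⁻¹ = g y u (v + u) := by
  rw [g_add]
  unfold g
  rw [mul_inv_rev, (h.Y _ hv.add.2.1).inv, (h.Y _ hv.2.1).inv]

theorem g_sq {u v : V} (hv : Pr C u v) : g y u v * g y u v = C.b u := by
  have h1 := h.br v (v + u) hv.add'
  rw [aac] at h1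
  unfold g
  calc y v * y (v + u) * (y v * y (v + u)) = C.b u * (y (v + u) * y v) * (y v * y (v + u)) := by rw [h1]
    _ = C.b u * (y (v + u) * (y v * y v) * y (v + u)) := by group
    _ = C.b u := by rw [(h.Y v hv.2.1).1, mul_one, (h.Y _ hv.add.2.1).1, mul_one]

theorem g_inv {u v : V} (hv : Pr C u v) : (g y u v)⁻¹ = g y u v * C.b u := by
  rw [inv_eq_iff_mul_eq_one, ← mul_assoc, g_sq h hv, C.b_sq]

theorem g_comm {u v : V} (hv : Pr C u v) {x : C.L} (hx : C.S.ρ x u = u) (hxv : C.S.ρ x v = v) :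
    Commute (g y u v) x := by
  refine (y_comm h hv.2.1 hxv).mul_left (y_comm h hv.add.2.1 ?_)
  rw [map_add, hx, hxv]

theorem g_comm_b {u v w : V} (hv : Pr C u v) (hw : C.S.B u w = 0) (hvw : C.S.B v w = 0) :
    Commute (g y u v) (C.b w) := by
  refine (y_comm_b h hv.2.1 hvw).mul_left (y_comm_b h hv.add.2.1 ?_)
  rw [map_add, LinearMap.add_apply, hw, hvw, add_zero]

theorem g_comm_m {u v : V} (hv : Pr C u v) : Commute (g y u v) (m C u v) := by
  refine (g_comm_b h hv hv.2.2.2 (C.S.alt v)).mul_right (g_comm_b h hv hv.add.2.2.2 ?_)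
  rw [map_add, C.S.alt, C.S.symm, hv.2.2.2, add_zero]

theorem t_g_t {u v : V} (hv : Pr C u v) : C.t * g y u v * C.t = g y u v * m C u v := by
  unfold g m
  have h1 : Commute (C.b v) (y (v + u)) := by
    refine (y_comm_b h hv.add.2.1 ?_).symm
    rw [map_add, LinearMap.add_apply, C.S.alt, hv.2.2.2, add_zero]
  calc C.t * (y v * y (v + u)) * C.t = C.t * y v * (1 : G) * y (v + u) * C.t := by group
    _ = C.t * y v * (C.t * C.t) * y (v + u) * C.t := by rw [C.tt]
    _ = (C.t * y v * C.t) * (C.t * y (v + u) * C.t) := by group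
    _ = (y v * C.b v) * (y (v + u) * C.b (v + u)) := by rw [t_y_t h hv.2.1, t_y_t h hv.add.2.1]
    _ = y v * (C.b v * y (v + u)) * C.b (v + u) := by group
    _ = y v * (y (v + u) * C.b v) * C.b (v + u) := by rw [h1.eq]
    _ = _ := by group

theorem g_bracket {u v : V} (hv : Pr C u v) : C.t * g y u v * C.t * (g y u v)⁻¹ = m C u v := by
  rw [t_g_t h hv, (g_comm_m h hv).eq, mul_inv_cancel_right]

/-- `z_u` and `g_v` commute -/
theorem z_g {u v : V} (hv : Pr C u v) : Commute (z C y u) (g y u v) := by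
  have hu := hv.1
  have e1 : y u * y v * y u = C.b (u + v) * y v := by
    rw [h.br u v hv, mul_assoc, mul_assoc, (h.Y u hu).1, mul_one]
  have hv2 : Pr C u (v + u) := hv.add
  have e2 : y u * y (v + u) * y u = C.b v * y (v + u) := by
    rw [h.br u (v + u) hv2, mul_assoc, mul_assoc, (h.Y u hu).1, mul_one, add_comm v u, aac]
  have c1 : Commute (C.b v) (y v) := (y_comm_b h hv.2.1 (C.S.alt v)).symm
  have cm : Commute (y u) (m C u v) :=
    (y_comm_b h hu hv.2.2.2).mul_right (y_comm_b h hu hv2.2.2.2)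
  have cb : Commute (C.b v) (C.b (v + u)) := C.b_comm hv.add'.2.2.2
  have e3 : y u * g y u v * y u = m C u v * g y u v := by
    unfold g m
    calc y u * (y v * y (v + u)) * y u = y u * y v * (1 : G) * y (v + u) * y u := by group
      _ = y u * y v * (y u * y u) * y (v + u) * y u := by rw [(h.Y u hu).1]
      _ = (y u * y v * y u) * (y u * y (v + u) * y u) := by group
      _ = C.b (u + v) * y v * (C.b v * y (v + u)) := by rw [e1, e2]
      _ = C.b (u + v) * (y v * C.b v) * y (v + u) := by group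
      _ = C.b (u + v) * (C.b v * y v) * y (v + u) := by rw [c1.eq]
      _ = C.b (v + u) * C.b v * (y v * y (v + u)) := by rw [add_comm u v]; group
      _ = _ := by rw [cb.eq]
  have hmm : m C u v * m C u v = 1 := by
    unfold m
    calc C.b v * C.b (v + u) * (C.b v * C.b (v + u)) = C.b v * (C.b (v + u) * C.b v) * C.b (v + u) := by group
      _ = C.b v * (C.b v * C.b (v + u)) * C.b (v + u) := by rw [cb.eq]
      _ = (C.b v * C.b v) * (C.b (v + u) * C.b (v + u)) := by group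
      _ = 1 := by rw [C.b_sq, C.b_sq, one_mul]
  have key : z C y u * g y u v * (z C y u)⁻¹ = g y u v := by
    unfold z
    rw [mul_inv_rev, (h.Y u hu).inv, C.t_inv]
    calc y u * C.t * g y u v * (C.t * y u) = y u * (C.t * g y u v * C.t) * y u := by group
      _ = y u * (g y u v * m C u v) * y u := by rw [t_g_t h hv]
      _ = y u * g y u v * (m C u v * y u) := by group
      _ = (y u * g y u v * y u) * m C u v := by rw [← cm.eq]; group
      _ = m C u v * (g y u v * m C u v) := by rw [e3]; group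
      _ = m C u v * m C u v * g y u v := by rw [(g_comm_m h hv).eq]; group
      _ = g y u v := by rw [hmm, one_mul]
  change z C y u * g y u v = g y u v * z C y u
  calc z C y u * g y u v = z C y u * g y u v * (z C y u)⁻¹ * z C y u := by group
    _ = _ := by rw [key]

omit h in
theorem m_mem_Q {u v : V} (hv : C.S.B u v = 0) : m C u v ∈ C.Q u := C.bb_mem_Q hv

/-- conjugation of `g_v` by an element of `Q_u` -/
theorem g_Q {u v : V} (hv : Pr C u v) {k : G} (hk : k ∈ C.Q u) : Zm C u (g y u v * k * (g y u v)⁻¹ * k⁻¹) := by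
  obtain ⟨x, hx, rfl⟩ := hk
  change Zm C u (g y u v * (x : G) * (g y u v)⁻¹ * (x : G)⁻¹)
  rcases Qu_apply hx hv.2.2.2 with h1 | h1
  · left
    have := g_comm h hv hx.1 h1
    rw [this.eq, mul_inv_cancel_right, mul_inv_cancel]
  · right
    have h2 := g_conj h hv hx.1
    rw [h1, ← g_inv' h hv] at h2
    calc g y u v * (x : G) * (g y u v)⁻¹ * (x : G)⁻¹
        = g y u v * ((x : G) * g y u v * (x : G)⁻¹)⁻¹ := by group
      _ = g y u v * g y u v := by rw [h2, inv_inv]
      _ = C.b u := g_sq h hv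

/-- conjugation of `Q_u` by `y_w` -/
theorem y_Q {u w : V} (hw : Pr C u w) {x : C.L} (hx : x ∈ Qu C.S u) :
    (C.S.ρ x w = w ∧ y w * (x : G) * y w = x) ∨ (C.S.ρ x w = w + u ∧ y w * (x : G) * y w = g y u w * x) := by
  rcases Qu_apply hx hw.2.2.2 with h1 | h1
  · refine Or.inl ⟨h1, ?_⟩
    rw [(y_comm h hw.2.1 h1).eq, mul_assoc, (h.Y w hw.2.1).1, mul_one]
  · refine Or.inr ⟨h1, ?_⟩
    have h2 := h.eqv x w hw.2.1
    rw [h1] at h2
    unfold g
    rw [← h2]
    have hxx : (x : G) * x = 1 := C.Q_sq hw.1 ⟨x, hx, rfl⟩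
    group

/-- conjugation of `z_u` by `y_w` -/
theorem y_z {u w : V} (hw : Pr C u w) : y w * z C y u * y w = z C y u * m C u w := by
  have hu := hw.1
  have e1 : y w * y u * y w = C.b (w + u) * y u := by
    rw [h.br w u hw.symm, mul_assoc, mul_assoc, (h.Y w hw.2.1).1, mul_one]
  have e2 : y w * C.t * y w = C.t * C.b w := (h.Y w hw.2.1).2.1
  have c1 := z_comm_b h hu hw.add.2.2.2
  have cb : Commute (C.b w) (C.b (w + u)) := C.b_comm hw.add'.2.2.2
  calc y w * z C y u * y w = y w * y u * (1 : G) * C.t * y w := by unfold z; group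
    _ = y w * y u * (y w * y w) * C.t * y w := by rw [(h.Y w hw.2.1).1]
    _ = (y w * y u * y w) * (y w * C.t * y w) := by group
    _ = C.b (w + u) * y u * (C.t * C.b w) := by rw [e1, e2]
    _ = C.b (w + u) * z C y u * C.b w := by unfold z; group
    _ = z C y u * C.b (w + u) * C.b w := by rw [c1.eq]
    _ = _ := by rw [mul_assoc, ← cb.eq]; rfl

end Loc

end Cfsg.Agent.OddHalf.SpTwo.EndCO
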