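import Cfsg.Agent.OddHalf.SpTwo.Syl

/-!
# A hyperbolic pair orthogonal to four given vectors
-/

set_option autoImplicit false

namespace Cfsg.Agent.OddHalf.SpTwo

open Cfsg.Agent.StandardComponent.SpTwo

variable {X V : Type*} [Group X] [AddCommGroup V] [Module (ZMod 2) V]

/-- four vectors, two of which form a hyperbolic pair: there is a hyperbolic pair orthogonal to them -/
theorem exists_pair [Finite V] (D : SpData X V) (h : 256 ≤ Nat.card V) {a b : V} (c d : V)
    (hab : D.B a b = 1) :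
    ∃ x x' : V, (D.B x a = 0 ∧ D.B x b = 0 ∧ D.B x c = 0 ∧ D.B x d = 0) ∧
      (D.B x' a = 0 ∧ D.B x' b = 0 ∧ D.B x' c = 0 ∧ D.B x' d = 0) ∧ D.B x x' = 1 := by
  have hfin : Module.Finite (ZMod 2) V := Module.Finite.of_finite
  set W : Submodule (ZMod 2) V := pl a b ⊔ pl c d with hW
  have ha : a ∈ W := Submodule.mem_sup_left (mem_pl.2 (Or.inr (Or.inl rfl)))
  have hb : b ∈ W := Submodule.mem_sup_left (mem_pl.2 (Or.inr (Or.inr (Or.inl rfl))))
  have hc : c ∈ W := Submodule.mem_sup_right (mem_pl.2 (Or.inr (Or.inl rfl)))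
  have hd : d ∈ W := Submodule.mem_sup_right (mem_pl.2 (Or.inr (Or.inr (Or.inl rfl))))
  have hW4 : Module.finrank (ZMod 2) W ≤ 4 := by
    have h1 := Submodule.finrank_add_le_finrank_add_finrank (pl a b) (pl c d)
    rw [← hW] at h1
    have h2 := finrank_pl_le a b
    have h3 := finrank_pl_le c d
    omega
  have h8 := finrank_ge h
  have hp := finrank_perp D W
  obtain ⟨x, hx, hxW⟩ : ∃ x ∈ perp D W, x ∉ W := by
    by_contra hcon
    push Not at hcon
    have h3 : perp D W ≤ W := hcon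
    have h4 : perp D W = W := Submodule.eq_of_le_of_finrank_le h3 (by omega)
    have h5 : a ∈ perp D W := by rw [h4]; exact ha
    have h6 := h5 b hb
    rw [hab] at h6
    exact one_ne_zero h6
  obtain ⟨y, hy, hyx⟩ := sep D hxW
  exact ⟨x, y, ⟨hx a ha, hx b hb, hx c hc, hx d hd⟩, ⟨hy a ha, hy b hb, hy c hc, hy d hd⟩,
    by rw [D.symm]; exact hyx⟩

end Cfsg.Agent.OddHalf.SpTwo
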