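import Cfsg.Agent.OddHalf.SpTwo.EndCOP
import Cfsg.Agent.OddHalf.SpTwo.EndCC
import Cfsg.Agent.OddHalf.SpTwo.Pair4

/-!
# `Sp₂ₙ(2)`, the end of the pattern `(C, O)`: the element `p_u ∈ F_u` centralising `C_L(b_u)`, `[t, p_u] = z_u`
-/

set_option autoImplicit false

namespace Cfsg.Agent.OddHalf.SpTwo.EndCO

open Subgroup
open Cfsg.Agent.StandardComponent.SpTwo
open Cfsg.Agent.OddHalf.SpTwoN
open Cfsg.Agent.OddHalf.SpTwoN.Words
open Cfsg.Agent.OddHalf.SpTwo.EndCC

namespace Loc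

open EndCC.Loc

variable {G V : Type*} [Group G] [AddCommGroup V] [Module (ZMod 2) V] {C : Loc G V}

theorem z_of_fix {u v w : V} (hu : u ≠ 0) (hv : C.S.B u v = 0) (hw : C.S.B u w = 0) (hvw : C.S.B v w = 1)
    {x : C.L} (hx : x ∈ Qu C.S u) (fv : C.S.ρ x v = v) (fw : C.S.ρ x w = w)
    (fe : ∀ e, C.S.B u e = 0 → C.S.B v e = 0 → C.S.B w e = 0 → C.S.ρ x e = e) : Zm C u (x : G) := by
  rcases Qu_eq_of_fix hu hx (by
    intro f hf
    have hf' : C.S.B u f = 0 := by rw [C.S.symm, hf]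
    have h1 := fe (f + C.S.B f w • v + C.S.B f v • w)
      (by simp only [map_add, map_smul, hf', hv, hw, smul_zero, add_zero])
      (by
        simp only [map_add, map_smul, C.S.alt, hvw, C.S.symm v f, smul_eq_mul]
        generalize C.S.B f v = a; generalize C.S.B f w = b; revert a b; decide)
      (by
        simp only [map_add, map_smul, C.S.alt, hvw, C.S.symm w f, C.S.symm w v, smul_eq_mul]
        generalize C.S.B f v = a; generalize C.S.B f w = b; revert a b; decide)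
    rw [map_add, map_add, map_smul, map_smul, fv, fw] at h1
    exact add_right_cancel (add_right_cancel h1)) with h1 | h1
  · left; rw [h1]; rfl
  · right; rw [h1]; rfl

/-- conjugation of `m_v` by a transvection -/
theorem m_conj {u v e : V} (he : C.S.B u e = 0) :
    C.b e * m C u v * (C.b e)⁻¹ = m C u (v + C.S.B v e • e) := by
  have h1 := C.b_conj (C.S.τ e) v
  have h2 := C.b_conj (C.S.τ e) (v + u)
  rw [C.S.hτ] at h1
  rw [map_add, C.S.hτ, C.S.hτ, he, zero_smul, add_zero] at h2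
  unfold m
  rw [← h1, ← h2]
  change C.b e * (C.b v * C.b (v + u)) * (C.b e)⁻¹ = C.b e * C.b v * (C.b e)⁻¹ * (C.b e * C.b (v + u) * (C.b e)⁻¹)
  group

variable {y : V → G} (h : Eqv C y)

include h

/-- elements of `F_u` with the same bracket -/
theorem F_div1 {u : V} (hu : u ≠ 0) {a r : G} (ha : a ∈ F h hu) (hr : r ∈ F h hu) (hq : q C r = q C a) :
    r⁻¹ * a ∈ C.Q u := by
  apply mem_Q_of_F h hu (mul_mem (inv_mem hr) ha)
  rw [← q_eq_one, q_mul, q_inv, hq]
  group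

/-- `p_u`, first form: relative to a hyperbolic pair -/
structure GP {u : V} (hu : u ≠ 0) (v w : V) (p : G) : Prop where
  mem : p ∈ F h hu
  br : q C p = z C y u
  comm : ∀ e, C.S.B u e = 0 → C.S.B v e = 0 → C.S.B w e = 0 → Commute p (C.b e)
  gen : ∀ N : Subgroup G, C.t ∈ N → (∀ e, e ≠ 0 → (∀ x, C.S.B x u = 0 → C.S.B x v = 0 → C.S.B x w = 0 →
    C.S.B x e = 0) → y e ∈ N ∧ C.b e ∈ N) → p ∈ N

section hyp

variable {u v w : V} (hu : u ≠ 0) (hv : C.S.B u v = 0) (hw : C.S.B u w = 0) (hvw : C.S.B v w = 1)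

include hu hv hw hvw

theorem GP.exists : ∃ p, GP h hu v w p := by
  obtain ⟨p1, p2, p3⟩ := prs hu hv hw hvw
  obtain ⟨f1, f2, c, hc, f3⟩ := gh_facts h hu hv hw hvw
  have g1 := g_mem_F h hu p1
  obtain ⟨e1, e2⟩ := q_second h hu f1 f3 p1 rfl
  set p0 := y w * g y u v * y w * g y u v with hp0
  set c' := y w * g y u v * y w * m C u v * (y w * g y u v * y w)⁻¹ * (m C u v)⁻¹
  have hZ : Zm C u ((z C y u)⁻¹ * q C p0) := by
    rw [e2]
    have h1 : c * m C u v * c' * m C u v = c * c' := by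
      have h2 : Commute (m C u v) c' := e1.comm (C.Q_comm hu (m_mem_Q hv) (C.b_mem_Q u))
      calc c * m C u v * c' * m C u v = c * (m C u v * c') * m C u v := by group
        _ = c * c' * (m C u v * m C u v) := by rw [h2.eq]; group
        _ = _ := by rw [m_sq hu hv, mul_one]
    rw [h1]
    exact hc.mul e1
  have hp0F : p0 ∈ F h hu := mul_mem f1 g1
  have hp0c : ∀ e, C.S.B u e = 0 → C.S.B v e = 0 → C.S.B w e = 0 → Commute p0 (C.b e) := by
    intro e h1 h2 h3
    have a1 := y_comm_b h p2.2.1 h3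
    have a2 := g_comm_b h p1 h1 h2
    exact ((a1.mul_left a2).mul_left a1).mul_left a2
  have hp0g : ∀ N : Subgroup G, C.t ∈ N → (∀ e, e ≠ 0 → (∀ x, C.S.B x u = 0 → C.S.B x v = 0 → C.S.B x w = 0 →
      C.S.B x e = 0) → y e ∈ N ∧ C.b e ∈ N) → p0 ∈ N ∧ z C y u ∈ N := by
    intro N ht hN
    have a1 := (hN v p1.2.1 fun x _ h2 _ => h2).1
    have a2 := (hN w p2.2.1 fun x _ _ h3 => h3).1
    have a3 := (hN u hu fun x h1 _ _ => h1).1
    have a4 := (hN (v + u) p1.add.2.1 fun x h1 h2 _ => by rw [map_add, h1, h2, add_zero]).1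
    have a5 : g y u v ∈ N := mul_mem a1 a4
    exact ⟨mul_mem (mul_mem (mul_mem a2 a5) a2) a5, mul_mem a3 ht⟩
  rcases hZ with h1 | h1
  · exact ⟨p0, hp0F, (inv_mul_eq_one.1 h1).symm, hp0c, fun N ht hN => (hp0g N ht hN).1⟩
  · refine ⟨p0 * z C y u, mul_mem hp0F (z_mem_F h hu), ?_, ?_, fun N ht hN =>
      mul_mem (hp0g N ht hN).1 (hp0g N ht hN).2⟩
    · have h2 := F_comm_b h hu hp0F
      rw [q_mul, q_z h hu, h2.eq, mul_inv_cancel_right]
      have h3 : q C p0 = z C y u * C.b u := by rw [← h1]; group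
      rw [h3, mul_assoc, C.b_sq, mul_one]
    · intro e h1 h2 h3
      exact (hp0c e h1 h2 h3).mul_left (z_comm_b h hu h1)

/-- the defect of `p` with respect to `b_w` -/
theorem GP.defect {p : G} (hp : GP h hu v w p) :
    CM C u (C.b w) p ∨ (CM C u (C.b w) (p * m C u v) ∧ GP h hu v w (p * m C u v)) := by
  obtain ⟨p1, p2, p3⟩ := prs hu hv hw hvw
  have hτ : C.S.ρ (C.S.τ w) u = u := by rw [C.S.hτ, hw, zero_smul, add_zero]
  have hp' : C.b w * p * C.b w ∈ F h hu := by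
    have := conj_F h hu hτ hp.mem
    change C.b w * p * (C.b w)⁻¹ ∈ _ at this
    rwa [b_inv] at this
  have hqp' : q C (C.b w * p * C.b w) = z C y u := by
    have h1 := q_conj (C.commute_t (C.b_mem w)) p
    rw [b_inv, hp.br] at h1
    rw [h1, (z_comm_b h hu hw).symm.eq, mul_assoc, C.b_sq, mul_one]
  have hx := F_div1 h hu hp' hp.mem (by rw [hp.br, hqp'])
  obtain ⟨x, hxQ, hxe⟩ := hx
  change (x : G) = _ at hxe
  have hxG : (x : G) ∈ C.Q u := ⟨x, hxQ, rfl⟩
  have hxx : (x : G) * x = 1 := C.Q_sq hu hxG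
  have hpb := F_comm_b h hu hp.mem
  -- `x` fixes `w`
  have fw : C.S.ρ x w = w := by
    apply fix_of_mod p2 hxQ
    left
    have e1 : C.b w * (x : G) * C.b w = (x : G)⁻¹ := by
      rw [hxe]
      have : (p⁻¹ * (C.b w * p * C.b w))⁻¹ = (C.b w)⁻¹ * p⁻¹ * (C.b w)⁻¹ * p := by group
      rw [this, b_inv]
      calc C.b w * (p⁻¹ * (C.b w * p * C.b w)) * C.b w = C.b w * p⁻¹ * C.b w * p * (C.b w * C.b w) := by group
        _ = _ := by rw [C.b_sq, mul_one]
    rw [e1, ← mul_inv_rev, hxx, inv_one]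
  have fe : ∀ e, C.S.B u e = 0 → C.S.B v e = 0 → C.S.B w e = 0 → C.S.ρ x e = e := by
    intro e e1 e2 e3
    apply (C.commute_iff x e).1
    rw [hxe]
    have c1 := hp.comm e e1 e2 e3
    have c2 : Commute (C.b w) (C.b e) := C.b_comm e3
    exact c1.inv_left.mul_left ((c2.mul_left c1).mul_left c2)
  have cm_of : ∀ (p x : G), x = p⁻¹ * (C.b w * p * C.b w) → Commute p (C.b u) → Zm C u x →
      CM C u (C.b w) p := by
    intro p x e1 e2 e3
    have h2 : C.b w * p * (C.b w)⁻¹ * p⁻¹ = p * x * p⁻¹ := by rw [e1, b_inv]; group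
    unfold CM
    rw [h2, Zm.conj e3 e2]
    exact e3
  rcases Qu_apply hxQ hv with fv | fv
  · left
    exact cm_of p x hxe hpb (z_of_fix hu hv hw hvw hxQ fv fw fe)
  · right
    have hmvQ := m_mem_Q (C := C) hv
    have hmwQ := m_mem_Q (C := C) hw
    -- `x m_w ∈ Z`
    have hZ : Zm C u ((x : G) * m C u w) := by
      have hmQ : x * (C.S.τ w * C.S.τ (w + u)) ∈ Qu C.S u := mul_mem hxQ (ττ_mem_Qu hw)
      have h1 := z_of_fix hu hv hw hvw hmQ ?_ ?_ ?_
      · exact h1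
      · rw [C.S.ρ_mul, ρ_m hw hv, hvw, one_smul, map_add, hxQ.1, fv, add_assoc, aa, add_zero]
      · rw [C.S.ρ_mul, ρ_m hw hw, C.S.alt, zero_smul, add_zero, fw]
      · intro e e1 e2 e3
        rw [C.S.ρ_mul, ρ_m hw e1, C.S.symm e w, e3, zero_smul, add_zero, fe e e1 e2 e3]
    have hmm : C.b w * m C u v * C.b w = m C u v * m C u w := by
      have h1 := m_conj (C := C) (u := u) (v := v) hw
      rw [hvw, one_smul, b_inv] at h1
      rw [h1, m_mul hv hw hvw]
    have hcm : Commute (x : G) (m C u v) := C.Q_comm hu hxG hmvQ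
    refine ⟨cm_of _ ((x : G) * m C u w) ?_ (hpb.mul_left (C.Q_comm hu hmvQ (C.b_mem_Q u))) hZ, ?_, ?_, ?_, ?_⟩
    · have e1 : C.b w * (p * m C u v) * C.b w = (C.b w * p * C.b w) * (C.b w * m C u v * C.b w) := by
        calc C.b w * (p * m C u v) * C.b w = C.b w * p * (1 : G) * m C u v * C.b w := by group
          _ = C.b w * p * (C.b w * C.b w) * m C u v * C.b w := by rw [C.b_sq]
          _ = _ := by group
      have e2 : C.b w * p * C.b w = p * x := by rw [hxe]; group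
      rw [e1, hmm, e2]
      calc (x : G) * m C u w = (m C u v)⁻¹ * (m C u v * x) * m C u w := by group
        _ = (m C u v)⁻¹ * ((x : G) * m C u v) * m C u w := by rw [hcm.eq]
        _ = _ := by group
    · exact mul_mem hp.mem (Q_le_F h hu hmvQ)
    · rw [q_mul, q_eq_one.2 (C.commute_t (C.Q_le u hmvQ)), mul_one, mul_inv_cancel, mul_one, hp.br]
    · intro e e1 e2 e3
      refine (hp.comm e e1 e2 e3).mul_left ?_
      exact (C.b_comm e2).mul_left (C.b_comm (by rw [map_add, LinearMap.add_apply, e2, e1, add_zero]))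
    · intro N ht hN
      have a1 := (hN v p1.2.1 fun x _ h2 _ => h2).2
      have a2 := (hN (v + u) p1.add.2.1 fun x h1 h2 _ => by rw [map_add, h1, h2, add_zero]).2
      exact mul_mem (hp.gen N ht hN) (mul_mem a1 a2)

omit hu hv hw hvw in
theorem GP.symm {hu : u ≠ 0} {p : G} (hp : GP h hu v w p) : GP h hu w v p :=
  ⟨hp.mem, hp.br, fun e e1 e2 e3 => hp.comm e e1 e3 e2, fun N ht hN => hp.gen N ht fun e e0 he =>
    hN e e0 fun x x1 x2 x3 => he x x1 x3 x2⟩

theorem GP.exists2 : ∃ p, GP h hu v w p ∧ CM C u (C.b v) p ∧ CM C u (C.b w) p := by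
  obtain ⟨p, hp⟩ := GP.exists h hu hv hw hvw
  obtain ⟨p', hp', hpw⟩ : ∃ p', GP h hu v w p' ∧ CM C u (C.b w) p' := by
    rcases hp.defect h hu hv hw hvw with h1 | ⟨h1, h2⟩
    · exact ⟨p, hp, h1⟩
    · exact ⟨_, h2, h1⟩
  have hwv : C.S.B w v = 1 := by rw [C.S.symm, hvw]
  rcases (hp'.symm h).defect h hu hw hv hwv with h1 | ⟨h1, h2⟩
  · exact ⟨p', hp', h1, hpw⟩
  · refine ⟨_, h2.symm h, h1, ?_⟩
    refine hpw.mul_right (F_comm_b h hu hp'.mem) (CM.of_commute ?_)
    exact (C.b_comm (C.S.alt w)).mul_right (C.b_comm (by rw [map_add, C.S.alt, C.S.symm w u, hw, add_zero]))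

end hyp

/-- **The property of `p_u`.** -/
structure PP {u : V} (hu : u ≠ 0) (p : G) : Prop where
  mem : p ∈ F h hu
  br : q C p = z C y u
  comm : ∀ e, C.S.B u e = 0 → Commute p (C.b e)

theorem PP.unique {u : V} {hu : u ≠ 0} {p p' : G} (hp : PP h hu p) (hp' : PP h hu p') : Zm C u (p⁻¹ * p') := by
  obtain ⟨x, hx, hxe⟩ := F_div1 h hu hp'.mem hp.mem (by rw [hp.br, hp'.br])
  change (x : G) = _ at hxe
  rw [← hxe]
  rcases Qu_eq_of_fix hu hx (fun e he => by
    rw [C.S.symm] at he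
    apply (C.commute_iff x e).1
    rw [hxe]
    exact (hp.comm e he).inv_left.mul_left (hp'.comm e he)) with h1 | h1
  · left; rw [h1]; rfl
  · right; rw [h1]; rfl

theorem PP.comm_Q {u : V} {hu : u ≠ 0} {p : G} (hp : PP h hu p) {k : G} (hk : k ∈ C.Q u) : Commute p k := by
  rcases Q_cases' hu hk with h1 | ⟨v, hv, c, hc, rfl⟩
  · exact h1.comm (hp.comm u (C.S.alt u))
  · exact (hc.comm (hp.comm u (C.S.alt u))).mul_right
      ((hp.comm v hv.2.2.2).mul_right (hp.comm _ hv.add.2.2.2))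

variable [Finite V] (hV : 256 ≤ Nat.card V)

include hV

/-- comparison of the `p`'s of two orthogonal hyperbolic pairs -/
theorem GP.pp {u v w : V} (hu : u ≠ 0) (hv : C.S.B u v = 0) (hw : C.S.B u w = 0) (hvw : C.S.B v w = 1) {p : G}
    (hp : GP h hu v w p) (hpv : CM C u (C.b v) p) (hpw : CM C u (C.b w) p) : PP h hu p := by
  refine ⟨hp.mem, hp.br, fun e he => ?_⟩
  obtain ⟨x, x', ⟨xv, xw, xu, xe⟩, ⟨xv', xw', xu', xe'⟩, hxx⟩ := exists_pair C.S hV u e hvw
  have hux : C.S.B u x = 0 := by rw [C.S.symm, xu]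
  have hux' : C.S.B u x' = 0 := by rw [C.S.symm, xu']
  obtain ⟨p', hp', hpx, hpx'⟩ := GP.exists2 h hu hux hux' hxx
  obtain ⟨k, hk, hke⟩ := F_div1 h hu hp'.mem hp.mem (by rw [hp.br, hp'.br])
  change (k : G) = _ at hke
  have hpb := F_comm_b h hu hp.mem
  have hpb' := F_comm_b h hu hp'.mem
  obtain ⟨r1, r2, -⟩ := prs hu hv hw hvw
  obtain ⟨s1, s2, -⟩ := prs hu hux hux' hxx
  have fixmod : ∀ f, Pr C u f → CM C u (C.b f) p → CM C u (C.b f) p' → C.S.ρ k f = f := by
    intro f hf h1 h2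
    apply fix_of_mod hf hk
    have h3 := (h1.inv_right hpb).mul_right hpb.inv_left h2
    rw [← hke] at h3
    unfold CM at h3
    rwa [b_inv] at h3
  have vx : C.S.B v x = 0 := by rw [C.S.symm, xv]
  have vx' : C.S.B v x' = 0 := by rw [C.S.symm, xv']
  have wx : C.S.B w x = 0 := by rw [C.S.symm, xw]
  have wx' : C.S.B w x' = 0 := by rw [C.S.symm, xw']
  have fv := fixmod v r1 hpv (CM.of_commute (hp'.comm v hv xv xv').symm)
  have fw := fixmod w r2 hpw (CM.of_commute (hp'.comm w hw xw xw').symm)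
  have fx := fixmod x s1 (CM.of_commute (hp.comm x hux vx wx).symm) hpx
  have fx' := fixmod x' s2 (CM.of_commute (hp.comm x' hux' vx' wx').symm) hpx'
  have hZ : Zm C u (k : G) := by
    apply z_of_fix hu hv hw hvw hk fv fw
    intro f f1 f2 f3
    -- subtract the `x, x'`-part
    set f0 := f + C.S.B f x' • x + C.S.B f x • x' with hf0
    have e1 : C.S.B u f0 = 0 := by
      simp only [hf0, map_add, map_smul, f1, hux, hux', smul_zero, add_zero]
    have e2 : C.S.B v f0 = 0 := by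
      simp only [hf0, map_add, map_smul, f2, vx, vx', smul_zero, add_zero]
    have e3 : C.S.B w f0 = 0 := by
      simp only [hf0, map_add, map_smul, f3, wx, wx', smul_zero, add_zero]
    have e4 : C.S.B x f0 = 0 := by
      simp only [hf0, map_add, map_smul, C.S.alt, hxx, C.S.symm x f, smul_eq_mul]
      generalize C.S.B f x = a; generalize C.S.B f x' = b; revert a b; decide
    have e5 : C.S.B x' f0 = 0 := by
      simp only [hf0, map_add, map_smul, C.S.alt, hxx, C.S.symm x' f, C.S.symm x' x, smul_eq_mul]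
      generalize C.S.B f x = a; generalize C.S.B f x' = b; revert a b; decide
    have h1 : C.S.ρ k f0 = f0 := by
      apply (C.commute_iff k f0).1
      rw [hke]
      exact (hp.comm f0 e1 e2 e3).inv_left.mul_left (hp'.comm f0 e1 e4 e5)
    rw [hf0, map_add, map_add, map_smul, map_smul, fx, fx'] at h1
    exact add_right_cancel (add_right_cancel h1)
  -- `p = p' k⁻¹`
  have e1 : p = p' * (k : G)⁻¹ := by rw [hke]; group
  rw [e1]
  have h1 : Commute p' (C.b e) := hp'.comm e he xe xe'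
  have h2 : Commute (C.b e) (C.b u) := C.b_comm (by rw [C.S.symm, he])
  exact h1.mul_left ((Zm.inv hZ).comm h2).symm

/-- existence of `p_u`, inside every group containing the `y_e`, `b_e` of `⟨u, v, w⟩` -/
theorem PP.exists_gen {u v w : V} (hu : u ≠ 0) (hv : C.S.B u v = 0) (hw : C.S.B u w = 0) (hvw : C.S.B v w = 1) :
    ∃ p, PP h hu p ∧ ∀ N : Subgroup G, C.t ∈ N → (∀ e, e ≠ 0 → (∀ x, C.S.B x u = 0 → C.S.B x v = 0 →
      C.S.B x w = 0 → C.S.B x e = 0) → y e ∈ N ∧ C.b e ∈ N) → p ∈ N := by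
  obtain ⟨p, hp, h1, h2⟩ := GP.exists2 h hu hv hw hvw
  exact ⟨p, hp.pp h hV hu hv hw hvw h1 h2, hp.gen⟩

omit h in
theorem hyp_of {u : V} (hu : u ≠ 0) : ∃ v w, C.S.B u v = 0 ∧ C.S.B u w = 0 ∧ C.S.B v w = 1 := by
  obtain ⟨u', hu'⟩ := exists_dual (D := C.S) hu
  obtain ⟨x, x', ⟨h1, -, -, -⟩, ⟨h2, -, -, -⟩, h3⟩ := exists_pair C.S hV u u hu'
  exact ⟨x, x', by rw [C.S.symm, h1], by rw [C.S.symm, h2], h3⟩

theorem PP.exists {u : V} (hu : u ≠ 0) : ∃ p, PP h hu p := by
  obtain ⟨v, w, hv, hw, hvw⟩ := hyp_of (C := C) hV hu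
  obtain ⟨p, hp, -⟩ := PP.exists_gen h hV hu hv hw hvw
  exact ⟨p, hp⟩

/-- `y_e` normalises `F_u` for `e ⊥ u` -/
theorem y_norm {u e : V} (hu : u ≠ 0) (he : e ≠ 0) (hue : C.S.B u e = 0) : y e ∈ normalizer (F h hu : Set G) := by
  have hyp := hyp_of (C := C) hV hu
  have ht : C.t ∈ normalizer (F h hu : Set G) := by
    refine mem_normalizer_of (fun r hr => ?_) (fun r hr => ?_)
    · rw [C.t_inv]; exact t_F h hu hr
    · rw [C.t_inv]; exact t_F h hu hr
  by_cases heu : e = u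
  · subst heu
    have h1 : y e = z C y e * C.t := by
      unfold z
      rw [mul_assoc, C.tt, mul_one]
    rw [h1]
    exact mul_mem (le_normalizer (z_mem_F h hu)) ht
  · have hP : Pr C u e := ⟨hu, he, fun h0 => heu h0.symm, hue⟩
    refine mem_normalizer_of (fun r hr => ?_) (fun r hr => ?_)
    · rw [(h.Y e he).inv]; exact norm_F h hu hyp hP hr
    · rw [(h.Y e he).inv]; exact norm_F h hu hyp hP hr

omit hV in
omit [Finite V] in
theorem t_norm {u : V} (hu : u ≠ 0) : C.t ∈ normalizer (F h hu : Set G) := by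
  refine mem_normalizer_of (fun r hr => ?_) (fun r hr => ?_)
  · rw [C.t_inv]; exact t_F h hu hr
  · rw [C.t_inv]; exact t_F h hu hr

omit hV in
omit [Finite V] in
theorem L_norm {u : V} (hu : u ≠ 0) {x : C.L} (hx : C.S.ρ x u = u) : (x : G) ∈ normalizer (F h hu : Set G) := by
  refine mem_normalizer_of (fun r hr => conj_F h hu hx hr) (fun r hr => ?_)
  have hx' : C.S.ρ x⁻¹ u = u := by
    apply C.S.ρ_inj x
    rw [C.S.ρ_apply_inv, hx]
  have := conj_F h hu hx' hr
  push_cast at this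
  rwa [inv_inv] at this

/-- `p_v` normalises `F_u` for `v ⊥ u` -/
theorem PP.norm {u v : V} (hu : u ≠ 0) (hv : v ≠ 0) (huv : C.S.B u v = 0) {p : G} (hp : PP h hv p) :
    p ∈ normalizer (F h hu : Set G) := by
  obtain ⟨u', hu'⟩ := exists_dual (D := C.S) hu
  obtain ⟨x, x', ⟨x1, -, x2, -⟩, ⟨x3, -, x4, -⟩, hxx⟩ := exists_pair C.S hV v v hu'
  obtain ⟨p0, hp0, hgen⟩ := PP.exists_gen h hV hv (by rw [C.S.symm, x2] : C.S.B v x = 0)
    (by rw [C.S.symm, x4] : C.S.B v x' = 0) hxx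
  have hb : ∀ e, C.S.B u e = 0 → C.b e ∈ normalizer (F h hu : Set G) := fun e he =>
    L_norm h hu (x := C.S.τ e) (by rw [C.S.hτ, he, zero_smul, add_zero])
  have h1 : p0 ∈ normalizer (F h hu : Set G) := by
    apply hgen _ (t_norm h hu)
    intro e he hx
    have h2 : C.S.B u e = 0 := hx u huv (by rw [C.S.symm, x1]) (by rw [C.S.symm, x3])
    exact ⟨y_norm h hV hu he h2, hb e h2⟩
  have h2 := hp0.unique h hp
  have e1 : p = p0 * (p0⁻¹ * p) := by group
  rw [e1]
  refine mul_mem h1 ?_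
  rcases h2 with h2 | h2
  · rw [h2]; exact one_mem _
  · rw [h2]; exact hb v huv

end Loc

end Cfsg.Agent.OddHalf.SpTwo.EndCO
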