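import Cfsg.Agent.OddHalf.SpTwo.EndCOBase

/-!
# `Sp₂ₙ(2)`, the end of the pattern `(C, O)`: the group `F_u`
-/

set_option autoImplicit false

namespace Cfsg.Agent.OddHalf.SpTwo.EndCO

open Subgroup
open Cfsg.Agent.StandardComponent.SpTwo
open Cfsg.Agent.OddHalf.SpTwoN
open Cfsg.Agent.OddHalf.SpTwoN.Words
open Cfsg.Agent.OddHalf.SpTwo.EndCC

namespace Loc

open EndCC.Loc

variable {G V : Type*} [Group G] [AddCommGroup V] [Module (ZMod 2) V] {C : Loc G V}

/-! ### Commutators in `⟨b_u⟩` -/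

/-- `[a, x] ∈ ⟨b_u⟩` -/
def CM (C : Loc G V) (u : V) (a x : G) : Prop := Zm C u (a * x * a⁻¹ * x⁻¹)

theorem Zm.conj {u : V} {g x : G} (hg : Zm C u g) (hx : Commute x (C.b u)) : x * g * x⁻¹ = g := by
  rw [(hg.comm hx).eq, mul_inv_cancel_right]

theorem CM.of_commute {u : V} {a x : G} (h : Commute a x) : CM C u a x := by
  left
  rw [h.eq, mul_inv_cancel_right, mul_inv_cancel]

theorem CM.symm {u : V} {a x : G} (h : CM C u a x) : CM C u x a := by
  have h1 := Zm.inv h
  have e : (a * x * a⁻¹ * x⁻¹)⁻¹ = x * a * x⁻¹ * a⁻¹ := by group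
  rw [e] at h1
  exact h1

theorem CM.mul_right {u : V} {a x x' : G} (hx : Commute x (C.b u)) (h : CM C u a x) (h' : CM C u a x') :
    CM C u a (x * x') := by
  have e : a * (x * x') * a⁻¹ * (x * x')⁻¹ = (a * x * a⁻¹ * x⁻¹) * (x * (a * x' * a⁻¹ * x'⁻¹) * x⁻¹) := by group
  unfold CM
  rw [e, Zm.conj h' hx]
  exact Zm.mul h h'

theorem CM.mul_left {u : V} {a a' x : G} (ha : Commute a (C.b u)) (h : CM C u a x) (h' : CM C u a' x) :
    CM C u (a * a') x := (CM.mul_right ha h.symm h'.symm).symm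

theorem CM.inv_right {u : V} {a x : G} (hx : Commute x (C.b u)) (h : CM C u a x) : CM C u a x⁻¹ := by
  have e : a * x⁻¹ * a⁻¹ * x⁻¹⁻¹ = x⁻¹ * (a * x * a⁻¹ * x⁻¹)⁻¹ * x⁻¹⁻¹ := by group
  unfold CM
  rw [e, Zm.conj (Zm.inv h) hx.inv_left]
  exact Zm.inv h

theorem CM.inv_left {u : V} {a x : G} (ha : Commute a (C.b u)) (h : CM C u a x) : CM C u a⁻¹ x :=
  (h.symm.inv_right ha).symm

theorem CM.conj {u : V} {a x w : G} (hw : Commute w (C.b u)) (h : CM C u a x) :
    CM C u (w * a * w⁻¹) (w * x * w⁻¹) := by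
  have e : w * a * w⁻¹ * (w * x * w⁻¹) * (w * a * w⁻¹)⁻¹ * (w * x * w⁻¹)⁻¹ =
      w * (a * x * a⁻¹ * x⁻¹) * w⁻¹ := by group
  unfold CM
  rw [e, Zm.conj h hw]
  exact h

/-- the bracket `t g t g⁻¹` -/
def q (C : Loc G V) (g : G) : G := C.t * g * C.t * g⁻¹

theorem q_mul (g h : G) : q C (g * h) = q C g * (g * q C h * g⁻¹) := by
  unfold q
  calc C.t * (g * h) * C.t * (g * h)⁻¹ = C.t * g * (1 : G) * h * C.t * h⁻¹ * g⁻¹ := by group
    _ = C.t * g * (C.t * C.t) * h * C.t * h⁻¹ * g⁻¹ := by rw [C.tt]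
    _ = _ := by group

theorem q_one : q C (1 : G) = 1 := by
  unfold q
  rw [mul_one, C.tt, inv_one, mul_one]

theorem q_inv (g : G) : q C g⁻¹ = (g⁻¹ * q C g * g)⁻¹ := by
  have h := q_mul (C := C) g⁻¹ g
  rw [inv_mul_cancel, q_one, inv_inv] at h
  exact eq_inv_of_mul_eq_one_left h.symm

theorem q_eq_one {g : G} : q C g = 1 ↔ Commute g C.t := by
  unfold q
  rw [mul_inv_eq_one]
  constructor
  · intro h
    change g * C.t = C.t * g
    calc g * C.t = (C.t * g * C.t) * C.t := by rw [h]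
      _ = C.t * g * (C.t * C.t) := by group
      _ = _ := by rw [C.tt, mul_one]
  · intro h
    rw [mul_assoc, h.eq, ← mul_assoc, C.tt, one_mul]

theorem q_conj {x : G} (hx : Commute x C.t) (g : G) : q C (x * g * x⁻¹) = x * q C g * x⁻¹ := by
  unfold q
  calc C.t * (x * g * x⁻¹) * C.t * (x * g * x⁻¹)⁻¹ = (C.t * x) * g * (x⁻¹ * C.t) * x * g⁻¹ * x⁻¹ := by group
    _ = (x * C.t) * g * (C.t * x⁻¹) * x * g⁻¹ * x⁻¹ := by rw [hx.eq, hx.inv_left.eq]
    _ = _ := by group

theorem q_t (g : G) : q C (C.t * g * C.t) = C.t * q C g * C.t := by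
  unfold q
  calc C.t * (C.t * g * C.t) * C.t * (C.t * g * C.t)⁻¹
      = (C.t * C.t) * g * (C.t * C.t) * C.t⁻¹ * g⁻¹ * C.t⁻¹ := by group
    _ = (C.t * C.t) * g * C.t * g⁻¹ * C.t := by rw [C.tt, C.t_inv]; group
    _ = _ := by group

/-- `[g, Q_u] ≤ ⟨b_u⟩` -/
def QC (C : Loc G V) (u : V) (g : G) : Prop := ∀ k ∈ C.Q u, CM C u g k

theorem QC.comm {u : V} (hu : u ≠ 0) {g : G} (h : QC C u g) : Commute g (C.b u) := by
  have h1 := h _ (C.b_mem_Q u)
  rcases h1 with h1 | h1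
  · have h2 := mul_inv_eq_one.1 h1
    change g * C.b u = C.b u * g
    calc g * C.b u = (g * C.b u * g⁻¹) * g := by group
      _ = _ := by rw [h2]
  · exfalso
    have h2 : g * C.b u * g⁻¹ = 1 := by
      have := mul_inv_eq_iff_eq_mul.1 h1
      rw [C.b_sq] at this
      exact this
    have h3 : C.b u = 1 := by
      have : C.b u = g⁻¹ * (g * C.b u * g⁻¹) * g := by group
      rw [this, h2]; group
    exact C.b_ne_one hu h3

theorem QC.mul {u : V} (hu : u ≠ 0) {g h : G} (hg : QC C u g) (hh : QC C u h) : QC C u (g * h) :=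
  fun k hk => (hg k hk).mul_left (hg.comm hu) (hh k hk)

theorem QC.inv {u : V} (hu : u ≠ 0) {g : G} (hg : QC C u g) : QC C u g⁻¹ :=
  fun k hk => (hg k hk).inv_left (hg.comm hu)

theorem QC.conj_mem {u : V} {g k : G} (hg : QC C u g) (hk : k ∈ C.Q u) : g * k * g⁻¹ ∈ C.Q u := by
  have h1 : g * k * g⁻¹ = (g * k * g⁻¹ * k⁻¹) * k := by group
  rw [h1]
  exact mul_mem (Zm.mem_Q (hg k hk)) hk

theorem QC.mem_Q {u : V} (hu : u ≠ 0) {g : G} (hgL : g ∈ C.L) (hg : QC C u g) : g ∈ C.Q u := by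
  refine ⟨⟨g, hgL⟩, mem_Qu_of_comm_mod hu fun k hk => ?_, rfl⟩
  rcases hg k ⟨k, hk, rfl⟩ with h1 | h1
  · left; exact Subtype.ext h1
  · right; exact Subtype.ext h1

section Fgroup

variable {y : V → G} (h : Eqv C y)

include h

/-- **The group `F_u`.** -/
def F {u : V} (hu : u ≠ 0) : Subgroup G where
  carrier := {g | QC C u g ∧ ((Commute g (z C y u) ∧ q C g ∈ C.Q u) ∨
    (g * z C y u * g⁻¹ = z C y u * C.b u ∧ (z C y u)⁻¹ * q C g ∈ C.Q u))}
  one_mem' := ⟨fun k _ => CM.of_commute (Commute.one_left k), Or.inl ⟨Commute.one_left _, by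
    rw [q_one]; exact one_mem _⟩⟩
  mul_mem' := by
    rintro a c ⟨ha, ha'⟩ ⟨hc, hc'⟩
    refine ⟨ha.mul hu hc, ?_⟩
    have hab := ha.comm hu
    rcases ha' with ⟨a1, a2⟩ | ⟨a1, a2⟩ <;> rcases hc' with ⟨c1, c2⟩ | ⟨c1, c2⟩
    · left
      refine ⟨a1.mul_left c1, ?_⟩
      rw [q_mul]
      exact mul_mem a2 (ha.conj_mem c2)
    · right
      constructor
      · calc a * c * z C y u * (a * c)⁻¹ = a * (c * z C y u * c⁻¹) * a⁻¹ := by group
          _ = (a * z C y u) * C.b u * a⁻¹ := by rw [c1]; group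
          _ = z C y u * (a * C.b u) * a⁻¹ := by rw [a1.eq]; group
          _ = _ := by rw [hab.eq]; group
      · rw [q_mul]
        have e1 : (z C y u)⁻¹ * (q C a * (a * q C c * a⁻¹)) =
            ((z C y u)⁻¹ * q C a) * (a * z C y u * a⁻¹) * (a * ((z C y u)⁻¹ * q C c) * a⁻¹) := by group
        have e2 : a * z C y u * a⁻¹ = z C y u := by rw [a1.eq, mul_inv_cancel_right]
        rw [e1, e2]
        have e3 : (z C y u)⁻¹ * q C a * z C y u = q C a := by
          rw [mul_assoc, ← (z_Q h hu a2).eq, inv_mul_cancel_left]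
        rw [e3]
        exact mul_mem a2 (ha.conj_mem c2)
    · right
      constructor
      · calc a * c * z C y u * (a * c)⁻¹ = a * (c * z C y u) * c⁻¹ * a⁻¹ := by group
          _ = a * z C y u * a⁻¹ := by rw [c1.eq]; group
          _ = _ := a1
      · rw [q_mul, ← mul_assoc]
        exact mul_mem a2 (ha.conj_mem c2)
    · left
      constructor
      · have e1 : a * c * z C y u * (a * c)⁻¹ = z C y u := by
          calc a * c * z C y u * (a * c)⁻¹ = a * (c * z C y u * c⁻¹) * a⁻¹ := by group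
            _ = (a * z C y u * a⁻¹) * (a * C.b u * a⁻¹) := by rw [c1]; group
            _ = z C y u * (C.b u * C.b u) := by rw [a1, hab.eq, mul_inv_cancel_right, mul_assoc]
            _ = _ := by rw [C.b_sq, mul_one]
        change a * c * z C y u = z C y u * (a * c)
        calc a * c * z C y u = (a * c * z C y u * (a * c)⁻¹) * (a * c) := by group
          _ = _ := by rw [e1]
      · rw [q_mul]
        have e1 : q C a * (a * q C c * a⁻¹) =
            z C y u * (((z C y u)⁻¹ * q C a) * (a * z C y u * a⁻¹)) * (a * ((z C y u)⁻¹ * q C c) * a⁻¹) := by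
          group
        rw [e1, a1]
        have e2 : z C y u * (((z C y u)⁻¹ * q C a) * (z C y u * C.b u)) =
            (z C y u * z C y u) * ((z C y u)⁻¹ * q C a) * C.b u := by
          have e3 := (z_Q h hu a2).eq
          calc z C y u * (((z C y u)⁻¹ * q C a) * (z C y u * C.b u))
              = (z C y u * ((z C y u)⁻¹ * q C a)) * z C y u * C.b u := by group
            _ = (((z C y u)⁻¹ * q C a) * z C y u) * z C y u * C.b u := by rw [e3]
            _ = ((z C y u)⁻¹ * q C a) * (z C y u * z C y u) * C.b u := by group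
            _ = _ := by
              rw [z_sq h hu, (C.Q_comm hu a2 (C.b_mem_Q u)).eq]
        rw [e2, z_sq h hu]
        exact mul_mem (mul_mem (mul_mem (C.b_mem_Q u) a2) (C.b_mem_Q u)) (ha.conj_mem c2)
  inv_mem' := by
    rintro a ⟨ha, ha'⟩
    refine ⟨ha.inv hu, ?_⟩
    have hab := ha.comm hu
    have hai := ha.inv hu
    rcases ha' with ⟨a1, a2⟩ | ⟨a1, a2⟩
    · left
      refine ⟨a1.inv_left, ?_⟩
      rw [q_inv]
      have := hai.conj_mem a2
      rw [inv_inv] at this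
      exact inv_mem this
    · right
      have e1 : a⁻¹ * z C y u * a = z C y u * C.b u := by
        have e2 : a⁻¹ * (z C y u * C.b u) * a = z C y u := by rw [← a1]; group
        have e3 : a⁻¹ * (z C y u * C.b u) * a = (a⁻¹ * z C y u * a) * C.b u := by
          calc a⁻¹ * (z C y u * C.b u) * a = a⁻¹ * z C y u * (C.b u * a) := by group
            _ = a⁻¹ * z C y u * (a * C.b u) := by rw [hab.eq]
            _ = _ := by group
        rw [e3] at e2
        calc a⁻¹ * z C y u * a = (a⁻¹ * z C y u * a) * C.b u * C.b u := by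
              rw [mul_assoc _ (C.b u), C.b_sq, mul_one]
          _ = _ := by rw [e2]
      refine ⟨by rw [inv_inv]; exact e1, ?_⟩
      rw [q_inv]
      have e4 : (z C y u)⁻¹ * (a⁻¹ * q C a * a)⁻¹ =
          ((a⁻¹ * z C y u * a) * (a⁻¹ * ((z C y u)⁻¹ * q C a) * a) * z C y u)⁻¹ := by group
      rw [e4, e1]
      have e5 := hai.conj_mem a2
      rw [inv_inv] at e5
      have e6 : z C y u * C.b u * (a⁻¹ * ((z C y u)⁻¹ * q C a) * a) * z C y u =
          (z C y u * z C y u) * (C.b u * (a⁻¹ * ((z C y u)⁻¹ * q C a) * a)) := by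
        have e7 := (z_Q h hu (mul_mem (C.b_mem_Q u) e5)).eq
        calc z C y u * C.b u * (a⁻¹ * ((z C y u)⁻¹ * q C a) * a) * z C y u
            = z C y u * (C.b u * (a⁻¹ * ((z C y u)⁻¹ * q C a) * a) * z C y u) := by group
          _ = z C y u * (z C y u * (C.b u * (a⁻¹ * ((z C y u)⁻¹ * q C a) * a))) := by rw [← e7]
          _ = _ := by group
      rw [e6, z_sq h hu]
      exact inv_mem (mul_mem (C.b_mem_Q u) (mul_mem (C.b_mem_Q u) e5))

theorem mem_F {u : V} {hu : u ≠ 0} {a : G} : a ∈ F h hu ↔ QC C u a ∧ ((Commute a (z C y u) ∧ q C a ∈ C.Q u) ∨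
    (a * z C y u * a⁻¹ = z C y u * C.b u ∧ (z C y u)⁻¹ * q C a ∈ C.Q u)) := Iff.rfl

variable {u : V} (hu : u ≠ 0)

include hu

theorem Q_le_F : C.Q u ≤ F h hu := by
  intro k hk
  refine ⟨fun l hl => CM.of_commute (C.Q_comm hu hk hl), Or.inl ⟨(z_Q h hu hk).symm, ?_⟩⟩
  rw [q_eq_one.2 (C.commute_t (C.Q_le u hk))]
  exact one_mem _

theorem q_z : q C (z C y u) = C.b u := by
  unfold q
  rw [t_z_t h hu, (z_Q h hu (C.b_mem_Q u)).eq, mul_inv_cancel_right]

theorem z_mem_F : z C y u ∈ F h hu := by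
  refine ⟨fun l hl => CM.of_commute (z_Q h hu hl), Or.inl ⟨Commute.refl _, ?_⟩⟩
  rw [q_z h hu]
  exact C.b_mem_Q u

theorem g_mem_F {v : V} (hv : Pr C u v) : g y u v ∈ F h hu := by
  refine ⟨fun k hk => g_Q h hv hk, Or.inl ⟨(z_g h hv).symm, ?_⟩⟩
  unfold q
  rw [g_bracket h hv]
  exact m_mem_Q hv.2.2.2

theorem F_comm_b {a : G} (ha : a ∈ F h hu) : Commute a (C.b u) := ha.1.comm hu

/-- `P_u` normalises `F_u` -/
theorem conj_F {x : C.L} (hx : C.S.ρ x u = u) {a : G} (ha : a ∈ F h hu) : (x : G) * a * (x : G)⁻¹ ∈ F h hu := by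
  obtain ⟨a1, a2⟩ := ha
  have hxu : Commute (x : G) (C.b u) := (C.commute_iff x u).2 hx
  have hxz : Commute (z C y u) (x : G) := z_comm h hu hx
  refine ⟨fun k hk => ?_, ?_⟩
  · have h1 : (x : G)⁻¹ * k * (x : G) ∈ C.Q u := by
      have := C.Q_conj (inv_mem x.2) hxu.inv_left hk
      rwa [inv_inv] at this
    have h2 := (a1 _ h1).conj hxu
    have e : (x : G) * ((x : G)⁻¹ * k * (x : G)) * (x : G)⁻¹ = k := by group
    rwa [e] at h2
  · rw [q_conj (C.commute_t x.2)]
    rcases a2 with ⟨a2, a3⟩ | ⟨a2, a3⟩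
    · exact Or.inl ⟨(hxz.symm.mul_left a2).mul_left hxz.symm.inv_left, C.Q_conj x.2 hxu a3⟩
    · right
      constructor
      · calc (x : G) * a * (x : G)⁻¹ * z C y u * ((x : G) * a * (x : G)⁻¹)⁻¹
            = (x : G) * a * ((x : G)⁻¹ * z C y u) * (x : G) * a⁻¹ * (x : G)⁻¹ := by group
          _ = (x : G) * (a * z C y u * a⁻¹) * (x : G)⁻¹ := by rw [hxz.symm.inv_left.eq]; group
          _ = ((x : G) * z C y u) * C.b u * (x : G)⁻¹ := by rw [a2]; group
          _ = z C y u * ((x : G) * C.b u) * (x : G)⁻¹ := by rw [hxz.symm.eq]; group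
          _ = _ := by rw [hxu.eq]; group
      · have e : (z C y u)⁻¹ * ((x : G) * q C a * (x : G)⁻¹) = (x : G) * ((z C y u)⁻¹ * q C a) * (x : G)⁻¹ := by
          rw [← mul_assoc, ← mul_assoc, hxz.inv_left.eq]; group
        rw [e]
        exact C.Q_conj x.2 hxu a3

/-- `t` normalises `F_u` -/
theorem t_F {a : G} (ha : a ∈ F h hu) : C.t * a * C.t ∈ F h hu := by
  have hab := F_comm_b h hu ha
  obtain ⟨a1, a2⟩ := ha
  have htb : Commute C.t (C.b u) := (C.commute_t (C.b_mem u)).symm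
  have ti := C.t_inv
  refine ⟨fun k hk => ?_, ?_⟩
  · have h2 := (a1 _ hk).conj htb
    rw [ti] at h2
    have e : C.t * k * C.t = k := by
      rw [mul_assoc, (C.commute_t (C.Q_le u hk)).eq, ← mul_assoc, C.tt, one_mul]
    rwa [e] at h2
  · rw [q_t]
    have hz := t_z_t h hu
    have e0 : ∀ c : G, C.t * a * C.t * c * (C.t * a * C.t)⁻¹ = C.t * (a * (C.t * c * C.t) * a⁻¹) * C.t := by
      intro c
      rw [mul_inv_rev, mul_inv_rev, ti]
      group
    have e1 : a * (C.t * z C y u * C.t) * a⁻¹ = (a * z C y u * a⁻¹) * C.b u := by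
      rw [hz]
      calc a * (z C y u * C.b u) * a⁻¹ = a * z C y u * (C.b u * a⁻¹) := by group
        _ = a * z C y u * (a⁻¹ * C.b u) := by rw [hab.inv_left.eq]
        _ = _ := by group
    rcases a2 with ⟨a2, a3⟩ | ⟨a2, a3⟩
    · left
      constructor
      · have e2 : C.t * a * C.t * z C y u * (C.t * a * C.t)⁻¹ = z C y u := by
          rw [e0, e1, a2.eq, mul_inv_cancel_right]
          calc C.t * (z C y u * C.b u) * C.t = C.t * z C y u * (C.b u * C.t) := by group
            _ = (C.t * z C y u * C.t) * C.b u := by rw [← htb.eq]; group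
            _ = z C y u := by rw [hz, mul_assoc, C.b_sq, mul_one]
        change C.t * a * C.t * z C y u = z C y u * (C.t * a * C.t)
        calc C.t * a * C.t * z C y u = (C.t * a * C.t * z C y u * (C.t * a * C.t)⁻¹) * (C.t * a * C.t) := by group
          _ = _ := by rw [e2]
      · rw [mul_assoc, (C.commute_t (C.Q_le u a3)).eq, ← mul_assoc, C.tt, one_mul]
        exact a3
    · right
      constructor
      · rw [e0, e1, a2, mul_assoc _ (C.b u), C.b_sq, mul_one, hz]
      · have e3 : C.t * q C a * C.t = (C.t * z C y u * C.t) * (C.t * ((z C y u)⁻¹ * q C a) * C.t) := by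
          calc C.t * q C a * C.t = C.t * z C y u * (1 : G) * ((z C y u)⁻¹ * q C a) * C.t := by group
            _ = C.t * z C y u * (C.t * C.t) * ((z C y u)⁻¹ * q C a) * C.t := by rw [C.tt]
            _ = _ := by group
        have e4 : C.t * ((z C y u)⁻¹ * q C a) * C.t = (z C y u)⁻¹ * q C a := by
          rw [mul_assoc, (C.commute_t (C.Q_le u a3)).eq, ← mul_assoc, C.tt, one_mul]
        rw [e3, e4, hz]
        have e5 : (z C y u)⁻¹ * (z C y u * C.b u * ((z C y u)⁻¹ * q C a)) = C.b u * ((z C y u)⁻¹ * q C a) := by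
          group
        rw [e5]
        exact mul_mem (C.b_mem_Q u) a3

/-- `C_{F_u}(t) = Q_u` -/
theorem mem_Q_of_F {a : G} (ha : a ∈ F h hu) (hat : Commute a C.t) : a ∈ C.Q u := by
  obtain ⟨a1, a2⟩ := ha
  have hq : q C a = 1 := q_eq_one.2 hat
  rcases a2 with ⟨a2, -⟩ | ⟨-, a3⟩
  · rcases (C.cent a).1 hat with h1 | h1
    · exact a1.mem_Q hu h1
    · exfalso
      have h2 : QC C u (C.t * a) := by
        have h3 : QC C u C.t := fun k hk => CM.of_commute (C.commute_t (C.Q_le u hk)).symm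
        exact h3.mul hu a1
      have h4 := h2.mem_Q hu h1
      have h5 := (z_Q h hu h4)
      have h6 := h5.mul_right (a2.symm.inv_right)
      rw [mul_inv_cancel_right] at h6
      exact z_not_t h hu h6
  · exfalso
    rw [hq, mul_one] at a3
    exact z_not_t h hu (by
      have := (C.commute_t (C.Q_le u a3)).inv_left
      rwa [inv_inv] at this)

theorem F_second_not {a : G} (h1 : a * z C y u * a⁻¹ = z C y u * C.b u) (h2 : Commute a (z C y u)) : False := by
  rw [h2.eq, mul_inv_cancel_right] at h1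
  exact C.b_ne_one hu (mul_eq_left.1 h1.symm)

/-- elements of `F_u` with bracket in `⟨b_u⟩` -/
theorem mem_D_of_F {a : G} (ha : a ∈ F h hu) (hq : Zm C u (q C a)) : a ∈ C.Q u ∨ (z C y u)⁻¹ * a ∈ C.Q u := by
  rcases hq with hq | hq
  · exact Or.inl (mem_Q_of_F h hu ha (q_eq_one.1 hq))
  · right
    apply mem_Q_of_F h hu (mul_mem (inv_mem (z_mem_F h hu)) ha)
    rw [← q_eq_one, q_mul, q_inv, q_z h hu, hq]
    group

/-- `[a, x] ∈ ⟨b_u⟩` for `x ∈ ⟨z_u⟩ Q_u` -/
theorem F_CM_D {a x : G} (ha : a ∈ F h hu) (hx : x ∈ C.Q u ∨ (z C y u)⁻¹ * x ∈ C.Q u) : CM C u a x := by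
  have hz : CM C u a (z C y u) := by
    rcases ha.2 with ⟨a2, -⟩ | ⟨a2, -⟩
    · exact CM.of_commute a2
    · right
      rw [a2]
      calc z C y u * C.b u * (z C y u)⁻¹ = (z C y u * C.b u) * (z C y u)⁻¹ := rfl
        _ = C.b u := by rw [(z_Q h hu (C.b_mem_Q u)).eq, mul_inv_cancel_right]
  rcases hx with hx | hx
  · exact ha.1 x hx
  · have e : x = z C y u * ((z C y u)⁻¹ * x) := by group
    rw [e]
    exact hz.mul_right (z_Q h hu (C.b_mem_Q u)) (ha.1 _ hx)

theorem D_sq {x : G} (hx : x ∈ C.Q u ∨ (z C y u)⁻¹ * x ∈ C.Q u) : Zm C u (x * x) := by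
  rcases hx with hx | hx
  · left; exact C.Q_sq hu hx
  · right
    have e : x = z C y u * ((z C y u)⁻¹ * x) := by group
    have h1 := (z_Q h hu hx).eq
    rw [e]
    calc z C y u * ((z C y u)⁻¹ * x) * (z C y u * ((z C y u)⁻¹ * x))
        = z C y u * (((z C y u)⁻¹ * x) * z C y u) * ((z C y u)⁻¹ * x) := by group
      _ = z C y u * (z C y u * ((z C y u)⁻¹ * x)) * ((z C y u)⁻¹ * x) := by rw [h1]
      _ = (z C y u * z C y u) * (((z C y u)⁻¹ * x) * ((z C y u)⁻¹ * x)) := by group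
      _ = C.b u := by rw [z_sq h hu, C.Q_sq hu hx, mul_one]

theorem D_comm_b {x : G} (hx : x ∈ C.Q u ∨ (z C y u)⁻¹ * x ∈ C.Q u) : Commute x (C.b u) := by
  rcases hx with hx | hx
  · exact C.Q_comm hu hx (C.b_mem_Q u)
  · have e : x = z C y u * ((z C y u)⁻¹ * x) := by group
    rw [e]
    exact (z_Q h hu (C.b_mem_Q u)).mul_left (C.Q_comm hu hx (C.b_mem_Q u))

theorem D_mem_F {x : G} (hx : x ∈ C.Q u ∨ (z C y u)⁻¹ * x ∈ C.Q u) : x ∈ F h hu := by
  rcases hx with hx | hx
  · exact Q_le_F h hu hx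
  · have e : x = z C y u * ((z C y u)⁻¹ * x) := by group
    rw [e]
    exact mul_mem (z_mem_F h hu) (Q_le_F h hu hx)

/-- two elements of `F_u` whose brackets differ by an element of `⟨b_u⟩` -/
theorem F_div {a r : G} (ha : a ∈ F h hu) (hr : r ∈ F h hu) (hq : Zm C u ((q C r)⁻¹ * q C a)) :
    r⁻¹ * a ∈ C.Q u ∨ (z C y u)⁻¹ * (r⁻¹ * a) ∈ C.Q u := by
  apply mem_D_of_F h hu (mul_mem (inv_mem hr) ha)
  have e : q C (r⁻¹ * a) = r⁻¹ * ((q C r)⁻¹ * q C a) * r⁻¹⁻¹ := by
    rw [q_mul, q_inv]; group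
  rw [e, hq.conj (F_comm_b h hu hr).inv_left]
  exact hq

/-- if `r` has square in `⟨b_u⟩` then so has `a` -/
theorem F_sq_of {a r : G} (ha : a ∈ F h hu) (hr : r ∈ F h hu) (hq : Zm C u ((q C r)⁻¹ * q C a))
    (hrr : Zm C u (r * r)) : Zm C u (a * a) := by
  have h1 := F_div h hu ha hr hq
  have e : a = r * (r⁻¹ * a) := by group
  rw [e]
  exact sq_of_comm (F_comm_b h hu hr) (D_comm_b h hu h1) hrr (D_sq h hu h1) (F_CM_D h hu hr h1)

/-- representatives with bracket in `Q_u` -/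
theorem rep_Q {k : G} (hk : k ∈ C.Q u) : ∃ r ∈ F h hu, Commute r (z C y u) ∧ Zm C u (r * r) ∧ q C r = k := by
  obtain ⟨w, hw, hkw⟩ := Q_cases hu hk
  have key : k = 1 ∨ k = C.b u ∨ (Pr C u w ∧ (k = C.b u * m C u w ∨ k = m C u w)) := by
    by_cases hw0 : w = 0
    · subst hw0
      rcases hkw with h1 | h1
      · left; rw [h1, C.b_zero, zero_add, mul_one, C.b_sq]
      · right; left; rw [h1, C.b_zero, zero_add, one_mul]
    by_cases hwu : w = u
    · subst hwu
      rcases hkw with h1 | h1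
      · left; rw [h1, aa, C.b_zero, mul_one, C.b_sq]
      · right; left; rw [h1, aa, C.b_zero, mul_one]
    right; right
    refine ⟨⟨hu, hw0, fun h0 => hwu h0.symm, hw⟩, ?_⟩
    unfold m
    rcases hkw with h1 | h1
    · left; rw [h1, mul_assoc]
    · right; exact h1
  rcases key with h1 | h1 | ⟨hv, h1⟩
  · exact ⟨1, one_mem _, Commute.one_left _, by rw [one_mul]; exact Zm.one u, by rw [q_one, h1]⟩
  · exact ⟨z C y u, z_mem_F h hu, Commute.refl _, by rw [z_sq h hu]; exact Zm.b u, by rw [q_z h hu, h1]⟩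
  · have hg : q C (g y u w) = m C u w := g_bracket h hv
    have hzg := z_g h hv
    rcases h1 with h1 | h1
    · refine ⟨z C y u * g y u w, mul_mem (z_mem_F h hu) (g_mem_F h hu hv), (Commute.refl _).mul_left hzg.symm,
        ?_, ?_⟩
      · left
        calc z C y u * g y u w * (z C y u * g y u w) = z C y u * (g y u w * z C y u) * g y u w := by group
          _ = z C y u * (z C y u * g y u w) * g y u w := by rw [hzg.eq]
          _ = (z C y u * z C y u) * (g y u w * g y u w) := by group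
          _ = 1 := by rw [z_sq h hu, g_sq h hv, C.b_sq]
      · rw [q_mul, q_z h hu, hg, (z_Q h hu (m_mem_Q hw)).eq, mul_inv_cancel_right, h1]
    · exact ⟨g y u w, g_mem_F h hu hv, hzg.symm, by rw [g_sq h hv]; exact Zm.b u, by rw [hg, h1]⟩

/-- squares of the elements commuting with `z_u` -/
theorem R_sq {a : G} (ha : a ∈ F h hu) (haz : Commute a (z C y u)) : Zm C u (a * a) := by
  rcases ha.2 with ⟨-, a3⟩ | ⟨a2, -⟩
  · obtain ⟨r, hr, -, hrr, hrq⟩ := rep_Q h hu a3
    exact F_sq_of h hu ha hr (by rw [hrq, inv_mul_cancel]; exact Zm.one u) hrr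
  · exact (F_second_not h hu a2 haz).elim

theorem R_CM {a c : G} (ha : a ∈ F h hu) (haz : Commute a (z C y u)) (hc : c ∈ F h hu)
    (hcz : Commute c (z C y u)) : CM C u a c :=
  comm_of_sq (F_comm_b h hu hc) (R_sq h hu ha haz) (R_sq h hu hc hcz)
    (R_sq h hu (mul_mem ha hc) (haz.mul_left hcz))

end Fgroup

end Loc

end Cfsg.Agent.OddHalf.SpTwo.EndCO
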