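import Cfsg.Agent.OddHalf.SpTwo.EndCOF

/-!
# `Sp₂ₙ(2)`, the end of the pattern `(C, O)`: `[F_u, F_u] ≤ ⟨b_u⟩`, and `y_v` normalises `F_u` for `v ⊥ u`
-/

set_option autoImplicit false

namespace Cfsg.Agent.OddHalf.SpTwo.EndCO

open Subgroup
open Cfsg.Agent.StandardComponent.SpTwo
open Cfsg.Agent.OddHalf.SpTwoN
open Cfsg.Agent.OddHalf.SpTwoN.Words
open Cfsg.Agent.OddHalf.SpTwo.EndCC

namespace Loc

open EndCC.Loc

variable {G V : Type*} [Group G] [AddCommGroup V] [Module (ZMod 2) V] {C : Loc G V}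

/-! ### The elements `m_v` -/

theorem m_eq (u v : V) : (C.S.τ v * C.S.τ (v + u) : C.L) = C.S.τ u * sg C.S u v := by
  unfold sg
  rw [← mul_assoc, ← mul_assoc, C.S.τ_sq, one_mul, add_comm u v]

theorem m_mul {u v w : V} (hv : C.S.B u v = 0) (hw : C.S.B u w = 0) (hvw : C.S.B v w = 1) :
    m C u v * m C u w = m C u (v + w) := by
  have h1 : (C.S.τ v * C.S.τ (v + u)) * (C.S.τ w * C.S.τ (w + u)) = C.S.τ (v + w) * C.S.τ (v + w + u) := by
    rw [m_eq, m_eq, m_eq]
    have h2 := (commute_τ_sg C.S (C.S.alt u) hv).eq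
    calc C.S.τ u * sg C.S u v * (C.S.τ u * sg C.S u w) = C.S.τ u * (sg C.S u v * C.S.τ u) * sg C.S u w := by
          group
      _ = C.S.τ u * (C.S.τ u * sg C.S u v) * sg C.S u w := by rw [h2]
      _ = (C.S.τ u * C.S.τ u) * (sg C.S u v * sg C.S u w) := by group
      _ = C.S.τ u * sg C.S u (v + w) := by
          rw [C.S.τ_sq, one_mul, sg_mul C.S hv hw, hvw, one_smul]
  exact congrArg Subtype.val h1

theorem m_sq {u v : V} (hu : u ≠ 0) (hv : C.S.B u v = 0) : m C u v * m C u v = 1 := C.Q_sq hu (m_mem_Q hv)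

theorem m_not_Zm {u v : V} (hv : Pr C u v) : ¬ Zm C u (m C u v) := by
  obtain ⟨x, hx1, hx2⟩ := C.S.exists_sep hv.2.1 hv.2.2.1.symm
  have hx2' : C.S.B u x = 0 := by rw [C.S.symm, hx2]
  have h1 := ρ_m (D := C.S) hv.2.2.2 hx2'
  rw [hx1, one_smul] at h1
  intro h2
  have h3 : C.S.ρ (C.S.τ v * C.S.τ (v + u)) x = x := by
    rcases h2 with h2 | h2
    · have : (C.S.τ v * C.S.τ (v + u) : C.L) = 1 := Subtype.ext h2
      rw [this, C.S.ρ_one]
    · have : (C.S.τ v * C.S.τ (v + u) : C.L) = C.S.τ u := Subtype.ext h2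
      rw [this, C.S.hτ, hx2, zero_smul, add_zero]
  rw [h1] at h3
  exact hv.1 (by
    have := add_left_cancel (h3.trans (add_zero x).symm)
    exact this)

/-- `x ∈ Q_u` fixes `e` if it commutes with `b_e` modulo `⟨b_u⟩` -/
theorem fix_of_mod {u e : V} (he : Pr C u e) {x : C.L} (hx : x ∈ Qu C.S u)
    (h1 : Zm C u (C.b e * (x : G) * C.b e * (x : G)⁻¹)) : C.S.ρ x e = e := by
  rcases Qu_apply hx he.2.2.2 with h2 | h2
  · exact h2
  · exfalso
    apply m_not_Zm he
    have h3 := C.b_conj x e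
    rw [h2] at h3
    unfold m
    rw [← h3]
    have e1 : C.b e * ((x : G) * C.b e * (x : G)⁻¹) = C.b e * (x : G) * C.b e * (x : G)⁻¹ := by group
    rw [e1]
    exact h1

theorem Q_cases' {u : V} (hu : u ≠ 0) {k : G} (hk : k ∈ C.Q u) :
    Zm C u k ∨ ∃ v, Pr C u v ∧ ∃ c, Zm C u c ∧ k = c * m C u v := by
  obtain ⟨w, hw, hkw⟩ := Q_cases hu hk
  by_cases hw0 : w = 0
  · subst hw0
    left
    rcases hkw with h1 | h1
    · left; rw [h1, C.b_zero, zero_add, mul_one, C.b_sq]
    · right; rw [h1, C.b_zero, zero_add, one_mul]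
  by_cases hwu : w = u
  · subst hwu
    left
    rcases hkw with h1 | h1
    · left; rw [h1, aa, C.b_zero, mul_one, C.b_sq]
    · right; rw [h1, aa, C.b_zero, mul_one]
  right
  refine ⟨w, ⟨hu, hw0, fun h0 => hwu h0.symm, hw⟩, ?_⟩
  rcases hkw with h1 | h1
  · exact ⟨C.b u, Zm.b u, by rw [h1, mul_assoc]; rfl⟩
  · exact ⟨1, Zm.one u, by rw [h1, one_mul]; rfl⟩

/-- three elements with commutators in `⟨b_u⟩` -/
theorem Zm_perm {u : V} {a c d : G} (hc : Commute c (C.b u)) (h1 : CM C u d c) (h2 : CM C u d a)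
    (h3 : CM C u c a) : Zm C u (d * c * a * d⁻¹ * c⁻¹ * a⁻¹) := by
  have e : d * c * a * d⁻¹ * c⁻¹ * a⁻¹ =
      (d * c * d⁻¹ * c⁻¹) * (c * (d * a * d⁻¹ * a⁻¹) * c⁻¹) * (c * a * c⁻¹ * a⁻¹) := by group
  rw [e, Zm.conj h2 hc]
  exact (Zm.mul h1 h2).mul h3

variable {y : V → G} (h : Eqv C y)

include h

theorem g_swap {u v : V} (hv : Pr C u v) {x : C.L} (hx : x ∈ Qu C.S u) (h1 : C.S.ρ x v = v + u) :
    g y u v * (x : G) * (g y u v)⁻¹ = (x : G) * C.b u := by
  have h2 := g_conj h hv hx.1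
  rw [h1, ← g_inv' h hv] at h2
  have h3 : Commute (x : G) (C.b u) := (C.commute_iff x u).2 hx.1
  calc g y u v * (x : G) * (g y u v)⁻¹
      = g y u v * ((x : G) * g y u v * (x : G)⁻¹)⁻¹ * (x : G) := by group
    _ = g y u v * g y u v * (x : G) := by rw [h2, inv_inv]
    _ = _ := by rw [g_sq h hv, h3.eq]

section hyp

variable {u v w : V} (hu : u ≠ 0) (hv : C.S.B u v = 0) (hw : C.S.B u w = 0) (hvw : C.S.B v w = 1)

omit h in
theorem prs (hu : u ≠ 0) (hv : C.S.B u v = 0) (hw : C.S.B u w = 0) (hvw : C.S.B v w = 1) :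
    Pr C u v ∧ Pr C u w ∧ Pr C u (v + w) := by
  refine ⟨Pr.of_hyp hu hv hw hvw, Pr.of_hyp hu hw hv (by rw [C.S.symm, hvw]), ?_⟩
  exact Pr.of_hyp (w := w) hu (by rw [map_add, hv, hw, add_zero]) hw (by
    rw [map_add, LinearMap.add_apply, hvw, C.S.alt, add_zero])

include hu hv hw hvw

theorem g_m_hyp : g y u v * m C u w * (g y u v)⁻¹ = m C u w * C.b u := by
  obtain ⟨p1, p2, p3⟩ := prs hu hv hw hvw
  have h1 : (C.S.τ w * C.S.τ (w + u) : C.L) ∈ Qu C.S u := ττ_mem_Qu hw
  have h2 := ρ_m (D := C.S) hw hv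
  rw [hvw, one_smul] at h2
  exact g_swap h p1 h1 h2

theorem q_hh : q C (g y u v * g y u w * g y u (v + w)) = C.b u := by
  obtain ⟨p1, p2, p3⟩ := prs hu hv hw hvw
  have q1 : q C (g y u v) = m C u v := g_bracket h p1
  have q2 : q C (g y u w) = m C u w := g_bracket h p2
  have q3 : q C (g y u (v + w)) = m C u (v + w) := g_bracket h p3
  have hvw' : C.S.B v (v + w) = 1 := by rw [map_add, C.S.alt, hvw, zero_add]
  have hwv' : C.S.B w (v + w) = 1 := by rw [map_add, C.S.symm w v, hvw, C.S.alt, add_zero]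
  have hs : C.S.B u (v + w) = 0 := p3.2.2.2
  have e1 := g_m_hyp h hu hv hw hvw
  have e2 := g_m_hyp h hu hv hs hvw'
  have e3 := g_m_hyp h hu hw hs hwv'
  have cb : ∀ k ∈ C.Q u, Commute (C.b u) k := fun k hk => C.Q_comm hu (C.b_mem_Q u) hk
  have cg : Commute (g y u v) (C.b u) := g_comm_b h p1 (C.S.alt u) (by rw [C.S.symm, hv])
  have mm := m_mul hv hw hvw
  rw [q_mul, q_mul, q1, q2, q3, e1]
  have e4 : g y u v * g y u w * m C u (v + w) * (g y u v * g y u w)⁻¹ = m C u (v + w) := by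
    calc g y u v * g y u w * m C u (v + w) * (g y u v * g y u w)⁻¹
        = g y u v * (g y u w * m C u (v + w) * (g y u w)⁻¹) * (g y u v)⁻¹ := by group
      _ = g y u v * m C u (v + w) * (C.b u * (g y u v)⁻¹) := by rw [e3]; group
      _ = (g y u v * m C u (v + w) * (g y u v)⁻¹) * C.b u := by rw [← cg.inv_left.eq]; group
      _ = m C u (v + w) * (C.b u * C.b u) := by rw [e2]; group
      _ = _ := by rw [C.b_sq, mul_one]
  rw [e4, ← mul_assoc, mm]
  have e5 := (cb _ (m_mem_Q hs)).eq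
  rw [mul_assoc, e5, ← mul_assoc, m_sq hu hs, one_mul]

/-- `g_v g_w g_{v+w} ∈ z_u ⟨b_u⟩` -/
theorem hh_eq : Zm C u ((z C y u)⁻¹ * (g y u v * g y u w * g y u (v + w))) := by
  obtain ⟨p1, p2, p3⟩ := prs hu hv hw hvw
  have f1 := g_mem_F h hu p1
  have f2 := g_mem_F h hu p2
  have f3 := g_mem_F h hu p3
  have z1 := z_g h p1
  have z2' := z_g h p2
  have z3 := z_g h p3
  have hq := q_hh h hu hv hw hvw
  have hD := mem_D_of_F h hu (mul_mem (mul_mem f1 f2) f3) (by rw [hq]; exact Zm.b u)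
  rcases hD with hD | hD
  · exfalso
    have := q_eq_one.2 (C.commute_t (C.Q_le u hD))
    rw [hq] at this
    exact C.b_ne_one hu this
  obtain ⟨x, hx, hxe⟩ := hD
  change (x : G) = _ at hxe
  rw [← hxe]
  have cm12 := R_CM h hu f1 z1.symm f2 z2'.symm
  have cm13 := R_CM h hu f1 z1.symm f3 z3.symm
  have cm23 := R_CM h hu f2 z2'.symm f3 z3.symm
  have cbw : Commute (z C y u) (C.b w) := z_comm_b h hu hw
  have cbv : Commute (z C y u) (C.b v) := z_comm_b h hu hv
  have hτu : ∀ e : V, C.S.B u e = 0 → C.S.ρ (C.S.τ e) u = u := fun e he => by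
    rw [C.S.hτ, he, zero_smul, add_zero]
  have gw : ∀ (e a a' : V), C.S.B u e = 0 → Pr C u a → a + C.S.B a e • e = a' →
      C.b e * g y u a * C.b e = g y u a' := by
    intro e a a' he ha haa
    have := g_conj h ha (hτu e he)
    rw [C.S.hτ, haa] at this
    change C.b e * g y u a * (C.b e)⁻¹ = _ at this
    rwa [b_inv] at this
  -- `x` fixes `w`
  have fw : C.S.ρ x w = w := by
    apply fix_of_mod p2 hx
    have a1 : C.b w * g y u v * C.b w = g y u (v + w) := gw w v _ hw p1 (by rw [hvw, one_smul])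
    have a2 : C.b w * g y u w * C.b w = g y u w := gw w w _ hw p2 (by rw [C.S.alt, zero_smul, add_zero])
    have a3 : C.b w * g y u (v + w) * C.b w = g y u v := gw w _ _ hw p3 (by
      rw [map_add, LinearMap.add_apply, hvw, C.S.alt, add_zero, one_smul, aab])
    have e1 : C.b w * (x : G) * C.b w = (z C y u)⁻¹ * (g y u (v + w) * g y u w * g y u v) := by
      rw [hxe]
      calc C.b w * ((z C y u)⁻¹ * (g y u v * g y u w * g y u (v + w))) * C.b w
          = (C.b w * (z C y u)⁻¹) * g y u v * (1 : G) * g y u w * (1 : G) * g y u (v + w) * C.b w := by group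
        _ = ((z C y u)⁻¹ * C.b w) * g y u v * (C.b w * C.b w) * g y u w * (C.b w * C.b w) * g y u (v + w) *
            C.b w := by rw [C.b_sq, cbw.inv_left.eq]
        _ = (z C y u)⁻¹ * ((C.b w * g y u v * C.b w) * (C.b w * g y u w * C.b w) *
            (C.b w * g y u (v + w) * C.b w)) := by group
        _ = _ := by rw [a1, a2, a3]
    rw [e1, hxe]
    have e2 : (z C y u)⁻¹ * (g y u (v + w) * g y u w * g y u v) *
        ((z C y u)⁻¹ * (g y u v * g y u w * g y u (v + w)))⁻¹ =
        (z C y u)⁻¹ * (g y u (v + w) * g y u w * g y u v * (g y u (v + w))⁻¹ * (g y u w)⁻¹ * (g y u v)⁻¹) *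
          (z C y u)⁻¹⁻¹ := by group
    rw [e2]
    have e3 := Zm_perm (C := C) (a := g y u v) (F_comm_b h hu f2) cm23.symm cm13.symm cm12.symm
    rw [Zm.conj e3 (z_comm_b h hu (C.S.alt u)).inv_left]
    exact e3
  have fv : C.S.ρ x v = v := by
    apply fix_of_mod p1 hx
    have a1 : C.b v * g y u v * C.b v = g y u v := gw v v _ hv p1 (by rw [C.S.alt, zero_smul, add_zero])
    have a2 : C.b v * g y u w * C.b v = g y u (v + w) := gw v w _ hv p2 (by
      rw [C.S.symm w v, hvw, one_smul, add_comm])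
    have a3 : C.b v * g y u (v + w) * C.b v = g y u w := gw v _ _ hv p3 (by
      rw [map_add, LinearMap.add_apply, C.S.alt, C.S.symm w v, hvw, zero_add, one_smul, add_comm v w, aab])
    have e1 : C.b v * (x : G) * C.b v = (z C y u)⁻¹ * (g y u v * g y u (v + w) * g y u w) := by
      rw [hxe]
      calc C.b v * ((z C y u)⁻¹ * (g y u v * g y u w * g y u (v + w))) * C.b v
          = (C.b v * (z C y u)⁻¹) * g y u v * (1 : G) * g y u w * (1 : G) * g y u (v + w) * C.b v := by group
        _ = ((z C y u)⁻¹ * C.b v) * g y u v * (C.b v * C.b v) * g y u w * (C.b v * C.b v) * g y u (v + w) *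
            C.b v := by rw [C.b_sq, cbv.inv_left.eq]
        _ = (z C y u)⁻¹ * ((C.b v * g y u v * C.b v) * (C.b v * g y u w * C.b v) *
            (C.b v * g y u (v + w) * C.b v)) := by group
        _ = _ := by rw [a1, a2, a3]
    rw [e1, hxe]
    have e2 : (z C y u)⁻¹ * (g y u v * g y u (v + w) * g y u w) *
        ((z C y u)⁻¹ * (g y u v * g y u w * g y u (v + w)))⁻¹ =
        ((z C y u)⁻¹ * g y u v) * (g y u (v + w) * g y u w * (g y u (v + w))⁻¹ * (g y u w)⁻¹) *
          ((z C y u)⁻¹ * g y u v)⁻¹ := by group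
    rw [e2]
    have e3 := cm23.symm
    rw [Zm.conj e3 ((z_comm_b h hu (C.S.alt u)).inv_left.mul_left (F_comm_b h hu f1))]
    exact e3
  -- `x` fixes the vectors perpendicular to `u`, `v`, `w`
  have fe : ∀ e, C.S.B u e = 0 → C.S.B v e = 0 → C.S.B w e = 0 → C.S.ρ x e = e := by
    intro e e1 e2 e3
    apply (C.commute_iff x e).1
    rw [hxe]
    have c1 := (z_comm_b h hu e1).inv_left
    have c2 := g_comm_b h p1 e1 e2
    have c3 := g_comm_b h p2 e1 e3
    have c4 := g_comm_b h p3 e1 (by rw [map_add, LinearMap.add_apply, e2, e3, add_zero])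
    exact c1.mul_left ((c2.mul_left c3).mul_left c4)
  rcases Qu_eq_of_fix hu hx (by
    intro f hf
    have hf' : C.S.B u f = 0 := by rw [C.S.symm, hf]
    have h1 := fe (f + C.S.B f w • v + C.S.B f v • w)
      (by simp only [map_add, map_smul, hf', hv, hw, smul_zero, add_zero])
      (by
        simp only [map_add, map_smul, C.S.alt, hvw, C.S.symm v f, smul_eq_mul]
        generalize C.S.B f v = a; generalize C.S.B f w = b; revert a b; decide)
      (by
        simp only [map_add, map_smul, C.S.alt, hvw, C.S.symm w f, C.S.symm w v, smul_eq_mul]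
        generalize C.S.B f v = a; generalize C.S.B f w = b; revert a b; decide)
    rw [map_add, map_add, map_smul, map_smul, fv, fw] at h1
    exact add_right_cancel (add_right_cancel h1)) with h1 | h1
  · left; rw [h1]; rfl
  · right; rw [h1]; rfl

/-- `g_v` and `g_w` commute for `(v, w) = 1` -/
theorem g_g : Commute (g y u v) (g y u w) := by
  obtain ⟨p1, p2, p3⟩ := prs hu hv hw hvw
  have f1 := g_mem_F h hu p1
  have f2 := g_mem_F h hu p2
  have f3 := g_mem_F h hu p3
  have cm12 := R_CM h hu f1 (z_g h p1).symm f2 (z_g h p2).symm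
  have cm13 := R_CM h hu f1 (z_g h p1).symm f3 (z_g h p3).symm
  have hH := hh_eq h hu hv hw hvw
  set a := g y u v with ha
  set c := g y u w with hc
  set d := g y u (v + w) with hd
  have hτu : ∀ e : V, C.S.B u e = 0 → C.S.ρ (C.S.τ e) u = u := fun e he => by
    rw [C.S.hτ, he, zero_smul, add_zero]
  have gw : ∀ (e a a' : V), C.S.B u e = 0 → Pr C u a → a + C.S.B a e • e = a' →
      C.b e * g y u a * (C.b e)⁻¹ = g y u a' := by
    intro e a a' he ha haa
    have := g_conj h ha (hτu e he)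
    rw [C.S.hτ, haa] at this
    exact this
  have a1 : C.b w * a * (C.b w)⁻¹ = d := gw w v _ hw p1 (by rw [hvw, one_smul])
  have a2 : C.b w * c * (C.b w)⁻¹ = c := gw w w _ hw p2 (by rw [C.S.alt, zero_smul, add_zero])
  have a3 : C.b w * d * (C.b w)⁻¹ = a := gw w _ _ hw p3 (by
      rw [map_add, LinearMap.add_apply, hvw, C.S.alt, add_zero, one_smul, aab])
  have b1 : C.b v * a * (C.b v)⁻¹ = a := gw v v _ hv p1 (by rw [C.S.alt, zero_smul, add_zero])
  have b2 : C.b v * c * (C.b v)⁻¹ = d := gw v w _ hv p2 (by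
      rw [C.S.symm w v, hvw, one_smul, add_comm])
  have cwu : Commute (C.b w) (C.b u) := C.b_comm (by rw [C.S.symm, hw])
  have cvu : Commute (C.b v) (C.b u) := C.b_comm (by rw [C.S.symm, hv])
  -- `[d, c] = [a, c]`, `[d, a] = [c, a]`
  have e1 : d * c * d⁻¹ * c⁻¹ = a * c * a⁻¹ * c⁻¹ := by
    have := Zm.conj cm12 cwu
    rw [← this]
    calc d * c * d⁻¹ * c⁻¹ = (C.b w * a * (C.b w)⁻¹) * (C.b w * c * (C.b w)⁻¹) * (C.b w * a * (C.b w)⁻¹)⁻¹ *
          (C.b w * c * (C.b w)⁻¹)⁻¹ := by rw [a1, a2]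
      _ = _ := by group
  have e2 : d * a * d⁻¹ * a⁻¹ = c * a * c⁻¹ * a⁻¹ := by
    have := Zm.conj cm12.symm cvu
    rw [← this]
    calc d * a * d⁻¹ * a⁻¹ = (C.b v * c * (C.b v)⁻¹) * (C.b v * a * (C.b v)⁻¹) * (C.b v * c * (C.b v)⁻¹)⁻¹ *
          (C.b v * a * (C.b v)⁻¹)⁻¹ := by rw [b1, b2]
      _ = _ := by group
  -- `d c a = a c d`
  have e3 : d * c * a = a * c * d := by
    have h1 : a * c * d = z C y u * ((z C y u)⁻¹ * (a * c * d)) := by group
    have h2 : Commute (C.b w) (a * c * d) := by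
      rw [h1]
      exact (z_comm_b h hu hw).symm.mul_right (Zm.comm hH cwu)
    have h3 : C.b w * (a * c * d) * (C.b w)⁻¹ = a * c * d := by
      rw [h2.eq, mul_inv_cancel_right]
    rw [← h3]
    calc d * c * a = (C.b w * a * (C.b w)⁻¹) * (C.b w * c * (C.b w)⁻¹) * (C.b w * d * (C.b w)⁻¹) := by
          rw [a1, a2, a3]
      _ = _ := by group
  have e4 : d * c * a * d⁻¹ * c⁻¹ * a⁻¹ = 1 := by
    rw [e3]; group
  have e5 : d * c * a * d⁻¹ * c⁻¹ * a⁻¹ =
      (d * c * d⁻¹ * c⁻¹) * (c * (d * a * d⁻¹ * a⁻¹) * c⁻¹) * (c * a * c⁻¹ * a⁻¹) := by group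
  rw [e5, e1, e2, Zm.conj cm12.symm (F_comm_b h hu f2)] at e4
  have e6 : c * a * c⁻¹ * a⁻¹ = 1 := by
    have : a * c * a⁻¹ * c⁻¹ * (c * a * c⁻¹ * a⁻¹) = 1 := by group
    rwa [this, one_mul] at e4
  have e7 : c * a = a * c := by
    calc c * a = (c * a * c⁻¹ * a⁻¹) * (a * c) := by group
      _ = _ := by rw [e6, one_mul]
  exact e7.symm

end hyp

/-- bracket of a conjugate by `y_w` -/
theorem q_y {w : V} (hw0 : w ≠ 0) (a : G) :
    q C (y w * a * y w) = y w * ((C.t * C.b w) * a * (C.t * C.b w) * a⁻¹) * y w := by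
  have hY := h.Y w hw0
  unfold q
  rw [mul_inv_rev, mul_inv_rev, hY.inv]
  calc C.t * (y w * a * y w) * C.t * (y w * (a⁻¹ * y w)) = (C.t * y w) * a * (y w * C.t * y w) * a⁻¹ * y w := by
        group
    _ = (y w * (C.t * C.b w)) * a * (C.t * C.b w) * a⁻¹ * y w := by rw [hY.t_mul, hY.2.1]
    _ = _ := by group

section hyp2

variable {u v w : V} (hu : u ≠ 0) (hv : C.S.B u v = 0) (hw : C.S.B u w = 0) (hvw : C.S.B v w = 1)

include hu hv hw hvw

theorem y_g_facts : y w * g y u w * y w = (g y u w)⁻¹ ∧ y w * m C u v * y w = g y u w * m C u v ∧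
    y w * m C u w * y w = m C u w := by
  obtain ⟨p1, p2, p3⟩ := prs hu hv hw hvw
  refine ⟨?_, ?_, ?_⟩
  · rw [g_inv' h p2, g_add]
    unfold g
    rw [← mul_assoc, (h.Y w p2.2.1).1, one_mul]
  · have h1 := ρ_m (D := C.S) (v := w) hv hw
    rw [C.S.symm w v, hvw, one_smul] at h1
    rcases y_Q h p2 (ττ_mem_Qu hv) with ⟨h2, -⟩ | ⟨-, h3⟩
    · exfalso
      rw [h1] at h2
      exact hu (by
        have := add_left_cancel (h2.trans (add_zero w).symm)
        exact this)
    · exact h3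
  · have h1 := ρ_m (D := C.S) (v := w) hw hw
    rw [C.S.alt, zero_smul, add_zero] at h1
    rcases y_Q h p2 (ττ_mem_Qu hw) with ⟨-, h3⟩ | ⟨h2, -⟩
    · exact h3
    · exfalso
      rw [h1] at h2
      exact hu (by
        have := add_left_cancel ((add_zero w).trans h2)
        exact this.symm)

/-- the element `y_w g_v y_w` of the second coset -/
theorem gh_facts : y w * g y u v * y w ∈ F h hu ∧ (y w * g y u v * y w) * (y w * g y u v * y w) = C.b u ∧
    ∃ c, Zm C u c ∧ (z C y u)⁻¹ * q C (y w * g y u v * y w) = c * m C u v := by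
  obtain ⟨p1, p2, p3⟩ := prs hu hv hw hvw
  obtain ⟨k1, k2, k3⟩ := y_g_facts h hu hv hw hvw
  have hY := h.Y w p2.2.1
  have f1 := g_mem_F h hu p1
  have f2 := g_mem_F h hu p2
  have f3 := g_mem_F h hu p3
  have zg1 := z_g h p1
  have zg2 := z_g h p2
  have gg := g_g h hu hv hw hvw
  have hH := hh_eq h hu hv hw hvw
  have ybu : Commute (y w) (C.b u) := y_comm_b h p2.2.1 p2.symm.2.2.2
  have yz := y_z h p2
  have bm : ∀ {k : G}, k ∈ C.Q u → Commute (C.b u) k := fun hk => C.Q_comm hu (C.b_mem_Q u) hk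
  have yby : y w * C.b u * y w = C.b u := by rw [ybu.eq, mul_assoc, hY.1, mul_one]
  have hs : C.S.B u (v + w) = 0 := p3.2.2.2
  have hvw' : C.S.B v (v + w) = 1 := by rw [map_add, C.S.alt, hvw, zero_add]
  -- the bracket
  obtain ⟨c, hc, hq⟩ : ∃ c, Zm C u c ∧ (z C y u)⁻¹ * q C (y w * g y u v * y w) = c * m C u v := by
    set κ := (z C y u)⁻¹ * (g y u v * g y u w * g y u (v + w)) with hκ
    refine ⟨κ * C.b u, Zm.mul hH (Zm.b u), ?_⟩
    have hd : g y u (v + w) = (g y u w)⁻¹ * (g y u v)⁻¹ * (z C y u * κ) := by rw [hκ]; group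
    have a1 : C.t * C.b w * g y u v * (C.t * C.b w) = g y u (v + w) * m C u (v + w) := by
      have h1 := g_conj h p1 (x := C.S.τ w) (by rw [C.S.hτ, hw, zero_smul, add_zero])
      rw [C.S.hτ, hvw, one_smul] at h1
      change C.b w * g y u v * (C.b w)⁻¹ = _ at h1
      rw [b_inv] at h1
      calc C.t * C.b w * g y u v * (C.t * C.b w) = C.t * C.b w * g y u v * (C.b w * C.t) := by
            rw [(C.commute_t (C.b_mem w)).eq]
        _ = C.t * (C.b w * g y u v * C.b w) * C.t := by group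
        _ = _ := by rw [h1, t_g_t h p3]
    rw [q_y h p2.2.1, a1]
    have e2 := g_m_hyp h hu hv hs hvw'
    have cκ : ∀ {x : G}, Commute x (C.b u) → Commute x κ := fun hx => Zm.comm hH hx
    have cbg := F_comm_b h hu f1
    have e3 : m C u (v + w) * (g y u v)⁻¹ = (g y u v)⁻¹ * m C u (v + w) * C.b u := by
      calc m C u (v + w) * (g y u v)⁻¹ = (g y u v)⁻¹ * (g y u v * m C u (v + w) * (g y u v)⁻¹) := by group
        _ = _ := by rw [e2]; group
    -- r = g_w⁻¹ z κ m_{v+w}
    have e4 : g y u (v + w) * m C u (v + w) * (g y u v)⁻¹ = (g y u w)⁻¹ * z C y u * κ * (m C u v * m C u w) := by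
      rw [m_mul hv hw hvw, mul_assoc, e3, hd]
      have s1 : (g y u v)⁻¹ * (g y u v)⁻¹ = C.b u := by
        rw [← mul_inv_rev, g_sq h p1, b_inv]
      have s2 : Commute (z C y u * κ) (g y u v)⁻¹ :=
        (zg1.mul_left (cκ cbg).symm).inv_right
      have s3 : Commute (C.b u) (z C y u * κ * m C u (v + w)) :=
        ((z_comm_b h hu (C.S.alt u)).symm.mul_right (cκ (Commute.refl _))).mul_right (bm (m_mem_Q hs))
      calc (g y u w)⁻¹ * (g y u v)⁻¹ * (z C y u * κ) * ((g y u v)⁻¹ * m C u (v + w) * C.b u)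
          = (g y u w)⁻¹ * (g y u v)⁻¹ * ((z C y u * κ) * (g y u v)⁻¹) * m C u (v + w) * C.b u := by group
        _ = (g y u w)⁻¹ * (g y u v)⁻¹ * ((g y u v)⁻¹ * (z C y u * κ)) * m C u (v + w) * C.b u := by rw [s2.eq]
        _ = (g y u w)⁻¹ * ((g y u v)⁻¹ * (g y u v)⁻¹) * (z C y u * κ * m C u (v + w)) * C.b u := by group
        _ = (g y u w)⁻¹ * (C.b u * (z C y u * κ * m C u (v + w))) * C.b u := by rw [s1]; group
        _ = (g y u w)⁻¹ * (z C y u * κ * m C u (v + w)) * (C.b u * C.b u) := by rw [s3.eq]; group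
        _ = _ := by rw [C.b_sq]; group
    rw [e4]
    have cκy : Commute (y w) κ := cκ ybu
    have yκy : y w * κ * y w = κ := by rw [cκy.eq, mul_assoc, hY.1, mul_one]
    have ygi : y w * (g y u w)⁻¹ * y w = g y u w := by
      have := congrArg (·⁻¹) k1
      simp only [mul_inv_rev, inv_inv, hY.inv] at this
      rw [mul_assoc]; exact this
    have e5 : y w * ((g y u w)⁻¹ * z C y u * κ * (m C u v * m C u w)) * y w =
        g y u w * (z C y u * m C u w) * κ * (g y u w * m C u v * m C u w) := by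
      calc y w * ((g y u w)⁻¹ * z C y u * κ * (m C u v * m C u w)) * y w
          = y w * (g y u w)⁻¹ * (1 : G) * z C y u * (1 : G) * κ * (1 : G) * m C u v * (1 : G) * m C u w * y w := by
            group
        _ = y w * (g y u w)⁻¹ * (y w * y w) * z C y u * (y w * y w) * κ * (y w * y w) * m C u v * (y w * y w) *
            m C u w * y w := by rw [hY.1]
        _ = (y w * (g y u w)⁻¹ * y w) * (y w * z C y u * y w) * (y w * κ * y w) * ((y w * m C u v * y w) *
            (y w * m C u w * y w)) := by group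
        _ = _ := by rw [ygi, yz, yκy, k2, k3]
    rw [e5]
    have cgm := g_comm_m h p2
    have cmm : Commute (m C u w) (m C u v) := C.Q_comm hu (m_mem_Q hw) (m_mem_Q hv)
    have cκg : Commute κ (g y u w) := (cκ (F_comm_b h hu f2)).symm
    have cκm : Commute κ (m C u w) := (cκ (bm (m_mem_Q hw)).symm).symm
    have cκz : Commute κ (z C y u) := (cκ (z_comm_b h hu (C.S.alt u))).symm
    calc (z C y u)⁻¹ * (g y u w * (z C y u * m C u w) * κ * (g y u w * m C u v * m C u w))
        = (z C y u)⁻¹ * ((g y u w * z C y u) * m C u w * κ * (g y u w * m C u v * m C u w)) := by group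
      _ = (z C y u)⁻¹ * ((z C y u * g y u w) * m C u w * κ * (g y u w * m C u v * m C u w)) := by rw [zg2.eq]
      _ = g y u w * (m C u w * κ) * (g y u w * m C u v * m C u w) := by group
      _ = g y u w * (κ * m C u w) * (g y u w * m C u v * m C u w) := by rw [cκm.eq]
      _ = (g y u w * κ) * (m C u w * g y u w) * m C u v * m C u w := by group
      _ = (κ * g y u w) * (g y u w * m C u w) * m C u v * m C u w := by rw [cκg.eq, cgm.eq]
      _ = κ * (g y u w * g y u w) * (m C u w * m C u v) * m C u w := by group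
      _ = κ * C.b u * (m C u v * m C u w) * m C u w := by rw [g_sq h p2, cmm.eq]
      _ = κ * C.b u * m C u v * (m C u w * m C u w) := by group
      _ = _ := by rw [m_sq hu hw, mul_one]
  refine ⟨⟨?_, Or.inr ⟨?_, ?_⟩⟩, ?_, ⟨c, hc, hq⟩⟩
  · -- `QC`
    rintro _ ⟨x, hx, rfl⟩
    change CM C u _ (x : G)
    have hxQ : (x : G) ∈ C.Q u := ⟨x, hx, rfl⟩
    have h1 : CM C u (g y u v) (y w * (x : G) * y w) := by
      rcases y_Q h p2 hx with ⟨-, h2⟩ | ⟨-, h2⟩
      · rw [h2]; exact f1.1 _ hxQ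
      · rw [h2]
        exact (CM.of_commute gg).mul_right (F_comm_b h hu f2) (f1.1 _ hxQ)
    have h3 := h1.conj ybu
    rw [hY.inv] at h3
    have e : y w * (y w * (x : G) * y w) * y w = x := by
      calc y w * (y w * (x : G) * y w) * y w = (y w * y w) * (x : G) * (y w * y w) := by group
        _ = _ := by rw [hY.1, one_mul, mul_one]
    rwa [e] at h3
  · -- `z`
    have e1 := g_m_hyp h hu hv hw hvw
    calc y w * g y u v * y w * z C y u * (y w * g y u v * y w)⁻¹
        = y w * (g y u v * (y w * z C y u * (y w)⁻¹) * (g y u v)⁻¹) * (y w)⁻¹ := by group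
      _ = y w * (g y u v * (z C y u * m C u w) * (g y u v)⁻¹) * y w := by rw [hY.inv, yz]
      _ = y w * ((g y u v * z C y u) * m C u w * (g y u v)⁻¹) * y w := by group
      _ = y w * (z C y u * (g y u v * m C u w * (g y u v)⁻¹)) * y w := by rw [← zg1.eq]; group
      _ = y w * z C y u * (1 : G) * m C u w * (1 : G) * C.b u * y w := by rw [e1]; group
      _ = y w * z C y u * (y w * y w) * m C u w * (y w * y w) * C.b u * y w := by rw [hY.1]
      _ = (y w * z C y u * y w) * (y w * m C u w * y w) * (y w * C.b u * y w) := by group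
      _ = z C y u * (m C u w * m C u w) * C.b u := by rw [yz, k3, yby]; group
      _ = _ := by rw [m_sq hu hw, mul_one]
  · rw [hq]
    exact mul_mem hc.mem_Q (m_mem_Q hv)
  · calc y w * g y u v * y w * (y w * g y u v * y w) = y w * g y u v * (y w * y w) * g y u v * y w := by group
      _ = y w * (g y u v * g y u v) * y w := by rw [hY.1]; group
      _ = _ := by rw [g_sq h p1, yby]

end hyp2

section sq

variable {u : V} (hu : u ≠ 0)

include hu

/-- squares in the second coset, generic case -/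
theorem sq_good {a c : G} {v : V} (ha : a ∈ F h hu) (hc : Zm C u c) (hv : Pr C u v)
    (hq : (z C y u)⁻¹ * q C a = c * m C u v) : Zm C u (a * a) := by
  obtain ⟨w, hw1, hw2⟩ := C.S.exists_sep hv.2.1 hv.2.2.1.symm
  obtain ⟨f1, f2, c', hc', f3⟩ := gh_facts h hu hv.2.2.2 (by rw [C.S.symm, hw2] : C.S.B u w = 0)
    (by rw [C.S.symm, hw1])
  refine F_sq_of h hu ha f1 ?_ (by rw [f2]; exact Zm.b u)
  have e : (q C (y w * g y u v * y w))⁻¹ * q C a =
      ((z C y u)⁻¹ * q C (y w * g y u v * y w))⁻¹ * ((z C y u)⁻¹ * q C a) := by group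
  rw [e, f3, hq]
  have h1 : Commute (m C u v) (C.b u) := C.Q_comm hu (m_mem_Q hv.2.2.2) (C.b_mem_Q u)
  have e2 : (c' * m C u v)⁻¹ * (c * m C u v) = (m C u v)⁻¹ * (c'⁻¹ * c) * (m C u v)⁻¹⁻¹ := by group
  rw [e2, Zm.conj (hc'.inv.mul hc) h1.inv_left]
  exact hc'.inv.mul hc

/-- bracket of a product, in the second coset -/
theorem q_second {a c : G} {v : V} {k : G} (ha : a ∈ F h hu) (hk : (z C y u)⁻¹ * q C a = k) (hv : Pr C u v)
    (hc : c = a * m C u v * a⁻¹ * (m C u v)⁻¹) :
    Zm C u c ∧ (z C y u)⁻¹ * q C (a * g y u v) = k * c * m C u v := by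
  have h1 : Zm C u c := by rw [hc]; exact ha.1 _ (m_mem_Q hv.2.2.2)
  refine ⟨h1, ?_⟩
  have hg : q C (g y u v) = m C u v := g_bracket h hv
  rw [q_mul, hg, ← mul_assoc, hk, hc]
  group

theorem F_sq (hyp : ∃ v w, C.S.B u v = 0 ∧ C.S.B u w = 0 ∧ C.S.B v w = 1) {a : G} (ha : a ∈ F h hu) :
    Zm C u (a * a) := by
  rcases ha.2 with ⟨a2, -⟩ | ⟨-, a3⟩
  · exact R_sq h hu ha a2
  rcases Q_cases' hu a3 with h1 | ⟨v, hv, c, hc, h1⟩
  swap
  · exact sq_good h hu ha hc hv h1
  -- the bracket is in `z ⟨b_u⟩`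
  obtain ⟨v, w, hv, hw, hvw⟩ := hyp
  obtain ⟨p1, p2, p3⟩ := prs hu hv hw hvw
  have f1 := g_mem_F h hu p1
  have f2 := g_mem_F h hu p2
  have f3 := g_mem_F h hu p3
  have hH := hh_eq h hu hv hw hvw
  have cF := fun {x : G} (hx : x ∈ F h hu) => F_comm_b h hu hx
  set k := (z C y u)⁻¹ * q C a with hk
  obtain ⟨c1, e1⟩ := q_second h hu ha hk.symm p1 rfl
  set d1 := a * m C u v * a⁻¹ * (m C u v)⁻¹
  set a1 := a * g y u v with ha1
  have ha1F : a1 ∈ F h hu := mul_mem ha f1
  have s1 : Zm C u (a1 * a1) := sq_good h hu ha1F (h1.mul c1) p1 (by rw [e1])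
  obtain ⟨c2, e2⟩ := q_second h hu ha1F e1 p2 rfl
  set d2 := a1 * m C u w * a1⁻¹ * (m C u w)⁻¹
  have bm : ∀ {k : G}, k ∈ C.Q u → Commute (C.b u) k := fun hk => C.Q_comm hu (C.b_mem_Q u) hk
  have s2 : Zm C u (a1 * g y u w * (a1 * g y u w)) := by
    refine sq_good h hu (mul_mem ha1F f2) ((h1.mul c1).mul c2) p3 ?_
    rw [e2, ← m_mul hv hw hvw]
    have := (Zm.comm c2 (bm (m_mem_Q hv)).symm).eq
    calc k * d1 * m C u v * d2 * m C u w = k * d1 * (m C u v * d2) * m C u w := by group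
      _ = _ := by rw [this]; group
  obtain ⟨c3, e3⟩ := q_second h hu ha1F e1 p3 rfl
  set d3 := a1 * m C u (v + w) * a1⁻¹ * (m C u (v + w))⁻¹
  have s3 : Zm C u (a1 * g y u (v + w) * (a1 * g y u (v + w))) := by
    refine sq_good h hu (mul_mem ha1F f3) ((h1.mul c1).mul c3) p2 ?_
    rw [e3, ← m_mul hv hw hvw]
    have := (Zm.comm c3 (bm (m_mem_Q hv)).symm).eq
    calc k * d1 * m C u v * d3 * (m C u v * m C u w) = k * d1 * (m C u v * d3) * (m C u v * m C u w) := by group
      _ = k * d1 * d3 * (m C u v * m C u v) * m C u w := by rw [this]; group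
      _ = _ := by rw [m_sq hu hv, mul_one]
  have g2 : Zm C u (g y u w * g y u w) := by rw [g_sq h p2]; exact Zm.b u
  have g3 : Zm C u (g y u (v + w) * g y u (v + w)) := by rw [g_sq h p3]; exact Zm.b u
  have m2 : CM C u a1 (g y u w) := comm_of_sq (cF f2) s1 g2 s2
  have m3 : CM C u a1 (g y u (v + w)) := comm_of_sq (cF f3) s1 g3 s3
  -- `g_v`
  have m1 : CM C u a1 (g y u v) := by
    have e : g y u v = (z C y u * ((z C y u)⁻¹ * (g y u v * g y u w * g y u (v + w)))) *
        (g y u (v + w))⁻¹ * (g y u w)⁻¹ := by group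
    have hD : z C y u * ((z C y u)⁻¹ * (g y u v * g y u w * g y u (v + w))) ∈ C.Q u ∨
        (z C y u)⁻¹ * (z C y u * ((z C y u)⁻¹ * (g y u v * g y u w * g y u (v + w)))) ∈ C.Q u := by
      right
      rw [inv_mul_cancel_left]
      exact hH.mem_Q
    have n1 := F_CM_D h hu ha1F hD
    rw [e]
    exact (n1.mul_right (D_comm_b h hu hD) (m3.inv_right (cF f3))).mul_right
      ((D_comm_b h hu hD).mul_left (cF f3).inv_left) (m2.inv_right (cF f2))
  have g1 : Zm C u ((g y u v)⁻¹ * (g y u v)⁻¹) := by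
    rw [← mul_inv_rev, g_sq h p1]; exact (Zm.b u).inv
  have e : a = a1 * (g y u v)⁻¹ := by rw [ha1]; group
  rw [e]
  exact sq_of_comm (cF ha1F) (cF f1).inv_left s1 g1 (m1.inv_right (cF f1))

theorem F_CM (hyp : ∃ v w, C.S.B u v = 0 ∧ C.S.B u w = 0 ∧ C.S.B v w = 1) {a c : G} (ha : a ∈ F h hu)
    (hc : c ∈ F h hu) : CM C u a c :=
  comm_of_sq (F_comm_b h hu hc) (F_sq h hu hyp ha) (F_sq h hu hyp hc)
    (F_sq h hu hyp (mul_mem ha hc))

/-- (B): `y_v` normalises `F_u` for `v ⊥ u` -/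
theorem norm_F (hyp : ∃ v w, C.S.B u v = 0 ∧ C.S.B u w = 0 ∧ C.S.B v w = 1) {v : V} (hv : Pr C u v) {a : G}
    (ha : a ∈ F h hu) : y v * a * y v ∈ F h hu := by
  have hY := h.Y v hv.2.1
  have ybu : Commute (y v) (C.b u) := y_comm_b h hv.2.1 hv.symm.2.2.2
  have hYY : ∀ x : G, y v * (y v * x * y v) * y v = x := by
    intro x
    calc y v * (y v * x * y v) * y v = (y v * y v) * x * (y v * y v) := by group
      _ = _ := by rw [hY.1, one_mul, mul_one]
  have ymul : ∀ x x' : G, y v * (x * x') * y v = (y v * x * y v) * (y v * x' * y v) := by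
    intro x x'
    calc y v * (x * x') * y v = y v * x * (1 : G) * x' * y v := by group
      _ = y v * x * (y v * y v) * x' * y v := by rw [hY.1]
      _ = _ := by group
  have hQF : ∀ k ∈ C.Q u, y v * k * y v ∈ F h hu := by
    rintro _ ⟨x, hx, rfl⟩
    have hxQ : (x : G) ∈ C.Q u := ⟨x, hx, rfl⟩
    change y v * (x : G) * y v ∈ _
    rcases y_Q h hv hx with ⟨-, h2⟩ | ⟨-, h2⟩
    · rw [h2]; exact Q_le_F h hu hxQ
    · rw [h2]; exact mul_mem (g_mem_F h hu hv) (Q_le_F h hu hxQ)
  have hQC : ∀ x ∈ F h hu, QC C u (y v * x * y v) := by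
    intro x hx k hk
    have h1 := (F_CM h hu hyp hx (hQF k hk)).conj ybu
    rw [hY.inv, hYY] at h1
    exact h1
  set s := C.t * C.b v with hs
  have hss : s * s = 1 := by
    rw [hs]
    calc C.t * C.b v * (C.t * C.b v) = C.t * (C.b v * C.t) * C.b v := by group
      _ = C.t * (C.t * C.b v) * C.b v := by rw [(C.commute_t (C.b_mem v)).eq]
      _ = (C.t * C.t) * (C.b v * C.b v) := by group
      _ = 1 := by rw [C.tt, C.b_sq, one_mul]
  have hsas : s * a * s ∈ F h hu := by
    have h1 := conj_F h hu (x := C.S.τ v) (by rw [C.S.hτ, hv.2.2.2, zero_smul, add_zero]) ha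
    change C.b v * a * (C.b v)⁻¹ ∈ _ at h1
    rw [b_inv] at h1
    have h2 := t_F h hu h1
    have h3 : s * a * s = C.t * (C.b v * a * C.b v) * C.t := by
      rw [hs]
      calc C.t * C.b v * a * (C.t * C.b v) = C.t * C.b v * a * (C.b v * C.t) := by
            rw [(C.commute_t (C.b_mem v)).eq]
        _ = _ := by group
    rw [h3]; exact h2
  set c := s * a * s * a⁻¹ with hc
  have hcF : c ∈ F h hu := mul_mem hsas (inv_mem ha)
  have hqa : q C (y v * a * y v) = y v * c * y v := q_y h hv.2.1 a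
  clear_value s c
  have hscs : s * c * s = c⁻¹ := by
    have hsi : s⁻¹ = s := inv_eq_of_mul_eq_one_right hss
    rw [hc]
    calc s * (s * a * s * a⁻¹) * s = (s * s) * a * s * a⁻¹ * s := by group
      _ = a * s⁻¹ * a⁻¹ * s⁻¹ := by rw [hss, hsi]; group
      _ = _ := by group
  have hysy : y v * s * y v = C.t := by
    have h2 : s = y v * C.t * y v := by rw [hs]; exact hY.2.1.symm
    rw [h2, hYY]
  have htc : C.t * (y v * c * y v) * C.t = (y v * c * y v)⁻¹ := by
    rw [← hysy, ← ymul, ← ymul, hscs]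
    rw [mul_inv_rev, mul_inv_rev, hY.inv, mul_assoc]
  have hcc := F_sq h hu hyp hcF
  have hcc' : y v * c * y v * (y v * c * y v) = c * c := by
    rw [← ymul]
    have h1 := Zm.conj hcc ybu
    rwa [hY.inv] at h1
  have hC' := hQC c hcF
  have hCb := hC'.comm hu
  -- `s ∉ F_u`
  have hsF : s ∉ F h hu := by
    intro h1
    have h2 : Commute s C.t := by
      rw [hs]; exact (Commute.refl C.t).mul_left (C.commute_t (C.b_mem v))
    have h3 := C.Q_le u (mem_Q_of_F h hu h1 h2)
    rw [hs] at h3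
    exact C.tL (by
      have := mul_mem h3 (inv_mem (C.b_mem v))
      rwa [mul_inv_cancel_right] at this)
  have memQ : ∀ x : G, Commute x C.t → QC C u x → x ∈ C.Q u ∨ C.t * x ∈ C.Q u := by
    intro x hx1 hx2
    rcases (C.cent x).1 hx1 with h1 | h1
    · exact Or.inl (hx2.mem_Q hu h1)
    · right
      have h3 : QC C u C.t := fun k hk => CM.of_commute (C.commute_t (C.Q_le u hk)).symm
      exact (h3.mul hu hx2).mem_Q hu h1
  -- the bracket is in `⟨z⟩ Q`
  have hD : y v * c * y v ∈ C.Q u ∨ (z C y u)⁻¹ * (y v * c * y v) ∈ C.Q u := by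
    rcases hcc with h1 | h1
    · left
      have h2 : Commute (y v * c * y v) C.t := by
        rw [h1] at hcc'
        rw [inv_eq_of_mul_eq_one_right hcc'] at htc
        change (y v * c * y v) * C.t = C.t * (y v * c * y v)
        calc (y v * c * y v) * C.t = (C.t * (y v * c * y v) * C.t) * C.t := by rw [htc]
          _ = C.t * (y v * c * y v) * (C.t * C.t) := by group
          _ = _ := by rw [C.tt, mul_one]
      rcases memQ _ h2 hC' with h3 | h3
      · exact h3
      · exfalso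
        apply hsF
        have h4 := hQF _ h3
        rw [ymul, hYY, hY.2.1, ← hs] at h4
        have := mul_mem h4 (inv_mem hcF)
        rwa [mul_inv_cancel_right] at this
    · right
      have hzb := z_comm_b h hu (C.S.alt u)
      have e1 : (y v * c * y v)⁻¹ = y v * c * y v * C.b u := by
        rw [inv_eq_iff_mul_eq_one, ← mul_assoc, hcc', h1, C.b_sq]
      have h2 : C.t * (y v * c * y v * z C y u) * C.t = y v * c * y v * z C y u := by
        calc C.t * (y v * c * y v * z C y u) * C.t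
            = C.t * (y v * c * y v) * (1 : G) * z C y u * C.t := by group
          _ = C.t * (y v * c * y v) * (C.t * C.t) * z C y u * C.t := by rw [C.tt]
          _ = (C.t * (y v * c * y v) * C.t) * (C.t * z C y u * C.t) := by group
          _ = (y v * c * y v * C.b u) * (z C y u * C.b u) := by rw [htc, e1, t_z_t h hu]
          _ = (y v * c * y v) * (C.b u * z C y u) * C.b u := by group
          _ = (y v * c * y v) * z C y u * (C.b u * C.b u) := by rw [← hzb.eq]; group
          _ = _ := by rw [C.b_sq, mul_one]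
      have h3 : Commute (y v * c * y v * z C y u) C.t := by
        change (y v * c * y v * z C y u) * C.t = C.t * (y v * c * y v * z C y u)
        calc (y v * c * y v * z C y u) * C.t = (C.t * (y v * c * y v * z C y u) * C.t) * C.t := by rw [h2]
          _ = C.t * (y v * c * y v * z C y u) * (C.t * C.t) := by group
          _ = _ := by rw [C.tt, mul_one]
      have hzF := z_mem_F h hu
      rcases memQ _ h3 (hC'.mul hu hzF.1) with h4 | h4
      · have h5 := z_Q h hu h4
        have e2 : (z C y u)⁻¹ * (y v * c * y v) = (z C y u)⁻¹ * ((y v * c * y v * z C y u) * (z C y u)⁻¹) := by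
          group
        rw [e2, ← (h5.inv_left).eq, ← mul_assoc, ← mul_inv_rev, z_sq h hu]
        exact mul_mem (inv_mem (C.b_mem_Q u)) h4
      · exfalso
        apply hsF
        have h5 := hQF _ h4
        have e2 : y v * (C.t * (y v * c * y v * z C y u)) * y v = s * c * (y v * z C y u * y v) := by
          rw [ymul, ymul, hYY, hY.2.1, ← hs]; group
        rw [e2, y_z h hv] at h5
        have h6 : z C y u * m C u v ∈ F h hu := mul_mem hzF (Q_le_F h hu (m_mem_Q hv.2.2.2))
        have := mul_mem (mul_mem h5 (inv_mem h6)) (inv_mem hcF)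
        rwa [mul_inv_cancel_right, mul_inv_cancel_right] at this
  -- action on `z`
  have hzz : Zm C u ((z C y u)⁻¹ * (y v * a * y v * z C y u * (y v * a * y v)⁻¹)) := by
    have hzm : z C y u * m C u v ∈ C.Q u ∨ (z C y u)⁻¹ * (z C y u * m C u v) ∈ C.Q u := by
      right; rw [inv_mul_cancel_left]; exact m_mem_Q hv.2.2.2
    have h1 := F_CM_D h hu ha hzm
    have h2 : y v * a * y v * z C y u * (y v * a * y v)⁻¹ =
        y v * ((a * (z C y u * m C u v) * a⁻¹ * (z C y u * m C u v)⁻¹) * (z C y u * m C u v)) * y v := by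
      rw [← y_z h hv, mul_inv_rev, mul_inv_rev, hY.inv]
      group
    rw [h2, ymul, ← y_z h hv, hYY]
    have h3 := Zm.conj h1 ybu
    rw [hY.inv] at h3
    rw [y_z h hv, h3]
    have hzb := (Zm.comm h1 (z_comm_b h hu (C.S.alt u))).eq
    rw [← hzb, inv_mul_cancel_left]
    exact h1
  have hq' := hqa
  -- parity
  set a' := y v * a * y v with ha'
  have hQCa' := hQC a ha
  have key : a' ∈ F h hu ∨ C.t * a' ∈ F h hu := by
    have hz1 : a' * z C y u * a'⁻¹ = z C y u ∨ a' * z C y u * a'⁻¹ = z C y u * C.b u := by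
      rcases hzz with h1 | h1
      · left; exact (inv_mul_eq_one.1 h1).symm
      · right; rw [← h1]; group
    have hcomm : ∀ x : G, x * z C y u * x⁻¹ = z C y u → Commute x (z C y u) := by
      intro x hx
      change x * z C y u = z C y u * x
      calc x * z C y u = (x * z C y u * x⁻¹) * x := by group
        _ = _ := by rw [hx]
    have hQt : QC C u (C.t * a') := by
      have h3 : QC C u C.t := fun k hk => CM.of_commute (C.commute_t (C.Q_le u hk)).symm
      exact h3.mul hu hQCa'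
    have hqt : q C (C.t * a') = C.t * q C a' * C.t := by
      rw [q_mul, q_eq_one.2 (Commute.refl _), one_mul, C.t_inv]
    have hzt : ∀ x, C.t * a' * x * (C.t * a')⁻¹ = C.t * (a' * x * a'⁻¹) * C.t := by
      intro x
      rw [mul_inv_rev, C.t_inv]; group
    have hzb := z_comm_b h hu (C.S.alt u)
    have htz := t_z_t h hu
    have htzb : C.t * (z C y u * C.b u) * C.t = z C y u := by
      rw [← htz]
      calc C.t * (C.t * z C y u * C.t) * C.t = (C.t * C.t) * z C y u * (C.t * C.t) := by group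
        _ = _ := by rw [C.tt, one_mul, mul_one]
    rw [← hqa] at hD
    rcases hz1 with h1 | h1 <;> rcases hD with h2 | h2
    · exact Or.inl ⟨hQCa', Or.inl ⟨hcomm _ h1, h2⟩⟩
    · right
      refine ⟨hQt, Or.inr ⟨?_, ?_⟩⟩
      · rw [hzt, h1, htz]
      · rw [hqt]
        have e3 : C.t * q C a' * C.t = (C.t * z C y u * C.t) * (C.t * ((z C y u)⁻¹ * q C a') * C.t) := by
          calc C.t * q C a' * C.t = C.t * z C y u * (1 : G) * ((z C y u)⁻¹ * q C a') * C.t := by group
            _ = C.t * z C y u * (C.t * C.t) * ((z C y u)⁻¹ * q C a') * C.t := by rw [C.tt]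
            _ = _ := by group
        have e4 : C.t * ((z C y u)⁻¹ * q C a') * C.t = (z C y u)⁻¹ * q C a' := by
          rw [mul_assoc, (C.commute_t (C.Q_le u h2)).eq, ← mul_assoc, C.tt, one_mul]
        rw [e3, e4, htz]
        have e5 : (z C y u)⁻¹ * (z C y u * C.b u * ((z C y u)⁻¹ * q C a')) = C.b u * ((z C y u)⁻¹ * q C a') := by
          group
        rw [e5]
        exact mul_mem (C.b_mem_Q u) h2
    · right
      refine ⟨hQt, Or.inl ⟨hcomm _ ?_, ?_⟩⟩
      · rw [hzt, h1, htzb]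
      · rw [hqt, mul_assoc, (C.commute_t (C.Q_le u h2)).eq, ← mul_assoc, C.tt, one_mul]
        exact h2
    · exact Or.inl ⟨hQCa', Or.inr ⟨h1, h2⟩⟩
  rcases key with h1 | h1
  · exact h1
  · exfalso
    -- an element of `Q_u` moving `v`
    obtain ⟨x, hx, hxv⟩ := exists_swap (D := C.S) hv.2.1 hv.2.2.1.symm hv.2.2.2
    have hxQ : (x : G) ∈ C.Q u := ⟨x, hx, rfl⟩
    have h2 : y v * (x : G) * y v = g y u v * x := by
      rcases y_Q h hv hx with ⟨h3, -⟩ | ⟨-, h3⟩
      · exfalso
        rw [hxv] at h3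
        exact hu (by
          have := add_left_cancel (h3.trans (add_zero v).symm)
          exact this)
      · exact h3
    have hgx : g y u v * (x : G) ∈ F h hu := mul_mem (g_mem_F h hu hv) (Q_le_F h hu hxQ)
    have m1 := F_CM h hu hyp h1 hgx
    have m2 := (ha.1 _ hxQ).conj ybu
    rw [hY.inv, h2, ← ha'] at m2
    have m3 := m1.mul_left (F_comm_b h hu h1) (m2.inv_left (hQCa'.comm hu))
    rw [mul_inv_cancel_right] at m3
    apply m_not_Zm hv
    have e1 : C.t * (g y u v * (x : G)) * C.t⁻¹ * (g y u v * (x : G))⁻¹ = m C u v := by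
      have hg : q C (g y u v) = m C u v := g_bracket h hv
      have h5 : q C (g y u v * (x : G)) = m C u v := by
        rw [q_mul, hg, q_eq_one.2 (C.commute_t x.2), mul_one, mul_inv_cancel, mul_one]
      rw [C.t_inv]
      exact h5
    unfold CM at m3
    rwa [e1] at m3

end sq

end Loc

end Cfsg.Agent.OddHalf.SpTwo.EndCO
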