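import Cfsg.Agent.OddHalf.SpTwo.Start

/-!
# The start, second part

`start_long`, `start_short`: an element `n` with `n t n⁻¹ = t z` and `n z n⁻¹ = z`.
-/

set_option autoImplicit false
set_option linter.unusedSimpArgs false

open scoped commutatorElement

namespace Cfsg.Agent.OddHalf.SpTwo

open Cfsg.Agent.StandardComponent.SpTwo
open Cfsg.Agent.OddHalf.SpTwoN

variable {G V : Type*} [Group G] [AddCommGroup V] [Module (ZMod 2) V] (C : Ctx G V)

theorem mem_TX_cent {z : C.L} {x : G} :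
    x ∈ TX C (Subgroup.centralizer {z}) ↔ x * C.t = C.t * x ∧ x * z = z * x := by
  constructor
  · intro h
    refine ⟨TX_comm_t C h, ?_⟩
    obtain ⟨y, hy, hxy⟩ := h
    rw [Subgroup.mem_centralizer_singleton_iff] at hy
    have hy' : (y : G) * z = z * y := congrArg Subtype.val hy
    rcases hxy with rfl | rfl
    · exact hy'
    · rw [mul_assoc, hy', ← mul_assoc, ← t_comm, mul_assoc]
  · rintro ⟨h1, h2⟩
    obtain ⟨y, hy⟩ := exists_lift C h1
    refine ⟨y, ?_, hy⟩
    rw [Subgroup.mem_centralizer_singleton_iff]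
    apply Subtype.ext
    change (y : G) * z = z * y
    rcases hy with rfl | rfl
    · exact h2
    · have h3 : C.t * ((y : G) * z) = C.t * (z * y) := by
        rw [← mul_assoc, h2, ← mul_assoc, t_comm, mul_assoc]
      exact mul_left_cancel h3

theorem card_cent_eq [Finite G] {z z' : C.L} {n : G} (hzz : z' * z' = 1) (hz : n * z * n⁻¹ = (z' : G))
    (ht : n * C.t * n⁻¹ = C.t * z') :
    Nat.card (Subgroup.centralizer {z}) = Nat.card (Subgroup.centralizer {z'}) := by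
  have hzz' : (z' : G) * z' = 1 := congrArg Subtype.val hzz
  have h1 : (TX C (Subgroup.centralizer {z})).map (MulAut.conj n).toMonoidHom =
      TX C (Subgroup.centralizer {z'}) := by
    ext x
    rw [mem_TX_cent]
    constructor
    · rintro ⟨y, hy, rfl⟩
      obtain ⟨h1, h2⟩ := (mem_TX_cent C).1 hy
      change n * y * n⁻¹ * C.t = C.t * (n * y * n⁻¹) ∧ n * y * n⁻¹ * z' = z' * (n * y * n⁻¹)
      have h3 : n * y * n⁻¹ * z' = z' * (n * y * n⁻¹) := by
        rw [← hz]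
        calc n * y * n⁻¹ * (n * z * n⁻¹) = n * (y * z) * n⁻¹ := by group
          _ = n * (z * y) * n⁻¹ := by rw [h2]
          _ = _ := by group
      have h4 : n * y * n⁻¹ * (C.t * z') = (C.t * z') * (n * y * n⁻¹) := by
        rw [← ht]
        calc n * y * n⁻¹ * (n * C.t * n⁻¹) = n * (y * C.t) * n⁻¹ := by group
          _ = n * (C.t * y) * n⁻¹ := by rw [h1]
          _ = _ := by group
      refine ⟨?_, h3⟩
      have h5 : n * y * n⁻¹ * C.t * z' = C.t * (n * y * n⁻¹) * z' := by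
        calc n * y * n⁻¹ * C.t * z' = n * y * n⁻¹ * (C.t * z') := by group
          _ = C.t * (z' * (n * y * n⁻¹)) := by rw [h4]; group
          _ = C.t * (n * y * n⁻¹) * z' := by rw [← h3]; group
      exact mul_right_cancel h5
    · rintro ⟨h1, h2⟩
      refine ⟨n⁻¹ * x * n, ?_, ?_⟩
      · apply (mem_TX_cent C).2
        have hz2 : (z : G) = n⁻¹ * z' * n := by rw [← hz]; group
        have ht2 : C.t = n⁻¹ * (C.t * z') * n := by rw [← ht]; group
        constructor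
        · calc n⁻¹ * x * n * C.t = n⁻¹ * x * n * (n⁻¹ * (C.t * z') * n) := by rw [← ht2]
            _ = n⁻¹ * (x * C.t * z') * n := by group
            _ = n⁻¹ * (C.t * (x * z')) * n := by rw [h1]; group
            _ = n⁻¹ * (C.t * z') * n * (n⁻¹ * x * n) := by rw [h2]; group
            _ = _ := by rw [← ht2]
        · calc n⁻¹ * x * n * z = n⁻¹ * x * n * (n⁻¹ * z' * n) := by rw [← hz2]
            _ = n⁻¹ * (x * z') * n := by group
            _ = n⁻¹ * z' * n * (n⁻¹ * x * n) := by rw [h2]; group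
            _ = _ := by rw [← hz2]
      · change n * (n⁻¹ * x * n) * n⁻¹ = x
        group
  have h2 : Nat.card (TX C (Subgroup.centralizer {z})) = Nat.card (TX C (Subgroup.centralizer {z'})) := by
    rw [← h1]
    exact Nat.card_congr ((TX C (Subgroup.centralizer {z})).equivMapOfInjective _
      (MulAut.conj n).injective).toEquiv
  rw [card_TX, card_TX] at h2
  omega

theorem exists_fix_flag [Finite G] (S : Sylow 2 C.L) {v w : V} (hv : v ≠ 0) (hvw : C.S.B v w = 0) (hw : w ∉ ln v)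
    (hS1 : (S : Subgroup C.L) ≤ PU C.S (ln v)) (hS2 : (S : Subgroup C.L) ≤ PU C.S (pl v w)) (f e : ZMod 2)
    (hfe : f ≠ 0 ∨ e ≠ 0) {g : G} (hg : g * C.t * g⁻¹ = C.t * (q C.S v (f • w) e : C.L)) :
    ∃ n : G, n * C.t * n⁻¹ = C.t * (q C.S v (f • w) e : C.L) ∧
      n * (q C.S v (f • w) e : C.L) * n⁻¹ = (q C.S v (f • w) e : C.L) := by
  have hfinV := C.finV
  have h256 := C.cardV
  have hwv : C.S.B w v = 0 := by rw [C.S.symm]; exact hvw
  have hQ1 := QU_le_of_sylow C.S S (ln_ti C.S v) hS1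
  have hQ2 := QU_le_of_sylow C.S S (pl_ti C.S hvw) hS2
  set z : C.L := q C.S v (f • w) e with hzdef
  have hfw : ∀ f' : ZMod 2, C.S.B (f' • w) v = 0 := by
    intro f'
    rw [map_smul, LinearMap.smul_apply, hwv, smul_zero]
  have hcen : ∀ f' e' : ZMod 2, ∀ s ∈ (S : Subgroup C.L), q C.S v (f' • w) e' * s = s * q C.S v (f' • w) e' := by
    intro f' e' s hs
    have hb := ((commute_b_iff C.S hv).2 (hS1 hs)).symm
    have hs' := ((commute_s_iff C.S hv hw hvw).2 (hS2 hs)).symm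
    have h0 : ∀ e' : ZMod 2, q C.S v 0 e' * s = s * q C.S v 0 e' := by
      intro e'
      rcases z2 e' with rfl | rfl
      · rw [q_zero, one_mul, mul_one]
      · exact hb
    rcases z2 f' with rfl | rfl
    · rw [zero_smul]; exact h0 e'
    · rw [one_smul]
      have h1 : q C.S v w e' = q C.S v w 0 * q C.S v 0 e' := by
        rw [q_mul C.S hwv (B_zero C.S v)]; simp
      rw [h1, mul_assoc, h0, ← mul_assoc, hs', mul_assoc]
  obtain ⟨m, hm, hmt⟩ := exists_norm C S (hcen f e) hg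
  -- work with the inverse
  set n := m⁻¹ with hn
  have hnT : (TX C (S : Subgroup C.L)).map (MulAut.conj n).toMonoidHom = TX C (S : Subgroup C.L) := by
    conv_lhs => rw [← hm]
    rw [Subgroup.map_map]
    have : (MulAut.conj n).toMonoidHom.comp (MulAut.conj m).toMonoidHom = MonoidHom.id G := by
      ext x
      change n * (m * x * m⁻¹) * n⁻¹ = x
      rw [hn]; group
    rw [this, Subgroup.map_id]
  have hzS : z ∈ ⁅(S : Subgroup C.L), (S : Subgroup C.L)⁆ :=
    mem_commutator C.S h256 hv hvw hw hQ1 hQ2 f e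
  have hzT : (z : G) ∈ ⁅TX C (S : Subgroup C.L), TX C (S : Subgroup C.L)⁆ := by
    have h1 : (S : Subgroup C.L).map C.L.subtype ≤ TX C (S : Subgroup C.L) := by
      rintro x ⟨y, hy, rfl⟩
      exact (coe_mem_TX C).2 hy
    have h2 : (z : G) ∈ (⁅(S : Subgroup C.L), (S : Subgroup C.L)⁆).map C.L.subtype := ⟨z, hzS, rfl⟩
    rw [Subgroup.map_commutator] at h2
    exact Subgroup.commutator_mono h1 h1 h2
  have hzn : n * z * n⁻¹ ∈ ⁅TX C (S : Subgroup C.L), TX C (S : Subgroup C.L)⁆ := by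
    have h2 : n * z * n⁻¹ ∈ (⁅TX C (S : Subgroup C.L), TX C (S : Subgroup C.L)⁆).map
        (MulAut.conj n).toMonoidHom := ⟨z, hzT, rfl⟩
    rwa [Subgroup.map_commutator, hnT] at h2
  obtain ⟨z', hz'S, hz'⟩ := commutator_TX_le C _ hzn
  replace hz' : (z' : G) = n * z * n⁻¹ := hz'
  have hz'c : ∀ s ∈ (S : Subgroup C.L), z' * s = s * z' := by
    intro s hs
    have h1 : (s : G) ∈ (TX C (S : Subgroup C.L)).map (MulAut.conj n).toMonoidHom := by
      rw [hnT]; exact (coe_mem_TX C).2 hs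
    obtain ⟨x, ⟨y, hy, hxy⟩, hx⟩ := h1
    replace hx : n * x * n⁻¹ = s := hx
    have h2 : (z : G) * x = x * z := by
      have h3 : (z : G) * y = y * z := congrArg Subtype.val (hcen f e y hy)
      rcases hxy with rfl | rfl
      · exact h3
      · rw [← mul_assoc, t_comm, mul_assoc, h3, mul_assoc]
    apply Subtype.ext
    change (z' : G) * s = s * z'
    rw [hz', ← hx]
    calc n * z * n⁻¹ * (n * x * n⁻¹) = n * (z * x) * n⁻¹ := by group
      _ = n * (x * z) * n⁻¹ := by rw [h2]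
      _ = _ := by group
  obtain ⟨f', e', hfe'⟩ := of_commute_S C.S h256 hv hvw hw hQ1 hQ2 hz'c
  have hzz' : z' * z' = 1 := by rw [hfe']; exact q_sq C.S (hfw f') e'
  have hzz : z * z = 1 := by rw [hzdef]; exact q_sq C.S (hfw f) e
  have hzzG : (z : G) * z = 1 := congrArg Subtype.val hzz
  have hzzG' : (z' : G) * z' = 1 := congrArg Subtype.val hzz'
  have hnt : n * C.t * n⁻¹ = C.t * z' := by
    have h1 : C.t = n * (C.t * z) * n⁻¹ := by rw [← hmt, hn]; group
    have h2 : C.t = n * C.t * n⁻¹ * z' := by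
      rw [hz']
      calc C.t = n * (C.t * z) * n⁻¹ := h1
        _ = _ := by group
    calc n * C.t * n⁻¹ = n * C.t * n⁻¹ * (z' * z') := by rw [hzzG', mul_one]
      _ = n * C.t * n⁻¹ * z' * z' := by group
      _ = _ := by rw [← h2]
  have hcard := card_cent_eq C hzz' hz'.symm hnt
  -- the orders
  have c1 := card_lt_PU_ln C.S h256 hv hw hvw
  have c2 := card_PU_pl_le C.S hv hw hvw
  have c3 := card_lt_PU_pl C.S hv hw hvw
  have hcb : Subgroup.centralizer {q C.S v 0 1} = PU C.S (ln v) := by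
    ext x
    rw [Subgroup.mem_centralizer_singleton_iff]; exact commute_b_iff C.S hv
  have hcs : Subgroup.centralizer {q C.S v w 0} = PU C.S (pl v w) := by
    ext x
    rw [Subgroup.mem_centralizer_singleton_iff]; exact commute_s_iff C.S hv hw hvw
  have hcc : Subgroup.centralizer {q C.S v w 1} = PU C.S (ln v) ⊓ PU C.S (pl v w) := by
    ext x
    rw [Subgroup.mem_centralizer_singleton_iff]; exact commute_c_iff C.S hv hw hvw
  have hz0 : z' ≠ 1 := by
    intro h
    have h1 : (z : G) = 1 := by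
      have : (z : G) = n⁻¹ * z' * n := by rw [hz']; group
      rw [this, h]
      change n⁻¹ * (1 : G) * n = 1
      group
    have h2 : z = 1 := Subtype.ext h1
    have h3 : q C.S v (f • w) e = q C.S v 0 0 := by rw [q_zero]; exact h2
    have h4 := q_inj C.S hv (hfw f) (B_zero C.S v) h3
    rcases hfe with h5 | h5
    · rw [z2_ne.1 h5, one_smul, add_zero] at h4
      exact hw h4.1
    · exact h5 h4.2
  have hpos : 0 < Nat.card (PU C.S (ln v) ⊓ PU C.S (pl v w) : Subgroup C.L) := Nat.card_pos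
  have hne0 : ¬ ((0 : ZMod 2) ≠ 0 ∨ (0 : ZMod 2) ≠ 0) := by simp
  have hzz1 : z' = z := by
    rcases z2 f with hf | hf <;> rcases z2 e with he | he <;> rcases z2 f' with hf' | hf' <;>
      rcases z2 e' with he' | he' <;> rw [hf, he] at hzdef <;> rw [hf', he'] at hfe' <;>
      simp only [zero_smul, one_smul] at hzdef hfe' <;>
      first
      | exact hfe'.trans hzdef.symm
      | (exfalso; rw [q_zero] at hfe'; exact hz0 hfe')
      | (exfalso; rw [hf, he] at hfe; exact hne0 hfe)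
      | (exfalso; rw [hzdef, hfe'] at hcard; simp only [hcb, hcs, hcc] at hcard; omega)
  rw [hzz1] at hz' hnt
  refine ⟨m, hmt, ?_⟩
  have : (z : G) = m⁻¹ * z * m⁻¹⁻¹ := hz'
  calc m * (z : G) * m⁻¹ = m * (m⁻¹ * z * m⁻¹⁻¹) * m⁻¹ := by rw [← this]
    _ = z := by group

theorem exists_fix [Finite G] {v w : V} (hv : v ≠ 0) (hvw : C.S.B v w = 0) (hw : w ∉ ln v) (f e : ZMod 2)
    (hfe : f ≠ 0 ∨ e ≠ 0) {v' w' : V} (hv' : v' ≠ 0) (hvw' : C.S.B v' w' = 0) (hw' : w' ∉ ln v')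
    {g : G} (hg : g * C.t * g⁻¹ = C.t * (q C.S v' (f • w') e : C.L)) :
    ∃ n : G, n * C.t * n⁻¹ = C.t * (q C.S v (f • w) e : C.L) ∧
      n * (q C.S v (f • w) e : C.L) * n⁻¹ = (q C.S v (f • w) e : C.L) := by
  have hfinV := C.finV
  have h256 := C.cardV
  obtain ⟨S⟩ : Nonempty (Sylow 2 C.L) := inferInstance
  obtain ⟨v0, w0, h1, h2, h3, h4, h5⟩ := exists_flag C.S h256 S
  obtain ⟨k, hkv, hkw⟩ := trans_pl C.S hv' hw' hvw' h1 h3 h2
  obtain ⟨l, hlv, hlw⟩ := trans_pl C.S h1 h3 h2 hv hw hvw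
  have e1 : k * q C.S v' (f • w') e * k⁻¹ = q C.S v0 (f • w0) e := by
    rw [q_conj, hkv, map_smul, hkw]
  have e2 : l * q C.S v0 (f • w0) e * l⁻¹ = q C.S v (f • w) e := by
    rw [q_conj, hlv, map_smul, hlw]
  have e1' : (k : G) * (q C.S v' (f • w') e : C.L) * (k : G)⁻¹ = (q C.S v0 (f • w0) e : C.L) :=
    congrArg Subtype.val e1
  have e2' : (l : G) * (q C.S v0 (f • w0) e : C.L) * (l : G)⁻¹ = (q C.S v (f • w) e : C.L) :=
    congrArg Subtype.val e2
  have hkt := t_comm C k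
  have hlt := t_comm C l
  have hg0 : (k * g) * C.t * (k * g)⁻¹ = C.t * (q C.S v0 (f • w0) e : C.L) := by
    rw [← e1']
    calc (k * g) * C.t * (k * g)⁻¹ = k * (g * C.t * g⁻¹) * (k : G)⁻¹ := by group
      _ = (k : G) * C.t * ((q C.S v' (f • w') e : C.L) : G) * (k : G)⁻¹ := by rw [hg]; group
      _ = _ := by rw [hkt]; group
  obtain ⟨n, hn, hn'⟩ := exists_fix_flag C S h1 h2 h3 h4 h5 f e hfe hg0
  have hlt' : (l : G)⁻¹ * C.t * l = C.t := by rw [mul_assoc, ← hlt]; group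
  refine ⟨l * n * (l : G)⁻¹, ?_, ?_⟩
  · calc l * n * (l : G)⁻¹ * C.t * (l * n * (l : G)⁻¹)⁻¹ = l * n * ((l : G)⁻¹ * C.t * l) * n⁻¹ * (l : G)⁻¹ := by
          group
      _ = l * (n * C.t * n⁻¹) * (l : G)⁻¹ := by rw [hlt']; group
      _ = (l : G) * C.t * ((q C.S v0 (f • w0) e : C.L) : G) * (l : G)⁻¹ := by rw [hn]; group
      _ = C.t * ((l : G) * ((q C.S v0 (f • w0) e : C.L) : G) * (l : G)⁻¹) := by rw [hlt]; group
      _ = _ := by rw [e2']
  · rw [← e2']
    calc l * n * (l : G)⁻¹ * ((l : G) * ((q C.S v0 (f • w0) e : C.L) : G) * (l : G)⁻¹) * (l * n * (l : G)⁻¹)⁻¹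
        = l * (n * ((q C.S v0 (f • w0) e : C.L) : G) * n⁻¹) * (l : G)⁻¹ := by group
      _ = _ := by rw [hn']

theorem start_long [Finite G] (h : ∃ g v, v ≠ 0 ∧ g * C.t * g⁻¹ = C.t * C.b v) {v : V} (hv : v ≠ 0) :
    ∃ n : G, n * C.t * n⁻¹ = C.t * C.b v ∧ n * C.b v * n⁻¹ = C.b v := by
  have hfinV := C.finV
  have h256 := C.cardV
  obtain ⟨g, v', hv', hg⟩ := h
  have key : ∀ a : V, a ≠ 0 → ∃ b, C.S.B a b = 0 ∧ b ∉ ln a := by
    intro a _
    obtain ⟨b, hb, hb'⟩ := room C.S h256 (A := ln a) (A' := ln a) (by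
      have := finrank_ln_le a; omega)
    exact ⟨b, by rw [C.S.symm]; exact (mem_perp_ln C.S).1 hb, hb'⟩
  obtain ⟨w, hw1, hw2⟩ := key v hv
  obtain ⟨w', hw1', hw2'⟩ := key v' hv'
  have e : ∀ a b : V, (q C.S a ((0 : ZMod 2) • b) 1 : C.L) = C.S.τ a := by
    intro a b
    rw [zero_smul, q_zero_one]
  have hg' : g * C.t * g⁻¹ = C.t * (q C.S v' ((0 : ZMod 2) • w') 1 : C.L) := by
    rw [e]; exact hg
  have := exists_fix C hv hw1 hw2 0 1 (Or.inr one_ne_zero) hv' hw1' hw2' hg'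
  rwa [e] at this

theorem start_short [Finite G] {v' w' : V} (hv' : v' ≠ 0) (hvw' : C.S.B v' w' = 0) (hw' : w' ∉ ln v')
    (h : ∃ g, g * C.t * g⁻¹ = C.t * (q C.S v' w' 0 : C.L))
    {v w : V} (hv : v ≠ 0) (hvw : C.S.B v w = 0) (hw : w ∉ ln v) :
    ∃ n : G, n * C.t * n⁻¹ = C.t * (q C.S v w 0 : C.L) ∧
      n * (q C.S v w 0 : C.L) * n⁻¹ = (q C.S v w 0 : C.L) := by
  obtain ⟨g, hg⟩ := h
  have e : ∀ a b : V, (q C.S a ((1 : ZMod 2) • b) 0 : C.L) = q C.S a b 0 := by
    intro a b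
    rw [one_smul]
  rw [← e] at hg
  have := exists_fix C hv hvw hw 1 0 (Or.inl one_ne_zero) hv' hvw' hw' hg
  rwa [e] at this

end Cfsg.Agent.OddHalf.SpTwo
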