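import Cfsg.Agent.StandardComponent.SpTwo

/-!
# Generation by transvections over the field with two elements

`SpData X V`: a group with all transvections `τ w` of a symplectic space over `F₂`.  If `f` is an isometry of
`U^⊥ / U` (`U` totally isotropic) then some product of transvections `τ w`, `w ∈ U^⊥`, induces `f`.
-/

set_option autoImplicit false

namespace Cfsg.Agent.OddHalf.SpTwo

open Cfsg.Agent.StandardComponent.SpTwo

variable {X V : Type*} [Group X] [AddCommGroup V] [Module (ZMod 2) V] (D : SpData X V)

/-- the orthogonal space -/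
def perp (U : Submodule (ZMod 2) V) : Submodule (ZMod 2) V where
  carrier := {x | ∀ u ∈ U, D.B x u = 0}
  zero_mem' := fun u _ => by rw [map_zero]; rfl
  add_mem' := fun {a b} ha hb u hu => by
    rw [map_add, LinearMap.add_apply, ha u hu, hb u hu, add_zero]
  smul_mem' := fun c x hx u hu => by rw [map_smul, LinearMap.smul_apply, hx u hu, smul_zero]

theorem mem_perp {U : Submodule (ZMod 2) V} {x : V} : x ∈ perp D U ↔ ∀ u ∈ U, D.B x u = 0 := Iff.rfl

theorem perp_anti {U W : Submodule (ZMod 2) V} (h : U ≤ W) : perp D W ≤ perp D U :=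
  fun _ hx u hu => hx u (h hu)

theorem B_surj [Finite V] (f : V →ₗ[ZMod 2] ZMod 2) : ∃ y, ∀ x, D.B y x = f x := by
  have hfin : Module.Finite (ZMod 2) V := Module.Finite.of_finite
  have hinj : Function.Injective D.B := by
    rw [← LinearMap.ker_eq_bot, LinearMap.ker_eq_bot']
    intro v hv
    apply D.nondeg
    intro w
    rw [hv]; rfl
  have hsurj : Function.Surjective D.B := by
    refine (LinearMap.injective_iff_surjective_of_finrank_eq_finrank ?_).1 hinj
    exact (Subspace.dual_finrank_eq (K := ZMod 2) (V := V)).symm
  obtain ⟨y, hy⟩ := hsurj f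
  exact ⟨y, fun x => by rw [hy]⟩

/-- prescribed values on a subspace -/
theorem B_surj_on [Finite V] (A : Submodule (ZMod 2) V) (f : A →ₗ[ZMod 2] ZMod 2) :
    ∃ y, ∀ x : A, D.B y x = f x := by
  obtain ⟨g, hg⟩ := LinearMap.exists_extend f
  obtain ⟨y, hy⟩ := B_surj D g
  exact ⟨y, fun x => by rw [hy, ← hg]; rfl⟩

theorem sep [Finite V] {A : Submodule (ZMod 2) V} {x : V} (hx : x ∉ A) :
    ∃ y, y ∈ perp D A ∧ D.B y x = 1 := by
  obtain ⟨f, hf, hf'⟩ := Submodule.exists_dual_map_eq_bot_of_notMem hx inferInstance
  obtain ⟨y, hy⟩ := B_surj D f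
  refine ⟨y, fun a ha => ?_, ?_⟩
  · rw [hy]
    have : f a ∈ A.map f := ⟨a, ha, rfl⟩
    rw [hf'] at this
    exact this
  · rw [hy]
    rcases z2 (f x) with h | h
    · exact absurd h hf
    · exact h

/-- `(A^⊥)^⊥ = A`. -/
theorem mem_of_perp [Finite V] {A : Submodule (ZMod 2) V} {x : V} (h : ∀ y ∈ perp D A, D.B y x = 0) :
    x ∈ A := by
  by_contra hx
  obtain ⟨y, hy, h1⟩ := sep D hx
  rw [h y hy] at h1
  exact zero_ne_one h1

/-- the group generated by the transvections with centre in a set -/
def TG (W : Set V) : Subgroup X := Subgroup.closure {g | ∃ w ∈ W, g = D.τ w}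

theorem τ_mem_TG {W : Set V} {w : V} (h : w ∈ W) : D.τ w ∈ TG D W := Subgroup.subset_closure ⟨w, h, rfl⟩

theorem TG_fix {U : Submodule (ZMod 2) V} {p : X} (hp : p ∈ TG D (perp D U : Set V)) {u : V} (hu : u ∈ U) :
    D.ρ p u = u := by
  induction hp using Subgroup.closure_induction with
  | mem x hx =>
    obtain ⟨w, hw, rfl⟩ := hx
    rw [D.hτ, D.symm, hw u hu, zero_smul, add_zero]
  | one => exact D.ρ_one u
  | mul x y _ _ h1 h2 => rw [D.ρ_mul, h2, h1]
  | inv x _ h =>
    have := D.ρ_inv_apply x u
    rwa [h] at this

theorem TG_perp {U : Submodule (ZMod 2) V} {p : X} (hp : p ∈ TG D (perp D U : Set V)) {x : V}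
    (hx : x ∈ perp D U) : D.ρ p x ∈ perp D U := by
  intro u hu
  rw [D.inv_left]
  rw [TG_fix D (inv_mem hp) hu]
  exact hx u hu

theorem gen [Finite V] {U : Submodule (ZMod 2) V} (hU : U ≤ perp D U) (f : V → V)
    (h1 : ∀ x ∈ perp D U, f x ∈ perp D U) (h0 : ∀ x ∈ U, f x ∈ U)
    (hadd : ∀ x ∈ perp D U, ∀ y ∈ perp D U, f (x + y) + (f x + f y) ∈ U)
    (hB : ∀ x ∈ perp D U, ∀ y ∈ perp D U, D.B (f x) (f y) = D.B x y) :
    ∃ p ∈ TG D (perp D U : Set V), ∀ x ∈ perp D U, D.ρ p x + f x ∈ U := by
  classical
  -- strong induction on the defect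
  have key : ∀ k : ℕ, ∀ p ∈ TG D (perp D U : Set V),
      Nat.card V - Nat.card {x : V // x ∈ perp D U ∧ D.ρ p x + f x ∈ U} = k →
      ∃ p ∈ TG D (perp D U : Set V), ∀ x ∈ perp D U, D.ρ p x + f x ∈ U := by
    intro k
    induction k using Nat.strong_induction_on with
    | _ k ih =>
      intro p hp hk
      by_cases hall : ∀ x ∈ perp D U, D.ρ p x + f x ∈ U
      · exact ⟨p, hp, hall⟩
      push Not at hall
      obtain ⟨u, hu, hun⟩ := hall
      -- the subspace of agreement
      let A : Submodule (ZMod 2) V :=
        { carrier := {x | x ∈ perp D U ∧ D.ρ p x + f x ∈ U}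
          zero_mem' := ⟨zero_mem _, by
            rw [map_zero, zero_add]; exact h0 0 (zero_mem _)⟩
          add_mem' := by
            intro a b ha hb
            refine ⟨add_mem ha.1 hb.1, ?_⟩
            have e : D.ρ p (a + b) + f (a + b) =
                (D.ρ p a + f a) + (D.ρ p b + f b) + (f (a + b) + (f a + f b)) := by
              rw [map_add]
              have h2 : f a + f a = 0 := aa _
              have h3 : f b + f b = 0 := aa _
              calc D.ρ p a + D.ρ p b + f (a + b)
                  = D.ρ p a + D.ρ p b + f (a + b) + (f a + f a) + (f b + f b) := by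
                    rw [h2, h3, add_zero, add_zero]
                _ = _ := by abel
            rw [e]
            exact add_mem (add_mem ha.2 hb.2) (hadd a ha.1 b hb.1)
          smul_mem' := by
            intro c x hx
            rcases z2 c with hc | hc
            · rw [hc, zero_smul]
              refine ⟨zero_mem _, ?_⟩
              rw [map_zero, zero_add]; exact h0 0 (zero_mem _)
            · rw [hc, one_smul]; exact hx }
      have hA : ∀ x, x ∈ A ↔ x ∈ perp D U ∧ D.ρ p x + f x ∈ U := fun x => Iff.rfl
      have hUA : U ≤ A := by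
        intro x hx
        rw [hA]
        refine ⟨hU hx, ?_⟩
        rw [TG_fix D hp hx]
        exact add_mem hx (h0 x hx)
      have huA : u ∉ A := fun h => hun h.2
      have hpi : p⁻¹ ∈ TG D (perp D U : Set V) := inv_mem hp
      set gu := D.ρ p⁻¹ (f u) with hgu
      have hpgu : D.ρ p gu = f u := D.ρ_apply_inv p _
      have hguP : gu ∈ perp D U := TG_perp D hpi (h1 u hu)
      -- `B gu a = B u a` for `a ∈ A`
      have hBa : ∀ a ∈ A, D.B gu a = D.B u a := by
        intro a ha
        rw [hgu, D.inv_left, inv_inv]
        have e : D.ρ p a = f a + (D.ρ p a + f a) := by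
          have := aa (f a)
          calc D.ρ p a = D.ρ p a + (f a + f a) := by rw [this, add_zero]
            _ = _ := by abel
        rw [e, map_add, hB u hu a ha.1, (mem_perp D).1 (h1 u hu) _ ha.2, add_zero]
      -- the main step: from a new product of transvections
      have step : ∀ r ∈ TG D (perp D U : Set V), (∀ a ∈ A, D.ρ r a = a) → D.ρ r u = gu →
          ∃ p ∈ TG D (perp D U : Set V), ∀ x ∈ perp D U, D.ρ p x + f x ∈ U := by
        intro r hr hra hru
        refine ih _ ?_ (p * r) (mul_mem hp hr) rfl
        rw [← hk]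
        have hlt : Nat.card {x : V // x ∈ perp D U ∧ D.ρ p x + f x ∈ U} <
            Nat.card {x : V // x ∈ perp D U ∧ D.ρ (p * r) x + f x ∈ U} := by
          refine Set.ncard_lt_ncard (s := {x : V | x ∈ perp D U ∧ D.ρ p x + f x ∈ U})
            (t := {x : V | x ∈ perp D U ∧ D.ρ (p * r) x + f x ∈ U}) ?_ (Set.toFinite _)
          rw [Set.ssubset_iff_of_subset]
          · refine ⟨u, ⟨hu, ?_⟩, hun ∘ And.right⟩
            rw [D.ρ_mul, hru, hpgu, aa]
            exact zero_mem _
          · intro x hx
            refine ⟨hx.1, ?_⟩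
            rw [D.ρ_mul, hra x hx]
            exact hx.2
        have hle : Nat.card {x : V // x ∈ perp D U ∧ D.ρ (p * r) x + f x ∈ U} ≤ Nat.card V :=
          Finite.card_subtype_le _
        omega
      have hc : gu + u ∈ perp D U := add_mem hguP hu
      have hcA : ∀ a ∈ A, D.B a (gu + u) = 0 := by
        intro a ha
        rw [D.symm, map_add, LinearMap.add_apply, hBa a ha]
        exact aa (D.B u a)
      rcases z2 (D.B gu u) with hb | hb
      · -- two transvections
        have hnot : u ∉ A ⊔ Submodule.span (ZMod 2) {gu + u} := by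
          intro hmem
          rw [Submodule.mem_sup] at hmem
          obtain ⟨a, ha, b, hb', hab⟩ := hmem
          rw [Submodule.mem_span_singleton] at hb'
          obtain ⟨c, rfl⟩ := hb'
          rcases z2 c with hc0 | hc1
          · rw [hc0, zero_smul, add_zero] at hab
            exact huA (hab ▸ ha)
          · rw [hc1, one_smul] at hab
            have hga : gu = a := by
              apply eq_of_add
              have : a + (gu + u) = u := hab
              calc gu + a = (a + (gu + u)) + u := by rw [add_comm gu a, ← add_assoc, add_assoc _ u u, aa, add_zero]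
                _ = u + u := by rw [this]
                _ = 0 := aa u
            apply huA
            -- `a = gu`, so `ρ p a = f u` and `ρ p a + f a ∈ U`
            have h5 : f u + f a ∈ U := by
              have := ha.2
              rw [← hga, hpgu] at this
              rwa [hga] at this
            -- hence `u + a ∈ U`
            have h6 : u + a ∈ U := by
              apply mem_of_perp D
              intro y hy
              have h7 : D.B (f y) (f u + f a) = 0 := (mem_perp D).1 (h1 y hy) _ h5
              rw [map_add, hB y hy u hu, hB y hy a ha.1] at h7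
              rw [map_add, h7]
            have h8 : u = (u + a) + a := by rw [add_assoc, aa, add_zero]
            rw [h8]
            exact add_mem (hUA h6) ha
        obtain ⟨y', hy', hy1⟩ := sep D hnot
        have hyA : ∀ a ∈ A, D.B a y' = 0 := fun a ha => by
          rw [D.symm]; exact hy' a (Submodule.mem_sup_left ha)
        have hyc : D.B y' (gu + u) = 0 :=
          hy' _ (Submodule.mem_sup_right (Submodule.mem_span_singleton_self _))
        have hyP : y' ∈ perp D U := fun x hx => hy' x (Submodule.mem_sup_left (hUA hx))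
        refine step (D.τ (gu + u + y') * D.τ y') (mul_mem (τ_mem_TG D (add_mem hc hyP)) (τ_mem_TG D hyP))
          ?_ ?_
        · intro a ha
          have e0 : D.ρ (D.τ y') a = a := by rw [D.hτ, hyA a ha, zero_smul, add_zero]
          rw [D.ρ_mul, e0, D.hτ, map_add, hcA a ha, hyA a ha, add_zero, zero_smul, add_zero]
        · have e1 : D.ρ (D.τ y') u = u + y' := by
            rw [D.hτ, D.symm, hy1, one_smul]
          have e2 : D.B (u + y') (gu + u + y') = 1 := by
            have h3 : D.B u gu = 0 := by rw [D.symm]; exact hb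
            have h4 : D.B u y' = 1 := by rw [D.symm]; exact hy1
            have h5 : D.B y' gu = 1 := by
              rw [map_add, hy1] at hyc
              rcases z2 (D.B y' gu) with h | h
              · rw [h] at hyc; exact absurd hyc (by decide)
              · exact h
            simp only [map_add, LinearMap.add_apply, D.alt, h3, h4, h5, hy1]
            decide
          rw [D.ρ_mul, e1, D.hτ, e2, one_smul]
          have : u + y' + (gu + u + y') = gu + (u + u) + (y' + y') := by abel
          rw [this, aa, aa, add_zero, add_zero]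
      · -- one transvection
        refine step (D.τ (gu + u)) (τ_mem_TG D hc) ?_ ?_
        · intro a ha
          rw [D.hτ, hcA a ha, zero_smul, add_zero]
        · rw [D.hτ, map_add, D.alt, add_zero, D.symm, hb, one_smul, add_comm gu u, aac]
  exact key _ 1 (one_mem _) rfl

end Cfsg.Agent.OddHalf.SpTwo
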