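import Cfsg.Agent.OddHalf.SpTwo.Core

/-!
# Existence of `y_v` (long roots)

If `t` is conjugate to some `t b_v`, then for every `v ≠ 0` there is an involution `y` with `t^y = t b_v`
centralising `Q_v`.
-/

set_option autoImplicit false
set_option linter.unusedSimpArgs false

open scoped commutatorElement

namespace Cfsg.Agent.OddHalf.SpTwo

open Cfsg.Agent.StandardComponent.SpTwo
open Cfsg.Agent.OddHalf.SpTwoN

variable {G V : Type*} [Group G] [AddCommGroup V] [Module (ZMod 2) V] (C : Ctx G V)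

/-- the properties of `y_v` -/
structure IsY (v : V) (y : G) : Prop where
  sq : y * y = 1
  conj_t : y * C.t * y = C.t * C.b v
  comm_b : y * C.b v = C.b v * y
  comm : ∀ u, C.S.B u v = 0 → y * (q C.S v u 0 : C.L) = (q C.S v u 0 : C.L) * y

theorem triv_ln {v : V} (hv : v ≠ 0) : Nrm.Triv C (ln v) := by
  intro N _ _ x _ x0 hx0 _ u hu
  rcases mem_ln.1 hu with rfl | rfl
  · exact map_zero _
  · exact (mem_PU_ln C.S hv).1 hx0

theorem nrm_ln {v : V} (hv : v ≠ 0) {g : G} (ht : g * C.t * g⁻¹ = C.t * C.b v)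
    (hb : g * C.b v * g⁻¹ = C.b v) : Nrm C (ln v) (C.S.τ v) g := by
  refine ⟨fun x => ?_, C.S.τ_sq v, ht, hb⟩
  rw [commute_τ_iff, mem_PU_ln C.S hv]

variable {C}
variable {v : V} {g : G}

theorem q_zero_conj (H : Nrm C (ln v) (C.S.τ v) g) (e : ZMod 2) :
    g * (q C.S v 0 e : C.L) * g⁻¹ = (q C.S v 0 e : C.L) := by
  rcases z2 e with rfl | rfl
  · rw [q_zero]
    change g * (1 : G) * g⁻¹ = 1
    group
  · rw [q_zero_one]; exact H.hz

theorem τ_mem_QF (_hv : v ≠ 0) (H : Nrm C (ln v) (C.S.τ v) g) : C.S.τ v ∈ H.QF := by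
  have h1 : C.S.τ v ∈ QU C.S (ln v) := τ_mem_QU C.S (ln_ti C.S v) (self_mem_ln v)
  exact ⟨h1, C.S.τ v, h1, H.hz⟩

theorem q_zero_mem_QF (hv : v ≠ 0) (H : Nrm C (ln v) (C.S.τ v) g) (e : ZMod 2) : q C.S v 0 e ∈ H.QF := by
  rcases z2 e with rfl | rfl
  · rw [q_zero]; exact one_mem _
  · rw [q_zero_one]; exact τ_mem_QF hv H

theorem q_ln (C : Ctx G V) {v u : V} (hu : u ∈ ln v) (e : ZMod 2) : q C.S v u e = q C.S v 0 e := by
  rcases mem_ln.1 hu with rfl | rfl
  · rfl
  · exact q_self C.S _ e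

theorem q_mem_QF (hv : v ≠ 0) (H : Nrm C (ln v) (C.S.τ v) g) {w : V} (hw : C.S.B w v = 0) (e : ZMod 2) :
    q C.S v w e ∈ H.QF := by
  have hfinV := C.finV
  by_cases hwl : w ∈ ln v
  · rw [q_ln C hwl]; exact q_zero_mem_QF hv H e
  · obtain ⟨u, hu, huw⟩ := sep C.S hwl
    rw [mem_perp_ln] at hu
    have h1 := H.commutator_mem_QF (ln_ti C.S v) (triv_ln C hv) (q_mem_QU C.S hv hu 0)
      (τ_mem_PU C.S ((mem_perp_ln C.S).2 hw))
    rw [q_inv C.S hu, C.S.τ_inv] at h1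
    have h2 : q C.S v u 0 * (C.S.τ w * q C.S v u 0 * C.S.τ w) = q C.S v w 1 := by
      have := q_comm_τ C.S hw hu (0 : ZMod 2)
      rw [huw, one_smul] at this
      rw [← this]; simp only [mul_assoc]
    rw [h2] at h1
    have h3 : q C.S v w e = q C.S v w 1 * q C.S v 0 (1 + e) := by
      rw [q_mul C.S hw (B_zero C.S v), map_zero]
      simp only [add_zero]
      rw [z2_add']
    rw [h3]
    exact mul_mem h1 (q_zero_mem_QF hv H _)

theorem exists_f (hv : v ≠ 0) (H : Nrm C (ln v) (C.S.τ v) g) {u : V} (hu : C.S.B u v = 0) (e : ZMod 2) :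
    ∃ u' e', C.S.B u' v = 0 ∧ g * (q C.S v u e : C.L) * g⁻¹ = (q C.S v u' e' : C.L) := by
  have hfinV := C.finV
  obtain ⟨-, y, hy, hy'⟩ := q_mem_QF hv H hu e
  obtain ⟨u', e', hu', rfl⟩ := mem_QU_ln C.S hv hy
  exact ⟨u', e', hu', hy'⟩

theorem long_p (hv : v ≠ 0) (H : Nrm C (ln v) (C.S.τ v) g) :
    ∃ p ∈ TG C.S (perp C.S (ln v) : Set V), ∀ u, C.S.B u v = 0 → ∃ e : ZMod 2,
      ((p : G)⁻¹ * g) * (q C.S v u 0 : C.L) * ((p : G)⁻¹ * g)⁻¹ = (q C.S v u e : C.L) := by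
  have hfinV := C.finV
  have h0 : ∀ u, C.S.B u v = 0 → ∃ u' e', C.S.B u' v = 0 ∧
      g * (q C.S v u 0 : C.L) * g⁻¹ = (q C.S v u' e' : C.L) := fun u hu => exists_f hv H hu 0
  choose! f e hfv hf using h0
  -- the image of a general element
  have hfe : ∀ u, C.S.B u v = 0 → ∀ c : ZMod 2,
      g * (q C.S v u c : C.L) * g⁻¹ = (q C.S v (f u) (e u + c) : C.L) := by
    intro u hu c
    have h1 : q C.S v u c = q C.S v u 0 * q C.S v 0 c := by
      rw [q_mul C.S hu (B_zero C.S v), map_zero]; simp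
    have h2 : q C.S v (f u) (e u + c) = q C.S v (f u) (e u) * q C.S v 0 c := by
      rw [q_mul C.S (hfv u hu) (B_zero C.S v), map_zero]; simp
    rw [h1, h2]
    change g * (((q C.S v u 0 : C.L) : G) * (q C.S v 0 c : C.L)) * g⁻¹ =
      ((q C.S v (f u) (e u) : C.L) : G) * (q C.S v 0 c : C.L)
    have e1 := hf u hu
    have e2 := q_zero_conj H c
    calc g * (((q C.S v u 0 : C.L) : G) * (q C.S v 0 c : C.L)) * g⁻¹ =
        (g * (q C.S v u 0 : C.L) * g⁻¹) * (g * (q C.S v 0 c : C.L) * g⁻¹) := by group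
      _ = _ := by rw [e1, e2]
  -- additivity
  have hadd : ∀ u u', C.S.B u v = 0 → C.S.B u' v = 0 → f (u + u') + (f u + f u') ∈ ln v := by
    intro u u' hu hu'
    have h1 : q C.S v u 0 * q C.S v u' 0 = q C.S v (u + u') (C.S.B u u') := by
      rw [q_mul C.S hu hu']; simp
    have huu : C.S.B (u + u') v = 0 := by rw [B_add, hu, hu', add_zero]
    have h2 := hfe (u + u') huu (C.S.B u u')
    rw [← h1] at h2
    have h3 : g * ((q C.S v u 0 * q C.S v u' 0 : C.L) : G) * g⁻¹ =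
        (g * (q C.S v u 0 : C.L) * g⁻¹) * (g * (q C.S v u' 0 : C.L) * g⁻¹) := by
      change g * (((q C.S v u 0 : C.L) : G) * (q C.S v u' 0 : C.L)) * g⁻¹ = _
      group
    rw [h3, hf u hu, hf u' hu'] at h2
    have h4 : q C.S v (f u) (e u) * q C.S v (f u') (e u') =
        q C.S v (f (u + u')) (e (u + u') + C.S.B u u') := Subtype.ext h2
    rw [q_mul C.S (hfv u hu) (hfv u' hu')] at h4
    have h5 := (q_inj C.S hv (by rw [B_add, hfv u hu, hfv u' hu', add_zero]) (hfv _ huu) h4).1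
    rwa [add_comm] at h5
  -- the values on `ln v`
  have hln : ∀ u ∈ ln v, f u ∈ ln v := by
    intro u hu
    have huv : C.S.B u v = 0 := (mem_perp_ln C.S).1 (ln_ti C.S v hu)
    have h1 := hf u huv
    rw [q_ln C hu, q_zero_conj H] at h1
    have h2 := (q_inj C.S hv (B_zero C.S v) (hfv u huv) (Subtype.ext h1)).1
    rwa [zero_add] at h2
  -- surjectivity
  have hsurj : ∀ x, C.S.B x v = 0 → ∃ u, C.S.B u v = 0 ∧ x + f u ∈ ln v := by
    intro x hx
    obtain ⟨u, c, hu, huc⟩ := exists_f hv H.inv hx 0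
    refine ⟨u, hu, ?_⟩
    have h1 := hfe u hu c
    rw [← huc] at h1
    have h2 : ((q C.S v x 0 : C.L) : G) = (q C.S v (f u) (e u + c) : C.L) := by
      rw [← h1]; group
    exact (q_inj C.S hv hx (hfv u hu) (Subtype.ext h2)).1
  have hinj : ∀ w, C.S.B w v = 0 → f w ∈ ln v → w ∈ ln v := by
    intro w hw hfw
    have h1 := hf w hw
    rw [q_ln C hfw, ← q_zero_conj H] at h1
    have h2 : ((q C.S v w 0 : C.L) : G) = (q C.S v 0 (e w) : C.L) := by
      have := congrArg (fun x => g⁻¹ * x * g) h1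
      simpa [mul_assoc] using this
    have h3 := (q_inj C.S hv hw (B_zero C.S v) (Subtype.ext h2)).1
    rwa [add_zero] at h3
  have hBln : ∀ x y, C.S.B x v = 0 → y ∈ ln v → C.S.B x y = 0 := by
    intro x y hx hy
    exact (mem_perp_ln C.S).2 hx y hy
  have hfs : ∀ u w, C.S.B u v = 0 → C.S.B w v = 0 → ∀ c : ZMod 2, f (u + c • w) + (f u + c • f w) ∈ ln v := by
    intro u w hu hw c
    rcases z2 c with rfl | rfl
    · rw [zero_smul, zero_smul, add_zero, add_zero, aa]; exact zero_mem _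
    · rw [one_smul, one_smul]; exact hadd u w hu hw
  -- conjugation by transvections
  have hstar : ∀ w u u', C.S.B w v = 0 → C.S.B u v = 0 → C.S.B u' v = 0 →
      C.S.B u' w * C.S.B (f u) (f w) = C.S.B u w * C.S.B (f w) (f u') := by
    intro w u u' hw hu hu'
    obtain ⟨y, hy, hy'⟩ := H.exists_PU (τ_mem_PU C.S ((mem_perp_ln C.S).2 hw))
    have hyv := (mem_PU_ln C.S hv).1 hy
    have key : ∀ a, C.S.B a v = 0 → C.S.ρ y (f a) + (f a + C.S.B a w • f w) ∈ ln v := by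
      intro a ha
      have h1 : (y * q C.S v (f a) (e a) * y⁻¹ : C.L) = q C.S v (C.S.ρ y (f a)) (e a) := by
        rw [q_conj, hyv]
      have h2 := conj_lift C hy' (q C.S v (f a) (e a))
      rw [h1, ← hf a ha] at h2
      have h3 : g * ((C.S.τ w : C.L) : G) * g⁻¹ * (g * (q C.S v a 0 : C.L) * g⁻¹) *
          (g * ((C.S.τ w : C.L) : G) * g⁻¹)⁻¹ = g * (q C.S v (a + C.S.B a w • w) 0 : C.L) * g⁻¹ := by
        rw [← τ_conj_q C.S hw]
        have h4 : ((C.S.τ w : C.L) : G)⁻¹ = (C.S.τ w : C.L) := congrArg Subtype.val (C.S.τ_inv w)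
        change _ = g * (((C.S.τ w : C.L) : G) * (q C.S v a 0 : C.L) * (C.S.τ w : C.L)) * g⁻¹
        calc g * ((C.S.τ w : C.L) : G) * g⁻¹ * (g * (q C.S v a 0 : C.L) * g⁻¹) *
            (g * ((C.S.τ w : C.L) : G) * g⁻¹)⁻¹ =
            g * (((C.S.τ w : C.L) : G) * (q C.S v a 0 : C.L) * ((C.S.τ w : C.L) : G)⁻¹) * g⁻¹ := by group
          _ = _ := by rw [h4]
      have haw : C.S.B (a + C.S.B a w • w) v = 0 := by
        rw [B_add, map_smul, LinearMap.smul_apply, ha, hw, smul_zero, add_zero]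
      rw [h3, hf _ haw] at h2
      have h5 := (q_inj C.S hv (hfv _ haw) (by rw [← hyv, C.S.inv]; exact hfv a ha) (Subtype.ext h2)).1
      have h6 := add_mem h5 (hfs a w ha hw (C.S.B a w))
      have h7 : f (a + C.S.B a w • w) + C.S.ρ y (f a) + (f (a + C.S.B a w • w) + (f a + C.S.B a w • f w)) =
          C.S.ρ y (f a) + (f a + C.S.B a w • f w) +
            (f (a + C.S.B a w • w) + f (a + C.S.B a w • w)) := by abel
      rwa [h7, aa, add_zero] at h6
    have hval : ∀ a, C.S.B a v = 0 → ∃ l ∈ ln v, C.S.ρ y (f a) = f a + C.S.B a w • f w + l := by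
      intro a ha
      refine ⟨_, key a ha, ?_⟩
      have : f a + C.S.B a w • f w + (C.S.ρ y (f a) + (f a + C.S.B a w • f w)) =
          C.S.ρ y (f a) + ((f a + C.S.B a w • f w) + (f a + C.S.B a w • f w)) := by abel
      rw [this, aa, add_zero]
    obtain ⟨l, hl, hl'⟩ := hval u hu
    obtain ⟨l', hm, hm'⟩ := hval u' hu'
    have h1 := C.S.inv y (f u) (f u')
    rw [hl', hm'] at h1
    have e1 : C.S.B l (f u') = 0 := by rw [C.S.symm]; exact hBln _ _ (hfv u' hu') hl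
    have e2 : C.S.B l (f w) = 0 := by rw [C.S.symm]; exact hBln _ _ (hfv w hw) hl
    have e3 : C.S.B l l' = 0 := hBln _ _ ((mem_perp_ln C.S).1 (ln_ti C.S v hl)) hm
    have e4 : C.S.B (f u) l' = 0 := hBln _ _ (hfv u hu) hm
    have e5 : C.S.B (f w) l' = 0 := hBln _ _ (hfv w hw) hm
    simp only [map_add, LinearMap.add_apply, map_smul, LinearMap.smul_apply, smul_eq_mul, C.S.alt, e1, e2, e3, e4,
      e5, mul_zero, add_zero, zero_add] at h1
    revert h1
    generalize C.S.B u' w = a1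
    generalize C.S.B (f u) (f w) = a2
    generalize C.S.B u w = a3
    generalize C.S.B (f w) (f u') = a4
    generalize C.S.B (f u) (f u') = a5
    revert a1 a2 a3 a4 a5
    decide
  have hiso : ∀ u w, C.S.B u v = 0 → C.S.B w v = 0 → C.S.B (f u) (f w) = C.S.B u w := by
    intro u w hu hw
    by_cases hwl : w ∈ ln v
    · rw [hBln u w hu hwl, hBln _ _ (hfv u hu) (hln w hwl)]
    · obtain ⟨u', hu', huw'⟩ := sep C.S hwl
      rw [mem_perp_ln] at hu'
      have h1 : ∀ a, C.S.B a v = 0 → C.S.B (f a) (f w) = C.S.B a w * C.S.B (f w) (f u') := by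
        intro a ha
        have := hstar w a u' hw ha hu'
        rwa [huw', one_mul] at this
      have h2 : C.S.B (f w) (f u') = 1 := by
        rcases z2 (C.S.B (f w) (f u')) with h3 | h3
        · exfalso
          apply hwl
          apply hinj w hw
          apply mem_of_perp C.S
          intro x hx
          rw [mem_perp_ln] at hx
          obtain ⟨a, ha, hax⟩ := hsurj x hx
          have h4 := h1 a ha
          rw [h3, mul_zero] at h4
          have h5 : C.S.B (f w) (x + f a) = 0 := hBln _ _ (hfv w hw) hax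
          rw [map_add, C.S.symm (f w) (f a), h4, add_zero] at h5
          rw [C.S.symm]; exact h5
        · exact h3
      rw [h1 u hu, h2, mul_one]
  obtain ⟨p, hp, hpf⟩ := gen C.S (ln_ti C.S v) f
    (fun x hx => (mem_perp_ln C.S).2 (hfv x ((mem_perp_ln C.S).1 hx)))
    hln
    (fun x hx y hy => hadd x y ((mem_perp_ln C.S).1 hx) ((mem_perp_ln C.S).1 hy))
    (fun x hx y hy => hiso x y ((mem_perp_ln C.S).1 hx) ((mem_perp_ln C.S).1 hy))
  refine ⟨p, hp, fun u hu => ⟨e u, ?_⟩⟩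
  have hpi : p⁻¹ ∈ TG C.S (perp C.S (ln v) : Set V) := inv_mem hp
  have hpv : C.S.ρ p⁻¹ v = v := TG_fix C.S hpi (self_mem_ln v)
  have h1 : ((p : G)⁻¹ * g) * (q C.S v u 0 : C.L) * ((p : G)⁻¹ * g)⁻¹ =
      (p : G)⁻¹ * (g * (q C.S v u 0 : C.L) * g⁻¹) * p := by group
  rw [h1, hf u hu]
  have h2 : p⁻¹ * q C.S v (f u) (e u) * p⁻¹⁻¹ = q C.S v (C.S.ρ p⁻¹ (f u)) (e u) := by
    rw [q_conj, hpv]
  rw [inv_inv] at h2
  have h3 : C.S.ρ p⁻¹ (f u) + u ∈ ln v := by
    have h4 := hpf u ((mem_perp_ln C.S).2 hu)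
    have h5 := ((TG_le_PU C.S hpi) _).2 h4
    rwa [map_add, C.S.ρ_inv_apply, add_comm] at h5
  have h4 : q C.S v (C.S.ρ p⁻¹ (f u)) (e u) = q C.S v u (e u) := by
    rcases mem_ln.1 h3 with h5 | h5
    · rw [eq_of_add _ _ h5]
    · have : C.S.ρ p⁻¹ (f u) = u + v := by rw [← h5, add_comm u, aab]
      rw [this, q_add_self C.S hu]
  rw [h4] at h2
  exact congrArg Subtype.val h2

end Cfsg.Agent.OddHalf.SpTwo
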