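import Cfsg.Agent.OddHalf.SpTwo.LongY

/-!
# The type of `y_v`

For `y = y_v` (`IsY C v y`) there are `κ ∈ F₂` and `Q : v^⊥ → F₂` with `Q (u+w) = Q u + Q w + κ (u,w)`, `Q v = 0`, and
`y b_w y = q v ((Q w + κ) w) (Q w) * b_w` for all `w ∈ v^⊥`.
-/

set_option autoImplicit false
set_option linter.unusedSimpArgs false

open scoped commutatorElement

namespace Cfsg.Agent.OddHalf.SpTwo

open Cfsg.Agent.StandardComponent.SpTwo
open Cfsg.Agent.OddHalf.SpTwoN

section Sp

variable {X V : Type*} [Group X] [AddCommGroup V] [Module (ZMod 2) V] (D : SpData X V)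

theorem q_comm_τ_perp {v a w : V} (hwv : D.B w v = 0) (haw : D.B a w = 0) (e : ZMod 2) :
    D.τ w * q D v a e = q D v a e * D.τ w := by
  have h := τ_conj_q D hwv (u := a) e
  rw [haw, zero_smul, add_zero] at h
  calc D.τ w * q D v a e = D.τ w * q D v a e * D.τ w * D.τ w := by rw [mul_assoc _ (D.τ w), D.τ_sq, mul_one]
    _ = _ := by rw [h]

theorem list_prod {v : V} {E : Submodule (ZMod 2) V} (hE : E ≤ perp D E) (hEv : ∀ x ∈ E, D.B x v = 0)
    (c r : V → ZMod 2) (l : List V) (hl : ∀ w ∈ l, w ∈ E) :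
    (l.map fun w => q D v (c w • w) (r w) * D.τ w).prod =
      q D v (l.map fun w => c w • w).sum (l.map r).sum * (l.map D.τ).prod ∧
      (l.map fun w => c w • w).sum ∈ E := by
  induction l with
  | nil =>
    constructor
    · simp [q_zero]
    · simp
  | cons w l ih =>
    obtain ⟨h1, h2⟩ := ih (fun x hx => hl x (List.mem_cons_of_mem w hx))
    have hw : w ∈ E := hl w List.mem_cons_self
    constructor
    · simp only [List.map_cons, List.prod_cons, List.sum_cons]
      rw [h1]
      have h3 : D.τ w * q D v (l.map fun w => c w • w).sum (l.map r).sum =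
          q D v (l.map fun w => c w • w).sum (l.map r).sum * D.τ w :=
        q_comm_τ_perp D (hEv w hw) (hE h2 w hw) _
      have h4 : D.B (c w • w) (l.map fun w => c w • w).sum = 0 := by
        rw [map_smul, LinearMap.smul_apply, hE hw _ h2, smul_zero]
      calc q D v (c w • w) (r w) * D.τ w * (q D v (l.map fun w => c w • w).sum (l.map r).sum *
          (l.map D.τ).prod) = q D v (c w • w) (r w) * (D.τ w * q D v (l.map fun w => c w • w).sum
            (l.map r).sum) * (l.map D.τ).prod := by simp only [mul_assoc]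
        _ = (q D v (c w • w) (r w) * q D v (l.map fun w => c w • w).sum (l.map r).sum) *
            (D.τ w * (l.map D.τ).prod) := by rw [h3]; simp only [mul_assoc]
        _ = _ := by
            rw [q_mul D (by rw [map_smul, LinearMap.smul_apply, hEv w hw, smul_zero]) (hEv _ h2), h4,
              add_zero]
    · simp only [List.map_cons, List.sum_cons]
      exact add_mem (Submodule.smul_mem _ _ hw) h2

/-- a common neighbour in `v^⊥` -/
theorem exists_neighbour [Finite V] {v w w' : V} (hw : w ∉ ln v) (hw' : w' ∉ ln v) :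
    ∃ y, D.B y v = 0 ∧ D.B w y = 1 ∧ D.B y w' = 1 := by
  obtain ⟨y1, hy1, h1⟩ := sep D hw
  obtain ⟨y2, hy2, h2⟩ := sep D hw'
  rw [mem_perp_ln] at hy1 hy2
  rcases z2 (D.B y1 w') with h3 | h3
  · rcases z2 (D.B y2 w) with h4 | h4
    · refine ⟨y1 + y2, ?_, ?_, ?_⟩
      · rw [B_add, hy1, hy2, add_zero]
      · rw [D.symm, B_add, h1, h4, add_zero]
      · rw [B_add, h2, h3, zero_add]
    · exact ⟨y2, hy2, by rw [D.symm]; exact h4, h2⟩
  · exact ⟨y1, hy1, by rw [D.symm]; exact h1, h3⟩

/-- `q v w 1 * τ w = τ (w + v)` -/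
theorem q_mul_τ {v w : V} (hw : D.B w v = 0) : q D v w 1 * D.τ w = D.τ (w + v) := by
  have h := τ_mul_τ_add D hw
  have h1 : D.τ w * D.τ (w + v) = D.τ (w + v) * D.τ w := D.τ_commute (by rw [map_add, D.alt, hw, add_zero])
  rw [← h, h1, mul_assoc, D.τ_sq, mul_one]

end Sp

variable {G V : Type*} [Group G] [AddCommGroup V] [Module (ZMod 2) V] {C : Ctx G V}
variable {v : V} {y : G}

namespace IsY

theorem inv_eq (h : IsY C v y) : y⁻¹ = y := inv_eq_of_mul_eq_one_right h.sq

theorem nrm (hv : v ≠ 0) (h : IsY C v y) : Nrm C (ln v) (C.S.τ v) y := by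
  apply nrm_ln C hv
  · rw [h.inv_eq]; exact h.conj_t
  · rw [h.comm_b, mul_inv_cancel_right]

theorem conj_q (h : IsY C v y) {u : V} (hu : C.S.B u v = 0) (e : ZMod 2) :
    y * (q C.S v u e : C.L) = (q C.S v u e : C.L) * y := by
  have h1 := h.comm u hu
  have h2 : y * (q C.S v 0 e : C.L) = (q C.S v 0 e : C.L) * y := by
    rcases z2 e with rfl | rfl
    · rw [q_zero]
      change y * (1 : G) = 1 * y
      rw [mul_one, one_mul]
    · rw [q_zero_one]; exact h.comm_b
  rw [q_split C hu e]
  change y * (((q C.S v u 0 : C.L) : G) * (q C.S v 0 e : C.L)) = ((q C.S v u 0 : C.L) : G) * (q C.S v 0 e : C.L) * y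
  rw [← mul_assoc, h1, mul_assoc, h2, mul_assoc]

/-- first form of the commutators -/
theorem exists_a (hv : v ≠ 0) (h : IsY C v y) {w : V} (hw : C.S.B w v = 0) :
    ∃ p r, C.S.B p v = 0 ∧ y * C.b w * y = ((q C.S v p r * C.S.τ w : C.L) : G) := by
  have hfinV := C.finV
  obtain ⟨a, ha, ha'⟩ := exists_q_τ hv (h.nrm hv) (fun u hu => ⟨0, by
    rw [h.comm u hu, mul_inv_cancel_right]⟩) hw
  obtain ⟨p, r, hp, rfl⟩ := mem_QU_ln C.S hv ha
  rw [h.inv_eq] at ha'
  exact ⟨p, r, hp, ha'⟩

theorem mul_conj (h : IsY C v y) (a b : G) : y * (a * b) * y = (y * a * y) * (y * b * y) := by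
  calc y * (a * b) * y = y * a * (y * y) * b * y := by rw [h.sq]; group
    _ = _ := by group

theorem exists_c (hv : v ≠ 0) (h : IsY C v y) {w : V} (hw : C.S.B w v = 0) :
    ∃ c r : ZMod 2, y * C.b w * y = ((q C.S v (c • w) r * C.S.τ w : C.L) : G) := by
  have hfinV := C.finV
  have h256 := C.cardV
  obtain ⟨p, r, hp, hpr⟩ := h.exists_a hv hw
  by_cases hwl : w ∈ ln v
  · -- trivial case
    have h1 : y * C.b w * y = C.b w := by
      rcases mem_ln.1 hwl with rfl | rfl
      · rw [C.b_zero, mul_one, h.sq]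
      · rw [h.comm_b, mul_assoc, h.sq, mul_one]
    refine ⟨0, 0, ?_⟩
    rw [h1, zero_smul, q_zero, one_mul]; rfl
  have key : ∀ z ∈ perp C.S (pl v w), z ∉ pl v w → C.S.B p z = 0 := by
    intro z hz hzn
    rw [mem_perp_pl] at hz
    obtain ⟨p', r', hp', hpr'⟩ := h.exists_a hv hz.1
    have hc : C.S.τ w * C.S.τ z = C.S.τ z * C.S.τ w := C.S.τ_commute (by rw [C.S.symm]; exact hz.2)
    have hcG : C.b w * C.b z = C.b z * C.b w := congrArg Subtype.val hc
    have h1 : (q C.S v p r * C.S.τ w) * (q C.S v p' r' * C.S.τ z) =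
        (q C.S v p' r' * C.S.τ z) * (q C.S v p r * C.S.τ w) := by
      apply Subtype.ext
      change ((q C.S v p r * C.S.τ w : C.L) : G) * ((q C.S v p' r' * C.S.τ z : C.L) : G) =
        ((q C.S v p' r' * C.S.τ z : C.L) : G) * ((q C.S v p r * C.S.τ w : C.L) : G)
      rw [← hpr, ← hpr', ← h.mul_conj, ← h.mul_conj, hcG]
    have h2 : (q C.S v p r * C.S.τ w) * (q C.S v p' r' * C.S.τ z) =
        q C.S v p r * (C.S.τ w * q C.S v p' r' * C.S.τ w) * (C.S.τ w * C.S.τ z) := by
      have : C.S.τ w * (C.S.τ w * C.S.τ z) = C.S.τ z := by rw [← mul_assoc, C.S.τ_sq, one_mul]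
      simp only [mul_assoc, this]
    have h3 : (q C.S v p' r' * C.S.τ z) * (q C.S v p r * C.S.τ w) =
        q C.S v p' r' * (C.S.τ z * q C.S v p r * C.S.τ z) * (C.S.τ w * C.S.τ z) := by
      have : C.S.τ z * (C.S.τ w * C.S.τ z) = C.S.τ w := by
        rw [hc, ← mul_assoc, C.S.τ_sq, one_mul]
      simp only [mul_assoc, this]
    rw [h2, h3, τ_conj_q C.S hw, τ_conj_q C.S hz.1] at h1
    have h4 := mul_right_cancel h1
    have e1 : C.S.B (p' + C.S.B p' w • w) v = 0 := by
      rw [B_add, map_smul, LinearMap.smul_apply, hp', hw, smul_zero, add_zero]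
    have e2 : C.S.B (p + C.S.B p z • z) v = 0 := by
      rw [B_add, map_smul, LinearMap.smul_apply, hp, hz.1, smul_zero, add_zero]
    rw [q_mul C.S hp e1, q_mul C.S hp' e2] at h4
    have h5 := (q_inj C.S hv (by rw [B_add, hp, e1, add_zero]) (by rw [B_add, hp', e2, add_zero]) h4).1
    have h6 : p + (p' + C.S.B p' w • w) + (p' + (p + C.S.B p z • z)) =
        (C.S.B p' w • w + C.S.B p z • z) + ((p + p) + (p' + p')) := by abel
    rw [h6, aa, aa, add_zero, add_zero] at h5
    rcases z2 (C.S.B p z) with h7 | h7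
    · exact h7
    · exfalso
      rw [h7, one_smul] at h5
      apply hzn
      have h8 : z = C.S.B p' w • w + (C.S.B p' w • w + z) := (aac _ _).symm
      rw [h8]
      refine add_mem (Submodule.smul_mem _ _ (right_mem_pl v w)) ?_
      rw [pl_eq]; exact Submodule.mem_sup_left h5
  have hpp : p ∈ pl v w := by
    apply mem_of_perp C.S
    intro z hz
    rw [C.S.symm]
    by_cases hzn : z ∈ pl v w
    · obtain ⟨z', hz', hzn'⟩ := room C.S h256 (A := pl v w) (A' := pl v w) (by
        have := finrank_pl_le v w; omega)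
      have h1 := key z' hz' hzn'
      have h2 := key (z + z') (add_mem hz hz') (fun h => hzn' (by
        have := add_mem hzn h
        rwa [aac] at this))
      rw [map_add, h1, add_zero] at h2
      exact h2
    · exact key z hz hzn
  rcases mem_pl.1 hpp with rfl | rfl | rfl | rfl
  · exact ⟨0, r, by rw [zero_smul]; exact hpr⟩
  · exact ⟨0, r, by rw [zero_smul, ← q_self]; exact hpr⟩
  · exact ⟨1, r, by rw [one_smul]; exact hpr⟩
  · exact ⟨1, r, by rw [one_smul, ← q_add_self C.S hw, add_comm w v]; exact hpr⟩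

/-- **The type of `y_v`** -/
theorem exists_type (hv : v ≠ 0) (h : IsY C v y) : ∃ (κ : ZMod 2) (Q : V → ZMod 2),
    (∀ w, C.S.B w v = 0 → y * C.b w * y = ((q C.S v ((Q w + κ) • w) (Q w) * C.S.τ w : C.L) : G)) ∧
    (∀ u w, C.S.B u v = 0 → C.S.B w v = 0 → Q (u + w) = Q u + Q w + κ * C.S.B u w) ∧ Q v = 0 := by
  classical
  have hfinV := C.finV
  have h256 := C.cardV
  have h0 : ∀ w, C.S.B w v = 0 → ∃ c r : ZMod 2, y * C.b w * y = ((q C.S v (c • w) r * C.S.τ w : C.L) : G) :=
    fun w hw => h.exists_c hv hw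
  choose! c r hcr using h0
  have hsm : ∀ (a : ZMod 2) w, C.S.B w v = 0 → C.S.B (a • w) v = 0 := by
    intro a w hw
    rw [map_smul, LinearMap.smul_apply, hw, smul_zero]
  -- uniqueness
  have huniq : ∀ w, C.S.B w v = 0 → w ∉ ln v → ∀ a a' b b' : ZMod 2,
      q C.S v (a • w) b = q C.S v (a' • w) b' → a = a' ∧ b = b' := by
    intro w hw hwl a a' b b' heq
    have h1 := q_inj C.S hv (hsm a w hw) (hsm a' w hw) heq
    refine ⟨?_, h1.2⟩
    rw [← add_smul] at h1
    rcases z2 (a + a') with h2 | h2
    · exact eq_of_add _ _ h2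
    · rw [h2, one_smul] at h1; exact absurd h1.1 hwl
  -- R1
  have hR1 : ∀ u w, C.S.B u v = 0 → C.S.B w v = 0 → C.S.B u w = 1 →
      c (u + w) = c u + c w ∧ r (u + w) = r w + c u := by
    intro u w hu hw huw
    have hwu : C.S.B w u = 1 := by rw [C.S.symm]; exact huw
    have huwv : C.S.B (u + w) v = 0 := by rw [B_add, hu, hw, add_zero]
    have huwl : u + w ∉ ln v := by
      intro h1
      have h2 : C.S.B u (u + w) = 0 := (mem_perp_ln C.S).2 hu _ h1
      rw [map_add, C.S.alt, zero_add, huw] at h2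
      exact one_ne_zero h2
    have hτ : C.S.τ (u + w) = C.S.τ u * C.S.τ w * C.S.τ u := by
      rw [τ_conj, hwu, one_smul, add_comm]
    have e1 : y * C.b (u + w) * y = (y * C.b u * y) * (y * C.b w * y) * (y * C.b u * y) := by
      have : C.b (u + w) = C.b u * C.b w * C.b u := congrArg Subtype.val hτ
      rw [this, h.mul_conj, h.mul_conj]
    rw [hcr _ huwv, hcr u hu, hcr w hw] at e1
    have e2 : q C.S v (c (u + w) • (u + w)) (r (u + w)) * C.S.τ (u + w) =
        (q C.S v (c u • u) (r u) * C.S.τ u) * (q C.S v (c w • w) (r w) * C.S.τ w) *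
          (q C.S v (c u • u) (r u) * C.S.τ u) := Subtype.ext e1
    have e3 : (q C.S v (c u • u) (r u) * C.S.τ u) * (q C.S v (c w • w) (r w) * C.S.τ w) *
          (q C.S v (c u • u) (r u) * C.S.τ u) = q C.S v (c u • u) (r u) *
          (C.S.τ u * q C.S v (c w • w) (r w) * C.S.τ u) *
          (C.S.τ u * (C.S.τ w * q C.S v (c u • u) (r u) * C.S.τ w) * C.S.τ u) *
          (C.S.τ u * C.S.τ w * C.S.τ u) := by
      have a1 : ∀ x, C.S.τ u * (C.S.τ u * x) = x := fun x => by rw [← mul_assoc, C.S.τ_sq, one_mul]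
      have a2 : ∀ x, C.S.τ w * (C.S.τ w * x) = x := fun x => by rw [← mul_assoc, C.S.τ_sq, one_mul]
      simp only [mul_assoc, a1, a2]
    have e4 : C.S.B (u + C.S.B u w • w) v = 0 := by rw [huw, one_smul]; exact huwv
    have b1 : C.S.B (c w • w) u = c w := by rw [map_smul, LinearMap.smul_apply, hwu, smul_eq_mul, mul_one]
    have b2 : C.S.B (c u • u) w = c u := by rw [map_smul, LinearMap.smul_apply, huw, smul_eq_mul, mul_one]
    have b3 : C.S.B (c u • u + c u • w) u = c u := by
      rw [B_add, map_smul, LinearMap.smul_apply, map_smul, LinearMap.smul_apply, C.S.alt, hwu, smul_zero,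
        zero_add, smul_eq_mul, mul_one]
    rw [e3, hτ, τ_conj_q C.S hu, τ_conj_q C.S hw, τ_conj_q C.S hu, b1, b2, b3] at e2
    have e5 := mul_right_cancel e2
    have v1 : C.S.B (c w • w + c w • u) v = 0 := by
      rw [B_add, hsm _ _ hw, hsm _ _ hu, add_zero]
    have v2 : C.S.B (c u • u + c u • w + c u • u) v = 0 := by
      rw [B_add, B_add, hsm _ _ hw, hsm _ _ hu, add_zero, add_zero]
    rw [q_mul C.S (hsm _ _ hu) v1, q_mul C.S (by rw [B_add, hsm _ _ hu, v1, add_zero]) v2] at e5
    have e6 : c u • u + (c w • w + c w • u) + (c u • u + c u • w + c u • u) = (c u + c w) • (u + w) := by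
      rw [add_smul, smul_add, smul_add]
      have : c u • u + (c w • w + c w • u) + (c u • u + c u • w + c u • u) =
        c u • u + c u • w + (c w • u + c w • w) + (c u • u + c u • u) := by abel
      rw [this, aa, add_zero]
    rw [e6] at e5
    obtain ⟨e7, e8⟩ := huniq _ huwv huwl _ _ _ _ e5
    refine ⟨e7, ?_⟩
    rw [e8]
    simp only [map_add, LinearMap.add_apply, map_smul, LinearMap.smul_apply, smul_eq_mul, C.S.alt, huw, hwu]
    generalize c u = a1
    generalize c w = a2
    generalize r u = a3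
    generalize r w = a4
    revert a1 a2 a3 a4
    decide
  -- `κ`
  obtain ⟨w0, hw0, hw0l⟩ := room C.S h256 (A := ln v) (A' := ln v) (by
    have := finrank_ln_le v; omega)
  rw [mem_perp_ln] at hw0
  set κ := c w0 + r w0 with hκ
  have hκ1 : ∀ u w, C.S.B u v = 0 → C.S.B w v = 0 → C.S.B u w = 1 → c u + r u = c w + r w := by
    intro u w hu hw huw
    have h1 := (hR1 u w hu hw huw).2
    have h2 := (hR1 w u hw hu (by rw [C.S.symm]; exact huw)).2
    rw [add_comm w u, h1] at h2
    revert h2
    generalize c u = a1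
    generalize c w = a2
    generalize r u = a3
    generalize r w = a4
    revert a1 a2 a3 a4
    decide
  have hκ2 : ∀ w, C.S.B w v = 0 → w ∉ ln v → c w + r w = κ := by
    intro w hw hwl
    obtain ⟨a, ha, ha1, ha2⟩ := exists_neighbour C.S hwl hw0l
    rw [hκ1 w a hw ha ha1, hκ1 a w0 ha hw0 ha2]
  -- R3
  have hR3 : ∀ w, C.S.B w v = 0 → w ∉ ln v → c (w + v) = c w ∧ r (w + v) = r w := by
    intro w hw hwl
    have hwv : C.S.B (w + v) v = 0 := by rw [B_add, hw, C.S.alt, add_zero]
    have h1 := q_mul_τ C.S hw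
    have h1' : C.b (w + v) = ((q C.S v w 1 : C.L) : G) * C.b w := congrArg Subtype.val h1.symm
    have h2 : y * C.b (w + v) * y = ((q C.S v w 1 : C.L) : G) * (y * C.b w * y) := by
      rw [h1']
      calc y * (((q C.S v w 1 : C.L) : G) * C.b w) * y = (y * (q C.S v w 1 : C.L)) * C.b w * y := by group
        _ = _ := by rw [h.conj_q hw 1]; group
    rw [hcr _ hwv, hcr _ hw] at h2
    have h3 : q C.S v (c (w + v) • (w + v)) (r (w + v)) * C.S.τ (w + v) =
        q C.S v w 1 * (q C.S v (c w • w) (r w) * C.S.τ w) := Subtype.ext h2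
    have h4 : q C.S v w 1 * (q C.S v (c w • w) (r w) * C.S.τ w) = q C.S v (c w • w) (r w) * C.S.τ (w + v) := by
      rw [← mul_assoc, q_comm C.S hw (hsm _ _ hw), mul_assoc, h1]
    rw [h4] at h3
    have h5 := mul_right_cancel h3
    have h6 : q C.S v (c (w + v) • (w + v)) (r (w + v)) = q C.S v (c (w + v) • w) (r (w + v)) := by
      rcases z2 (c (w + v)) with h7 | h7
      · rw [h7, zero_smul, zero_smul]
      · rw [h7, one_smul, one_smul, q_add_self C.S hw]
    rw [h6] at h5
    exact huniq w hw hwl _ _ _ _ h5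
  -- R2
  have hR2 : ∀ u w, C.S.B u v = 0 → C.S.B w v = 0 → C.S.B u w = 0 → u ∉ ln v → w ∉ pl v u →
      c (u + w) = c u + c w + κ := by
    intro u w hu hw huw hul hwl
    obtain ⟨x, hx, hxn⟩ := room C.S h256 (A := pl v u ⊔ ln w) (A' := pl v u ⊔ ln w) (by
      have := finrank_pl_le v u
      have := finrank_sup_ln_le (pl v u) w
      omega)
    rw [mem_perp_sup, mem_perp_pl, mem_perp_ln] at hx
    set E : Submodule (ZMod 2) V := (ln u ⊔ ln w) ⊔ ln x with hE
    have huE : u ∈ E := Submodule.mem_sup_left (Submodule.mem_sup_left (self_mem_ln u))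
    have hwE : w ∈ E := Submodule.mem_sup_left (Submodule.mem_sup_right (self_mem_ln w))
    have hxE : x ∈ E := Submodule.mem_sup_right (self_mem_ln x)
    have hmemE : ∀ z, z ∈ perp C.S E ↔ C.S.B z u = 0 ∧ C.S.B z w = 0 ∧ C.S.B z x = 0 := by
      intro z
      rw [hE, mem_perp_sup, mem_perp_sup, mem_perp_ln, mem_perp_ln, mem_perp_ln, and_assoc]
    have hEt : E ≤ perp C.S E := by
      have hxu : C.S.B x u = 0 := hx.1.2
      have hxw : C.S.B x w = 0 := hx.2
      have hux : C.S.B u x = 0 := by rw [C.S.symm]; exact hxu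
      have hwx : C.S.B w x = 0 := by rw [C.S.symm]; exact hxw
      have hwu : C.S.B w u = 0 := by rw [C.S.symm]; exact huw
      refine sup_le (sup_le ?_ ?_) ?_ <;> (intro z hz; rw [hmemE])
      · rcases mem_ln.1 hz with rfl | rfl
        · simp
        · exact ⟨C.S.alt _, huw, hux⟩
      · rcases mem_ln.1 hz with rfl | rfl
        · simp
        · exact ⟨hwu, C.S.alt _, hwx⟩
      · rcases mem_ln.1 hz with rfl | rfl
        · simp
        · exact ⟨hxu, hxw, C.S.alt _⟩
    have hEv : ∀ z ∈ E, C.S.B z v = 0 := by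
      have h1 : E ≤ perp C.S (ln v) := by
        refine sup_le (sup_le ?_ ?_) ?_ <;> (intro z hz; rw [mem_perp_ln])
        · rcases mem_ln.1 hz with rfl | rfl
          · simp
          · exact hu
        · rcases mem_ln.1 hz with rfl | rfl
          · simp
          · exact hw
        · rcases mem_ln.1 hz with rfl | rfl
          · simp
          · exact hx.1.1
      intro z hz
      exact (mem_perp_ln C.S).1 (h1 hz)
    let l : List V := [u, w, x, u + w, u + x, w + x, u + w + x]
    have hl : ∀ z ∈ l, z ∈ E := by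
      intro z hz
      simp only [l, List.mem_cons, List.not_mem_nil, or_false] at hz
      rcases hz with rfl | rfl | rfl | rfl | rfl | rfl | rfl
      · exact huE
      · exact hwE
      · exact hxE
      · exact add_mem huE hwE
      · exact add_mem huE hxE
      · exact add_mem hwE hxE
      · exact add_mem (add_mem huE hwE) hxE
    obtain ⟨h1, h2⟩ := list_prod C.S hEt hEv c r l hl
    have h7 : (l.map C.S.τ).prod = 1 := by
      have := seven C.S huw (hEt huE x hxE) (hEt hwE x hxE)
      simp only [l, List.map_cons, List.map_nil, List.prod_cons, List.prod_nil, mul_one]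
      rw [← this]
      simp only [mul_assoc]
    -- the product is trivial
    have h8 : ∀ l' : List V, (∀ z ∈ l', C.S.B z v = 0) →
        y * ((l'.map C.S.τ).prod : C.L) * y =
          ((l'.map fun w => q C.S v (c w • w) (r w) * C.S.τ w).prod : C.L) := by
      intro l'
      induction l' with
      | nil =>
        intro _
        simp only [List.map_nil, List.prod_nil]
        change y * (1 : G) * y = 1
        rw [mul_one, h.sq]
      | cons z l' ih =>
        intro hz
        have h9 := ih (fun a ha => hz a (List.mem_cons_of_mem z ha))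
        simp only [List.map_cons, List.prod_cons]
        have h10 := hcr z (hz z List.mem_cons_self)
        change y * (((C.S.τ z : C.L) : G) * ((l'.map C.S.τ).prod : C.L)) * y =
          ((q C.S v (c z • z) (r z) * C.S.τ z : C.L) : G) *
            ((l'.map fun w => q C.S v (c w • w) (r w) * C.S.τ w).prod : C.L)
        rw [h.mul_conj, h9, ← h10]; rfl
    have h9 := h8 l (fun z hz => hEv z (hl z hz))
    rw [h7, h1, h7, mul_one] at h9
    have h10 : q C.S v (l.map fun w => c w • w).sum (l.map r).sum = q C.S v 0 0 := by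
      rw [q_zero]
      apply Subtype.ext
      change _ = (1 : G)
      rw [← h9]
      change y * (1 : G) * y = 1
      rw [mul_one, h.sq]
    obtain ⟨h11, h12⟩ := q_inj C.S hv (hEv _ h2) (B_zero C.S v) h10
    rw [add_zero] at h11
    -- pair with a vector orthogonal to `v, u, w`
    obtain ⟨f, hf, hfx⟩ := sep C.S hxn
    rw [mem_perp_sup, mem_perp_pl, mem_perp_ln] at hf
    have h13 : C.S.B f (l.map fun w => c w • w).sum = 0 := (mem_perp_ln C.S).2 hf.1.1 _ h11
    simp only [l, List.map_cons, List.map_nil, List.sum_cons, List.sum_nil, add_zero, map_add, map_smul,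
      smul_eq_mul, hf.1.2, hf.2, hfx, mul_zero, mul_one, zero_add] at h13
    simp only [l, List.map_cons, List.map_nil, List.sum_cons, List.sum_nil, add_zero] at h12
    have hxl : ∀ z ∈ pl v u ⊔ ln w, z + x ∉ ln v := by
      intro z hz h
      apply hxn
      have h1 : x = z + (z + x) := (aac _ _).symm
      rw [h1]
      exact add_mem hz (Submodule.mem_sup_left (by rw [pl_eq]; exact Submodule.mem_sup_left h))
    have hu' : u ∈ pl v u ⊔ ln w := Submodule.mem_sup_left (right_mem_pl v u)
    have hw' : w ∈ pl v u ⊔ ln w := Submodule.mem_sup_right (self_mem_ln w)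
    have k1 := hκ2 u hu hul
    have k2 := hκ2 w hw (fun h => hwl (by rw [pl_eq]; exact Submodule.mem_sup_left h))
    have k3 := hκ2 x hx.1.1 (by have := hxl 0 (zero_mem _); rwa [zero_add] at this)
    have k4 := hκ2 (u + w) (hEv _ (add_mem huE hwE)) (fun h => hwl (by
      have h1 : w = u + (u + w) := (aac _ _).symm
      rw [h1]
      refine add_mem (right_mem_pl v u) ?_
      rw [pl_eq]; exact Submodule.mem_sup_left h))
    have k5 := hκ2 (u + x) (hEv _ (add_mem huE hxE)) (hxl u hu')
    have k6 := hκ2 (w + x) (hEv _ (add_mem hwE hxE)) (hxl w hw')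
    have k7 := hκ2 (u + w + x) (hEv _ (add_mem (add_mem huE hwE) hxE)) (hxl _ (add_mem hu' hw'))
    have kk : ∀ a b k : ZMod 2, a + b = k → b = a + k := by decide
    rw [kk _ _ _ k1, kk _ _ _ k2, kk _ _ _ k3, kk _ _ _ k4, kk _ _ _ k5, kk _ _ _ k6, kk _ _ _ k7] at h12
    have fin : ∀ (κ a1 a2 a3 a4 a5 a6 a7 : ZMod 2), a3 + (a5 + (a6 + a7)) = 0 →
        a1 + κ + (a2 + κ + (a3 + κ + (a4 + κ + (a5 + κ + (a6 + κ + (a7 + κ)))))) = 0 →
        a4 = a1 + a2 + κ := by decide
    exact fin _ _ _ _ _ _ _ _ h13 h12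
  -- the quadratic function
  let Q : V → ZMod 2 := fun w => if w ∈ ln v then 0 else r w
  have hQ0 : ∀ w ∈ ln v, Q w = 0 := fun w hw => if_pos hw
  have hQ1 : ∀ w, w ∉ ln v → Q w = r w := fun w hw => if_neg hw
  refine ⟨κ, Q, ?_, ?_, hQ0 v (self_mem_ln v)⟩
  · intro w hw
    by_cases hwl : w ∈ ln v
    · rw [hQ0 w hwl]
      have h1 : y * C.b w * y = C.b w := by
        rcases mem_ln.1 hwl with rfl | rfl
        · rw [C.b_zero, mul_one, h.sq]
        · rw [h.comm_b, mul_assoc, h.sq, mul_one]
      have h2 : q C.S v ((0 + κ) • w) 0 = 1 := by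
        rw [q_ln C (Submodule.smul_mem _ _ hwl), q_zero]
      rw [h1, h2, one_mul]; rfl
    · have h1 := hκ2 w hw hwl
      rw [hQ1 w hwl, hcr w hw]
      have h2 : r w + κ = c w := by
        rw [← h1]
        generalize c w = a1
        generalize r w = a2
        revert a1 a2
        decide
      rw [h2]
  · intro u w hu hw
    have hsum : ∀ a b : ZMod 2, a + b + b = a := by decide
    by_cases hul : u ∈ ln v
    · have hB : C.S.B u w = 0 := by rw [C.S.symm]; exact (mem_perp_ln C.S).2 hw u hul
      rw [hQ0 u hul, hB, mul_zero, add_zero, zero_add]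
      rcases mem_ln.1 hul with rfl | rfl
      · rw [zero_add]
      · by_cases hwl : w ∈ ln u
        · rw [hQ0 w hwl, hQ0 _ (add_mem hul hwl)]
        · have : u + w ∉ ln u := fun h => hwl (by
            have := add_mem hul h
            rwa [aac] at this)
          rw [hQ1 w hwl, hQ1 _ this, add_comm u w]
          exact (hR3 w hw hwl).2
    · by_cases hwl : w ∈ ln v
      · have hB : C.S.B u w = 0 := (mem_perp_ln C.S).2 hu w hwl
        rw [hQ0 w hwl, hB, mul_zero, add_zero, add_zero]
        rcases mem_ln.1 hwl with rfl | rfl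
        · rw [add_zero]
        · have : u + w ∉ ln w := fun h => hul (by
            have := add_mem h hwl
            rwa [aab] at this)
          rw [hQ1 u hul, hQ1 _ this]
          exact (hR3 u hu hul).2
      · rcases z2 (C.S.B u w) with hB | hB
        · by_cases hwp : w ∈ pl v u
          · rcases mem_pl.1 hwp with h1 | h1 | h1 | h1
            · exact absurd (h1 ▸ zero_mem _) hwl
            · exact absurd (h1 ▸ self_mem_ln v) hwl
            · rw [h1, aa, hQ0 0 (zero_mem _), C.S.alt, mul_zero, add_zero, z2_add]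
            · have h2 : u + w = v := by rw [h1, add_comm v u, aac]
              have h3 : Q w = Q u := by
                rw [hQ1 w hwl, hQ1 u hul, h1, add_comm v u]
                exact (hR3 u hu hul).2
              rw [h2, hQ0 v (self_mem_ln v), h3, hB, mul_zero, add_zero, z2_add]
          · have huwl : u + w ∉ ln v := fun h => hwp (by
              have h1 : w = u + (u + w) := (aac _ _).symm
              rw [h1]
              refine add_mem (right_mem_pl v u) ?_
              rw [pl_eq]; exact Submodule.mem_sup_left h)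
            have h1 := hR2 u w hu hw hB hul hwp
            have h2 := hκ2 u hu hul
            have h3 := hκ2 w hw hwl
            have h4 := hκ2 (u + w) (by rw [B_add, hu, hw, add_zero]) huwl
            rw [hQ1 u hul, hQ1 w hwl, hQ1 _ huwl, hB, mul_zero, add_zero]
            rw [h1] at h4
            have fin : ∀ (κ a1 a2 a3 a4 a5 : ZMod 2), a1 + a3 = κ → a2 + a4 = κ → a1 + a2 + κ + a5 = κ →
                a5 = a3 + a4 := by decide
            exact fin _ _ _ _ _ _ h2 h3 h4
        · have huwl : u + w ∉ ln v := by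
            intro h1
            have h2 : C.S.B u (u + w) = 0 := (mem_perp_ln C.S).2 hu _ h1
            rw [map_add, C.S.alt, zero_add, hB] at h2
            exact one_ne_zero h2
          have h1 := (hR1 u w hu hw hB).2
          have h2 := hκ2 u hu hul
          rw [hQ1 u hul, hQ1 w hwl, hQ1 _ huwl, hB, mul_one, h1, ← h2]
          generalize c u = a1
          generalize r u = a3
          generalize r w = a4
          revert a1 a3 a4
          decide

end IsY

end Cfsg.Agent.OddHalf.SpTwo
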