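import Cfsg.Agent.OddHalf.SpTwo.Long

/-!
# Existence of `y_v` (long roots), second part
-/

set_option autoImplicit false
set_option linter.unusedSimpArgs false

open scoped commutatorElement

namespace Cfsg.Agent.OddHalf.SpTwo

open Cfsg.Agent.StandardComponent.SpTwo
open Cfsg.Agent.OddHalf.SpTwoN

variable {G V : Type*} [Group G] [AddCommGroup V] [Module (ZMod 2) V] {C : Ctx G V}
variable {v : V} {g : G}

/-- `q v u e = q v u 0 * q v 0 e` -/
theorem q_split (C : Ctx G V) {v u : V} (hu : C.S.B u v = 0) (e : ZMod 2) :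
    q C.S v u e = q C.S v u 0 * q C.S v 0 e := by
  rw [q_mul C.S hu (B_zero C.S v), map_zero]; simp

/-- if `g` is trivial on `Q_v / b_v`, then `g m g⁻¹ m⁻¹ ∈ ⟨t⟩ Q_v` for `m` in the stabilizer -/
theorem exists_q (hv : v ≠ 0) (H : Nrm C (ln v) (C.S.τ v) g)
    (hq : ∀ u, C.S.B u v = 0 → ∃ e : ZMod 2, g * (q C.S v u 0 : C.L) * g⁻¹ = (q C.S v u e : C.L))
    {m : C.L} (hm : m ∈ PU C.S (ln v)) :
    ∃ a ∈ QU C.S (ln v), g * m * g⁻¹ = ((a * m : C.L) : G) ∨ g * m * g⁻¹ = C.t * ((a * m : C.L) : G) := by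
  have hfinV := C.finV
  obtain ⟨y, hy, hy'⟩ := H.exists_PU hm
  have hyv := (mem_PU_ln C.S hv).1 hy
  have hmv := (mem_PU_ln C.S hv).1 hm
  have hqe : ∀ u, C.S.B u v = 0 → ∀ c : ZMod 2, ∃ e : ZMod 2,
      g * (q C.S v u c : C.L) * g⁻¹ = (q C.S v u e : C.L) := by
    intro u hu c
    obtain ⟨e, he⟩ := hq u hu
    refine ⟨e + c, ?_⟩
    have h2 : q C.S v u (e + c) = q C.S v u e * q C.S v 0 c := by
      rw [q_mul C.S hu (B_zero C.S v), map_zero]; simp
    rw [q_split C hu c, h2]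
    have e2 := q_zero_conj H c
    calc g * (((q C.S v u 0 : C.L) : G) * (q C.S v 0 c : C.L)) * g⁻¹ =
        (g * (q C.S v u 0 : C.L) * g⁻¹) * (g * (q C.S v 0 c : C.L) * g⁻¹) := by group
      _ = _ := by rw [he, e2]; rfl
  have hqi : ∀ u, C.S.B u v = 0 → ∃ e : ZMod 2, g⁻¹ * (q C.S v u 0 : C.L) * g = (q C.S v u e : C.L) := by
    intro u hu
    obtain ⟨e, he⟩ := hq u hu
    refine ⟨e, ?_⟩
    have h2 : q C.S v u 0 = q C.S v u e * q C.S v 0 e := by
      rw [q_mul C.S hu (B_zero C.S v), map_zero, z2_add]; simp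
    have e2 := q_zero_conj H.inv e
    rw [inv_inv] at e2
    have e3 : g⁻¹ * (q C.S v u e : C.L) * g = (q C.S v u 0 : C.L) := by rw [← he]; group
    have h4 : q C.S v u e = q C.S v u 0 * q C.S v 0 e := q_split C hu e
    calc g⁻¹ * ((q C.S v u 0 : C.L) : G) * g = g⁻¹ * (((q C.S v u e : C.L) : G) * (q C.S v 0 e : C.L)) * g := by
          nth_rewrite 1 [h2]; rfl
      _ = (g⁻¹ * (q C.S v u e : C.L) * g) * (g⁻¹ * (q C.S v 0 e : C.L) * g) := by group
      _ = ((q C.S v u 0 * q C.S v 0 e : C.L) : G) := by rw [e3, e2]; rfl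
      _ = _ := by rw [← h4]
  have hmem : y * m⁻¹ ∈ QU C.S (ln v) := by
    constructor
    · intro u hu
      rcases mem_ln.1 hu with rfl | rfl
      · exact map_zero _
      · rw [C.S.ρ_mul, ← hmv, C.S.ρ_inv_apply, hmv, hyv]
    · intro x hx
      have hmi : m⁻¹ ∈ PU C.S (ln v) := inv_mem hm
      set u := C.S.ρ m⁻¹ x with hu
      have huP : C.S.B u v = 0 := (mem_perp_ln C.S).1 (PU_perp C.S hmi hx)
      have hmu : C.S.ρ m u = x := C.S.ρ_apply_inv m x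
      have h1 : (y * q C.S v u 0 * y⁻¹ : C.L) = q C.S v (C.S.ρ y u) 0 := by rw [q_conj, hyv]
      have h2 := conj_lift C hy' (q C.S v u 0)
      rw [h1] at h2
      obtain ⟨e1, he1⟩ := hqi u huP
      have hmq : m * q C.S v u e1 * m⁻¹ = q C.S v x e1 := by rw [q_conj, hmv, hmu]
      have hmq' : (m : G) * (q C.S v u e1 : C.L) * (m : G)⁻¹ = (q C.S v x e1 : C.L) := congrArg Subtype.val hmq
      have hxv : C.S.B x v = 0 := (mem_perp_ln C.S).1 hx
      obtain ⟨e2, he2⟩ := hqe x hxv e1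
      have h3 : g * (m : G) * g⁻¹ * (q C.S v u 0 : C.L) * (g * (m : G) * g⁻¹)⁻¹ = (q C.S v x e2 : C.L) := by
        calc g * (m : G) * g⁻¹ * (q C.S v u 0 : C.L) * (g * (m : G) * g⁻¹)⁻¹ =
            g * (m * (g⁻¹ * (q C.S v u 0 : C.L) * g) * (m : G)⁻¹) * g⁻¹ := by group
          _ = _ := by rw [he1, hmq', he2]
      rw [h3] at h2
      have h4 := (q_inj C.S hv hxv (by rw [← hyv, C.S.inv]; exact huP) (Subtype.ext h2)).1
      rw [C.S.ρ_mul, add_comm]; exact h4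
  refine ⟨y * m⁻¹, hmem, ?_⟩
  rw [inv_mul_cancel_right]
  exact hy'

theorem commute_q (hv : v ≠ 0) (H : Nrm C (ln v) (C.S.τ v) g)
    (hq : ∀ u, C.S.B u v = 0 → ∃ e : ZMod 2, g * (q C.S v u 0 : C.L) * g⁻¹ = (q C.S v u e : C.L))
    {u : V} (hu : C.S.B u v = 0) (e : ZMod 2) : g * (q C.S v u e : C.L) * g⁻¹ = (q C.S v u e : C.L) := by
  have hfinV := C.finV
  by_cases hul : u ∈ ln v
  · rw [q_ln C hul]; exact q_zero_conj H e
  · obtain ⟨w, hw, hwu⟩ := sep C.S hul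
    rw [mem_perp_ln] at hw
    -- `q v u 1 = [q v w 0, τ u]`
    have h1 : q C.S v u 1 = q C.S v w 0 * (C.S.τ u * q C.S v w 0 * (C.S.τ u)⁻¹) := by
      have := q_comm_τ C.S hu hw (0 : ZMod 2)
      rw [hwu, one_smul] at this
      rw [← this, C.S.τ_inv]; simp only [mul_assoc]
    obtain ⟨c, hc⟩ := hq w hw
    obtain ⟨a, ha, ha'⟩ := exists_q hv H hq (τ_mem_PU C.S ((mem_perp_ln C.S).2 hu))
    have h2 := conj_lift C ha' (q C.S v w c)
    obtain ⟨a', a'', ha1, rfl⟩ := mem_QU_ln C.S hv ha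
    have h3 : q C.S v a' a'' * C.S.τ u * q C.S v w c * (q C.S v a' a'' * C.S.τ u)⁻¹ = q C.S v (w + u) c := by
      have e1 : q C.S v a' a'' * C.S.τ u * q C.S v w c * (q C.S v a' a'' * C.S.τ u)⁻¹ =
          q C.S v a' a'' * (C.S.τ u * q C.S v w c * (C.S.τ u)⁻¹) * (q C.S v a' a'')⁻¹ := by group
      rw [e1, C.S.τ_inv, τ_conj_q C.S hu, hwu, one_smul,
        q_comm C.S ha1 (by rw [B_add, hw, hu, add_zero]), mul_inv_cancel_right]
    rw [h3] at h2
    have h4 : g * (q C.S v u 1 : C.L) * g⁻¹ = (q C.S v u 1 : C.L) := by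
      have e1 : q C.S v w c * q C.S v (w + u) c = q C.S v u 1 := by
        rw [q_mul C.S hw (by rw [B_add, hw, hu, add_zero]), aac, z2_add, zero_add, map_add, C.S.alt, zero_add,
          hwu]
      nth_rewrite 1 [h1]
      calc g * (((q C.S v w 0 : C.L) : G) * (((C.S.τ u : C.L) : G) * (q C.S v w 0 : C.L) *
          ((C.S.τ u : C.L) : G)⁻¹)) * g⁻¹ = (g * (q C.S v w 0 : C.L) * g⁻¹) *
            (g * ((C.S.τ u : C.L) : G) * g⁻¹ * (g * (q C.S v w 0 : C.L) * g⁻¹) *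
              (g * ((C.S.τ u : C.L) : G) * g⁻¹)⁻¹) := by group
        _ = ((q C.S v w c * q C.S v (w + u) c : C.L) : G) := by rw [hc, h2]; rfl
        _ = _ := by rw [e1]
    have h5 : q C.S v u e = q C.S v u 1 * q C.S v 0 (1 + e) := by
      rw [q_mul C.S hu (B_zero C.S v), map_zero]
      simp only [add_zero]
      rw [z2_add']
    have e2 := q_zero_conj H (1 + e)
    rw [h5]
    calc g * (((q C.S v u 1 : C.L) : G) * (q C.S v 0 (1 + e) : C.L)) * g⁻¹ =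
        (g * (q C.S v u 1 : C.L) * g⁻¹) * (g * (q C.S v 0 (1 + e) : C.L) * g⁻¹) := by group
      _ = _ := by rw [h4, e2]; rfl

/-- a t.i. triple in `v^⊥` -/
theorem exists_triple (C : Ctx G V) (v w : V) :
    ∃ b c, C.S.B b v = 0 ∧ C.S.B c v = 0 ∧ C.S.B w b = 0 ∧ C.S.B w c = 0 ∧ C.S.B b c = 0 ∧
      b ∉ pl v w ∧ c ∉ pl v w ⊔ ln b := by
  have hfinV := C.finV
  have h256 := C.cardV
  obtain ⟨b, hb, hb'⟩ := room C.S h256 (A := pl v w) (A' := pl v w) (by
    have := finrank_pl_le v w; omega)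
  obtain ⟨c, hc, hc'⟩ := room C.S h256 (A := pl v w ⊔ ln b) (A' := pl v w ⊔ ln b) (by
    have := finrank_pl_le v w
    have := finrank_sup_ln_le (pl v w) b
    omega)
  rw [mem_perp_sup, mem_perp_pl, mem_perp_ln] at hc
  rw [mem_perp_pl] at hb
  refine ⟨b, c, hb.1, hc.1.1, by rw [C.S.symm]; exact hb.2, by rw [C.S.symm]; exact hc.1.2,
    by rw [C.S.symm]; exact hc.2, hb', hc'⟩

/-- no `t` in the commutators with the transvections of `v^⊥` -/
theorem exists_q_τ (hv : v ≠ 0) (H : Nrm C (ln v) (C.S.τ v) g)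
    (hq : ∀ u, C.S.B u v = 0 → ∃ e : ZMod 2, g * (q C.S v u 0 : C.L) * g⁻¹ = (q C.S v u e : C.L))
    {w : V} (hw : C.S.B w v = 0) :
    ∃ a ∈ QU C.S (ln v), g * (C.S.τ w : C.L) * g⁻¹ = ((a * C.S.τ w : C.L) : G) := by
  have hfinV := C.finV
  by_cases hwl : w ∈ ln v
  · refine ⟨1, one_mem _, ?_⟩
    rw [one_mul]
    rcases mem_ln.1 hwl with rfl | rfl
    · rw [C.S.τ_zero]
      change g * (1 : G) * g⁻¹ = 1
      group
    · exact H.hz
  obtain ⟨a, ha, ha'⟩ := exists_q hv H hq (τ_mem_PU C.S ((mem_perp_ln C.S).2 hw))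
  rcases ha' with ha' | ha'
  · exact ⟨a, ha, ha'⟩
  exfalso
  -- the `t`-part is constant
  have key : ∀ w', C.S.B w' v = 0 → w' ∉ ln v → ∃ y : C.L, g * (C.S.τ w' : C.L) * g⁻¹ = C.t * (y : G) := by
    intro w' hw' hwl'
    obtain ⟨k, hkv, hkw, hk⟩ := trans_vec_perp C.S hwl hwl' hw hw'
    obtain ⟨b, hb, hb'⟩ := exists_q hv H hq (TG_le_PU C.S hk)
    have h1 : k * C.S.τ w * k⁻¹ = C.S.τ w' := by rw [C.S.conj_τ, hkw]
    have h1' : (k : G) * (C.S.τ w : C.L) * (k : G)⁻¹ = (C.S.τ w' : C.L) := congrArg Subtype.val h1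
    have h2 := conj_lift C hb' (a * C.S.τ w)
    refine ⟨b * k * (a * C.S.τ w) * (b * k)⁻¹, ?_⟩
    rw [← h2]
    have h3 : g * (k : G) * g⁻¹ * C.t * (g * (k : G) * g⁻¹)⁻¹ = C.t := by
      have h4 : g * (k : G) * g⁻¹ ∈ TX C ⊤ := ⟨b * k, Subgroup.mem_top _, hb'⟩
      rw [TX_comm_t C h4]; group
    calc g * ((C.S.τ w' : C.L) : G) * g⁻¹ = g * ((k : G) * (C.S.τ w : C.L) * (k : G)⁻¹) * g⁻¹ := by rw [h1']
      _ = g * (k : G) * g⁻¹ * (g * (C.S.τ w : C.L) * g⁻¹) * (g * (k : G) * g⁻¹)⁻¹ := by group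
      _ = g * (k : G) * g⁻¹ * (C.t * ((a * C.S.τ w : C.L) : G)) * (g * (k : G) * g⁻¹)⁻¹ := by rw [ha']
      _ = (g * (k : G) * g⁻¹ * C.t * (g * (k : G) * g⁻¹)⁻¹) *
          (g * (k : G) * g⁻¹ * ((a * C.S.τ w : C.L) : G) * (g * (k : G) * g⁻¹)⁻¹) := by group
      _ = _ := by rw [h3]
  obtain ⟨b, c, hbv, hcv, hwb, hwc, hbc, hb, hc⟩ := exists_triple C v w
  have h7 := seven C.S hwb hwc hbc
  have hln : ∀ x, x ∉ pl v w → x ∉ ln v := fun x hx h => hx (by rw [pl_eq]; exact Submodule.mem_sup_left h)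
  have hwlp : w ∈ pl v w := right_mem_pl v w
  have hcs : ∀ x, x ∈ pl v w ⊔ ln b → x + c ∉ ln v := by
    intro x hx h
    apply hc
    have h1 : c = x + (x + c) := (aac _ _).symm
    rw [h1]
    exact add_mem hx (Submodule.mem_sup_left (by rw [pl_eq]; exact Submodule.mem_sup_left h))
  have hb0 : b ∈ pl v w ⊔ ln b := Submodule.mem_sup_right (self_mem_ln b)
  have hw0 : w ∈ pl v w ⊔ ln b := Submodule.mem_sup_left hwlp
  obtain ⟨y1, e1⟩ := key w hw hwl
  obtain ⟨y2, e2⟩ := key b hbv (hln b hb)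
  obtain ⟨y3, e3⟩ := key c hcv (by have := hcs 0 (zero_mem _); rwa [zero_add] at this)
  obtain ⟨y4, e4⟩ := key (w + b) (by rw [B_add, hw, hbv, add_zero]) (hln _ (fun h => hb (by
    have := add_mem hwlp h
    rwa [aac] at this)))
  obtain ⟨y5, e5⟩ := key (w + c) (by rw [B_add, hw, hcv, add_zero]) (hcs w hw0)
  obtain ⟨y6, e6⟩ := key (b + c) (by rw [B_add, hbv, hcv, add_zero]) (hcs b hb0)
  obtain ⟨y7, e7⟩ := key (w + b + c) (by rw [B_add, B_add, hw, hbv, hcv, add_zero, add_zero])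
    (hcs _ (add_mem hw0 hb0))
  have h7' : ((C.S.τ w : C.L) : G) * (C.S.τ b : C.L) * (C.S.τ c : C.L) * (C.S.τ (w + b) : C.L) *
      (C.S.τ (w + c) : C.L) * (C.S.τ (b + c) : C.L) * (C.S.τ (w + b + c) : C.L) = 1 := congrArg Subtype.val h7
  have h8 : (g * ((C.S.τ w : C.L) : G) * g⁻¹) * (g * (C.S.τ b : C.L) * g⁻¹) * (g * (C.S.τ c : C.L) * g⁻¹) *
      (g * (C.S.τ (w + b) : C.L) * g⁻¹) * (g * (C.S.τ (w + c) : C.L) * g⁻¹) *
      (g * (C.S.τ (b + c) : C.L) * g⁻¹) * (g * (C.S.τ (w + b + c) : C.L) * g⁻¹) = 1 := by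
    have : (g * ((C.S.τ w : C.L) : G) * g⁻¹) * (g * (C.S.τ b : C.L) * g⁻¹) * (g * (C.S.τ c : C.L) * g⁻¹) *
      (g * (C.S.τ (w + b) : C.L) * g⁻¹) * (g * (C.S.τ (w + c) : C.L) * g⁻¹) *
      (g * (C.S.τ (b + c) : C.L) * g⁻¹) * (g * (C.S.τ (w + b + c) : C.L) * g⁻¹) =
      g * (((C.S.τ w : C.L) : G) * (C.S.τ b : C.L) * (C.S.τ c : C.L) * (C.S.τ (w + b) : C.L) *
      (C.S.τ (w + c) : C.L) * (C.S.τ (b + c) : C.L) * (C.S.τ (w + b + c) : C.L)) * g⁻¹ := by group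
    rw [this, h7']; group
  rw [e1, e2, e3, e4, e5, e6, e7] at h8
  have pr : ∀ (x : G) (y : C.L), C.t * (y : G) * (C.t * x) = y * x := by
    intro x y
    rw [← t_comm, tt_mid]
  have h9 : C.t * (y1 : G) * (C.t * (y2 : G)) * (C.t * (y3 : G)) * (C.t * (y4 : G)) * (C.t * (y5 : G)) *
      (C.t * (y6 : G)) * (C.t * (y7 : G)) = C.t * ((y1 * y2 * y3 * y4 * y5 * y6 * y7 : C.L) : G) := by
    have a1 := pr y2 y1
    have a2 := pr y4 y3
    have a3 := pr y6 y5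
    calc C.t * (y1 : G) * (C.t * (y2 : G)) * (C.t * (y3 : G)) * (C.t * (y4 : G)) * (C.t * (y5 : G)) *
      (C.t * (y6 : G)) * (C.t * (y7 : G)) = (C.t * (y1 : G) * (C.t * (y2 : G))) *
        (C.t * (y3 : G) * (C.t * (y4 : G))) * (C.t * (y5 : G) * (C.t * (y6 : G))) * (C.t * (y7 : G)) := by group
      _ = ((y1 * y2 * y3 * y4 * y5 * y6 : C.L) : G) * C.t * y7 := by
          rw [a1, a2, a3]
          change _ = (y1 : G) * y2 * y3 * y4 * y5 * y6 * C.t * y7
          group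
      _ = _ := by rw [t_comm, mul_assoc]; rfl
  rw [h9] at h8
  have h10 : ((1 : C.L) : G) = C.t * ((y1 * y2 * y3 * y4 * y5 * y6 * y7 : C.L) : G) := h8.symm
  exact ne_t_mul C _ _ h10

theorem exists_isY (hv : v ≠ 0) (H : Nrm C (ln v) (C.S.τ v) g) : ∃ y, IsY C v y := by
  have hfinV := C.finV
  obtain ⟨p, hp, hpq⟩ := long_p hv H
  set y0 := (p : G)⁻¹ * g with hy0
  have H0 : Nrm C (ln v) (C.S.τ v) y0 := by
    have := H.mul_left (inv_mem (TG_le_PU C.S hp))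
    exact this
  have hcq : ∀ u, C.S.B u v = 0 → ∀ e, y0 * (q C.S v u e : C.L) * y0⁻¹ = (q C.S v u e : C.L) :=
    fun u hu e => commute_q hv H0 hpq hu e
  have hcq' : ∀ u, C.S.B u v = 0 → ∀ e, y0 * (q C.S v u e : C.L) = (q C.S v u e : C.L) * y0 :=
    fun u hu e => mul_inv_eq_iff_eq_mul.1 (hcq u hu e)
  have hbG : C.b v * C.b v = 1 := C.b_sq v
  have hzb : y0 * C.b v * y0⁻¹ = C.b v := H0.hz
  have htb : y0 * C.t * y0⁻¹ = C.t * C.b v := H0.ht
  -- `y0²`
  have h1 : y0 * y0 * C.t = C.t * (y0 * y0) := by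
    have : y0 * y0 * C.t * (y0 * y0)⁻¹ = C.t := by
      calc y0 * y0 * C.t * (y0 * y0)⁻¹ = y0 * (y0 * C.t * y0⁻¹) * y0⁻¹ := by group
        _ = y0 * (C.t * C.b v) * y0⁻¹ := by rw [htb]
        _ = (y0 * C.t * y0⁻¹) * (y0 * C.b v * y0⁻¹) := by group
        _ = _ := by rw [htb, hzb, mul_assoc, hbG, mul_one]
    exact mul_inv_eq_iff_eq_mul.1 this
  obtain ⟨y, hy⟩ := exists_lift C h1
  have hbt : C.b v * C.t = C.t * C.b v := t_comm C (C.S.τ v)
  have hyL : y0 * y0 = y := by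
    rcases hy with hy | hy
    · exact hy
    · exfalso
      have e1 : y0 * (C.t * y) * y0⁻¹ = C.t * y := by rw [← hy]; group
      have e2 : y0 * (y : G) * y0⁻¹ = C.b v * y := by
        have e3 : C.t * C.b v * (y0 * (y : G) * y0⁻¹) = C.t * y := by
          rw [← htb, ← e1]; group
        have e4 : C.b v * (y0 * (y : G) * y0⁻¹) = y := by
          rw [mul_assoc] at e3
          exact mul_left_cancel e3
        calc y0 * (y : G) * y0⁻¹ = C.b v * (C.b v * (y0 * (y : G) * y0⁻¹)) := by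
              rw [← mul_assoc, hbG, one_mul]
          _ = _ := by rw [e4]
      -- `y` commutes with `Q_v`, so it lies in `Q_v`
      have e5 : y ∈ QU C.S (ln v) := by
        apply mem_QU_of_commute C.S hv
        · apply Subtype.ext
          change (y : G) * C.b v = C.b v * y
          have e6 : y0 * y0 * C.b v = C.b v * (y0 * y0) := by
            have e7 := mul_inv_eq_iff_eq_mul.1 hzb
            rw [mul_assoc, e7, ← mul_assoc, e7, mul_assoc]
          rw [hy] at e6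
          have e8 : C.t * ((y : G) * C.b v) = C.t * (C.b v * y) := by
            rw [← mul_assoc, e6, ← mul_assoc, hbt, mul_assoc]
          exact mul_left_cancel e8
        · intro u hu
          apply Subtype.ext
          change (y : G) * (q C.S v u 0 : C.L) = (q C.S v u 0 : C.L) * y
          have e6 : y0 * y0 * (q C.S v u 0 : C.L) = (q C.S v u 0 : C.L) * (y0 * y0) := by
            rw [mul_assoc, hcq' u hu, ← mul_assoc, hcq' u hu, mul_assoc]
          rw [hy] at e6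
          have e8 : C.t * ((y : G) * (q C.S v u 0 : C.L)) = C.t * ((q C.S v u 0 : C.L) * y) := by
            rw [← mul_assoc, e6, ← mul_assoc, t_comm, mul_assoc]
          exact mul_left_cancel e8
      obtain ⟨u, e, hu, rfl⟩ := mem_QU_ln C.S hv e5
      rw [hcq u hu e] at e2
      have e9 : C.b v = 1 := by
        have := e2.symm
        exact mul_eq_right.1 this
      exact hv (C.S.τ_eq_one (Subtype.ext e9))
  have hyQ : y ∈ QU C.S (ln v) := by
    apply mem_QU_of_commute C.S hv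
    · apply Subtype.ext
      change (y : G) * C.b v = C.b v * y
      have e7 := mul_inv_eq_iff_eq_mul.1 hzb
      rw [← hyL, mul_assoc, e7, ← mul_assoc, e7, mul_assoc]
    · intro u hu
      apply Subtype.ext
      change (y : G) * (q C.S v u 0 : C.L) = (q C.S v u 0 : C.L) * y
      rw [← hyL, mul_assoc, hcq' u hu, ← mul_assoc, hcq' u hu, mul_assoc]
  obtain ⟨u, e, hu, rfl⟩ := mem_QU_ln C.S hv hyQ
  have huln : u ∈ ln v := by
    apply mem_of_perp C.S
    intro w hw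
    rw [mem_perp_ln] at hw
    obtain ⟨a, ha, ha'⟩ := exists_q_τ hv H0 hpq hw
    obtain ⟨a', a'', ha1, rfl⟩ := mem_QU_ln C.S hv ha
    have h2 : (y0 * y0) * ((C.S.τ w : C.L) : G) * (y0 * y0)⁻¹ = (C.S.τ w : C.L) := by
      calc (y0 * y0) * ((C.S.τ w : C.L) : G) * (y0 * y0)⁻¹ =
          y0 * (y0 * ((C.S.τ w : C.L) : G) * y0⁻¹) * y0⁻¹ := by group
        _ = y0 * (((q C.S v a' a'' : C.L) : G) * (C.S.τ w : C.L)) * y0⁻¹ := by rw [ha']; rfl
        _ = (y0 * (q C.S v a' a'' : C.L) * y0⁻¹) * (y0 * (C.S.τ w : C.L) * y0⁻¹) := by group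
        _ = ((q C.S v a' a'' * (q C.S v a' a'' * C.S.τ w) : C.L) : G) := by rw [hcq a' ha1, ha']; rfl
        _ = _ := by rw [← mul_assoc, q_sq C.S ha1, one_mul]
    rw [hyL] at h2
    have h3 : q C.S v u e * C.S.τ w = C.S.τ w * q C.S v u e :=
      mul_inv_eq_iff_eq_mul.1 (Subtype.ext h2)
    have h4 := τ_conj_q C.S hw (u := u) e
    rw [← h3, mul_assoc, C.S.τ_sq, mul_one] at h4
    have h5 := (q_inj C.S hv hu (by
      rw [B_add, map_smul, LinearMap.smul_apply, hu, hw, smul_zero, add_zero]) h4).1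
    rw [aac] at h5
    rcases z2 (C.S.B u w) with h6 | h6
    · rw [C.S.symm]; exact h6
    · exfalso
      rw [h6, one_smul] at h5
      have := (mem_perp_ln C.S).2 hu w h5
      rw [h6] at this
      exact one_ne_zero this
  rw [q_ln C huln] at hyL
  have hcb : y0 * C.b v = C.b v * y0 := mul_inv_eq_iff_eq_mul.1 hzb
  have htq : ∀ u, C.t * (q C.S v u 0 : C.L) = (q C.S v u 0 : C.L) * C.t := fun u => (t_comm C _).symm
  rcases z2 e with rfl | rfl
  · rw [q_zero] at hyL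
    have hsq : y0 * y0 = 1 := hyL
    have hinv : y0⁻¹ = y0 := inv_eq_of_mul_eq_one_right hsq
    refine ⟨y0, hsq, ?_, hcb, fun u hu => hcq' u hu 0⟩
    rw [hinv] at htb
    exact htb
  · rw [q_zero_one] at hyL
    have hsq : y0 * y0 = C.b v := hyL
    have hinv : y0⁻¹ = C.b v * y0 := by
      rw [inv_eq_iff_mul_eq_one, ← mul_assoc, hcb, mul_assoc, hsq, hbG]
    have h2 : y0 * C.t = C.t * C.b v * y0 := mul_inv_eq_iff_eq_mul.1 htb
    refine ⟨C.t * y0, ?_, ?_, ?_, ?_⟩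
    · calc C.t * y0 * (C.t * y0) = C.t * (y0 * C.t) * y0 := by group
        _ = C.t * C.t * C.b v * (y0 * y0) := by rw [h2]; group
        _ = 1 := by rw [C.tt, hsq, one_mul, hbG]
    · calc C.t * y0 * C.t * (C.t * y0) = C.t * y0 * (C.t * C.t) * y0 := by group
        _ = C.t * (y0 * y0) := by rw [C.tt]; group
        _ = _ := by rw [hsq]
    · calc C.t * y0 * C.b v = C.t * (y0 * C.b v) := by group
        _ = C.b v * (C.t * y0) := by rw [hcb, ← mul_assoc, ← hbt, mul_assoc]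
    · intro u hu
      rw [mul_assoc, hcq' u hu, ← mul_assoc, htq, mul_assoc]

/-- **Existence of `y_v`.** -/
theorem exists_y [Finite G] (C : Ctx G V) (h : ∃ g v, v ≠ 0 ∧ g * C.t * g⁻¹ = C.t * C.b v) {v : V}
    (hv : v ≠ 0) : ∃ y, IsY C v y := by
  obtain ⟨n, hn, hn'⟩ := start_long C h hv
  exact exists_isY hv (nrm_ln C hv hn hn')

end Cfsg.Agent.OddHalf.SpTwo
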