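import Cfsg.Agent.StandardComponent.SpTwo

/-!
# `Sp_{2n}(2)` in transvection language: short root elements, the groups `Q_u`, double centralizers
-/

set_option autoImplicit false

namespace Cfsg.Agent.OddHalf.SpTwo.PatS

open Cfsg.Agent.StandardComponent.SpTwo

local macro "vv" : tactic => `(tactic| (match_scalars <;> (try ring_nf) <;> (try reduce_mod_char)))

theorem z_ne {a : ZMod 2} (h : a ≠ 0) : a = 1 := (z2 a).resolve_left h

theorem z_ne' {a : ZMod 2} (h : a ≠ 1) : a = 0 := (z2 a).resolve_right h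

theorem z_mul_self (a : ZMod 2) : a * a = a := by revert a; decide

theorem z_add_self (a : ZMod 2) : a + a = 0 := by revert a; decide

variable {X V : Type*} [Group X] [AddCommGroup V] [Module (ZMod 2) V] (S : SpData X V)

/-- A short root element (for `u`, `w` perpendicular). -/
def s (u w : V) : X := S.τ u * S.τ w * S.τ (u + w)

variable {S}

theorem ρ_s {u w : V} (h : S.B u w = 0) (v : V) : S.ρ (s S u w) v = v + S.B v u • w + S.B v w • u := by
  simp only [s, S.ρ_mul, S.hτ, map_add, map_smul, LinearMap.add_apply, LinearMap.smul_apply, smul_eq_mul, S.alt,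
    h, S.symm w u]
  vv

theorem ρ_τ (u : V) (j : ZMod 2) (v : V) : S.ρ (S.τ (j • u)) v = v + (j * S.B v u) • u := by
  rw [S.hτ]
  rcases z2 j with rfl | rfl <;> simp

theorem ρ_q {u w : V} (h : S.B u w = 0) (j : ZMod 2) (v : V) :
    S.ρ (s S u w * S.τ (j • u)) v = v + S.B v u • w + S.B v w • u + (j * S.B v u) • u := by
  rw [S.ρ_mul, ρ_τ, map_add, map_smul, ρ_s h, ρ_s h, S.alt, h]
  vv

theorem s_zero (u : V) : s S u 0 = 1 := by
  rw [s, S.τ_zero, mul_one, add_zero, S.τ_sq]

theorem s_self (u : V) : s S u u = 1 := by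
  rw [s, aa, S.τ_zero, mul_one, S.τ_sq]

theorem s_mul {u w w' : V} (h : S.B u w = 0) (h' : S.B u w' = 0) :
    s S u w * s S u w' = s S u (w + w') * S.τ (S.B w w' • u) := by
  apply S.ext_iff
  intro v
  have h'' : S.B u (w + w') = 0 := by rw [map_add, h, h', add_zero]
  rw [ρ_q h'', S.ρ_mul, ρ_s h', map_add, map_add, map_smul, map_smul, ρ_s h, ρ_s h, ρ_s h, S.alt, h, S.symm w' u, h',
    S.symm w' w, map_add]
  vv

theorem τ_mul (u : V) (i j : ZMod 2) : S.τ (i • u) * S.τ (j • u) = S.τ ((i + j) • u) := by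
  rcases z2 i with rfl | rfl <;> rcases z2 j with rfl | rfl
  · simp [S.τ_zero]
  · simp [S.τ_zero]
  · simp [S.τ_zero]
  · rw [show (1 + 1 : ZMod 2) = 0 from rfl, one_smul, zero_smul, S.τ_sq, S.τ_zero]

theorem s_add_self {u w : V} (h : S.B u w = 0) : s S u (w + u) = s S u w := by
  have h' : S.B u (w + u) = 0 := by rw [map_add, h, S.alt, add_zero]
  apply S.ext_iff
  intro v
  rw [ρ_s h', ρ_s h, map_add]
  vv

theorem s_comm {u w : V} (h : S.B u w = 0) : s S u w = s S w u := by
  apply S.ext_iff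
  intro v
  rw [ρ_s h, ρ_s (by rw [S.symm]; exact h)]
  abel

theorem s_sq {u w : V} (h : S.B u w = 0) : s S u w * s S u w = 1 := by
  rw [s_mul h h, aa, s_zero, S.alt, zero_smul, S.τ_zero, mul_one]

theorem conj_s (g : X) (u w : V) : g * s S u w * g⁻¹ = s S (S.ρ g u) (S.ρ g w) := by
  rw [s, s, ← S.conj_τ g u, ← S.conj_τ g w, ← map_add, ← S.conj_τ g (u + w)]
  group

theorem mul_s (g : X) (u w : V) : g * s S u w = s S (S.ρ g u) (S.ρ g w) * g := by
  rw [← conj_s]; group

theorem mul_τ (g : X) (u : V) : g * S.τ u = S.τ (S.ρ g u) * g := by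
  rw [← S.conj_τ]; group

theorem s_τ {u w e : V} (hu : S.B u e = 0) (hw : S.B w e = 0) : s S u w * S.τ e = S.τ e * s S u w := by
  have h1 : S.B (u + w) e = 0 := by rw [map_add, LinearMap.add_apply, hu, hw, add_zero]
  rw [s, mul_assoc, S.τ_commute h1, ← mul_assoc, mul_assoc (S.τ u), S.τ_commute hw, ← mul_assoc, S.τ_commute hu]
  simp only [mul_assoc]

theorem q_comm {u w w' : V} (h : S.B u w = 0) (h' : S.B u w' = 0) : s S u w * s S u w' = s S u w' * s S u w := by
  rw [s_mul h h', s_mul h' h, add_comm w w', S.symm w w']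

theorem ρ_self {u w : V} (h : S.B u w = 0) : S.ρ (s S u w) u = u := by
  rw [ρ_s h, S.alt, h]; vv

theorem s_τself {u w : V} (h : S.B u w = 0) (j : ZMod 2) : s S u w * S.τ (j • u) = S.τ (j • u) * s S u w := by
  rcases z2 j with rfl | rfl
  · simp [S.τ_zero]
  · rw [one_smul]; exact s_τ (S.alt u) (by rw [S.symm]; exact h)

/-- Product of two elements of `Q_u`. -/
theorem q_mul {u w w' : V} (h : S.B u w = 0) (h' : S.B u w' = 0) (i j : ZMod 2) :
    s S u w * S.τ (i • u) * (s S u w' * S.τ (j • u)) = s S u (w + w') * S.τ ((S.B w w' + i + j) • u) := by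
  calc s S u w * S.τ (i • u) * (s S u w' * S.τ (j • u))
      = s S u w * (S.τ (i • u) * s S u w') * S.τ (j • u) := by simp only [mul_assoc]
    _ = s S u w * (s S u w' * S.τ (i • u)) * S.τ (j • u) := by rw [s_τself h']
    _ = (s S u w * s S u w') * (S.τ (i • u) * S.τ (j • u)) := by simp only [mul_assoc]
    _ = _ := by rw [s_mul h h', mul_assoc, τ_mul, τ_mul, add_assoc]

theorem q_eq_one {u w : V} (hu : u ≠ 0) (h : S.B u w = 0) {j : ZMod 2} (h1 : s S u w * S.τ (j • u) = 1) :
    (w = 0 ∨ w = u) ∧ j = 0 := by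
  obtain ⟨x, hx, -⟩ := S.exists_sep (c := u) (d := 0) hu hu
  have e := ρ_q h j x
  rw [h1, S.ρ_one, hx, one_smul, mul_one] at e
  have e1 : w = (S.B x w + j) • u := by
    apply eq_of_add
    have : x + 0 = x + (w + (S.B x w + j) • u) := by
      rw [add_zero]
      calc x = x + w + S.B x w • u + j • u := e
        _ = _ := by rw [add_smul]; abel
    exact (add_left_cancel this).symm
  have e2 : w = 0 ∨ w = u := by
    rcases z2 (S.B x w + j) with h2 | h2 <;> rw [h2] at e1
    · left; simpa using e1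
    · right; simpa using e1
  refine ⟨e2, ?_⟩
  have e3 : s S u w = 1 := by
    rcases e2 with rfl | rfl
    · exact s_zero _
    · exact s_self _
  rw [e3, one_mul] at h1
  rcases z2 j with rfl | rfl
  · rfl
  · rw [one_smul] at h1
    exact absurd (S.τ_eq_one h1) hu

theorem q_eq {u w w' : V} (hu : u ≠ 0) (h : S.B u w = 0) (h' : S.B u w' = 0) {i j : ZMod 2}
    (h1 : s S u w * S.τ (i • u) = s S u w' * S.τ (j • u)) : (w' = w ∨ w' = w + u) ∧ i = j := by
  have e : s S u w * S.τ (i • u) * (s S u w' * S.τ (j • u)) = 1 := by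
    rw [h1, q_mul h' h', aa, s_zero, S.alt, one_mul, zero_add, z_add_self, zero_smul, S.τ_zero]
  rw [q_mul h h'] at e
  have h'' : S.B u (w + w') = 0 := by rw [map_add, h, h', add_zero]
  obtain ⟨e1, e2⟩ := q_eq_one hu h'' e
  have e3 : w' = w ∨ w' = w + u := by
    rcases e1 with e1 | e1
    · left; exact (eq_of_add _ _ e1).symm
    · right; rw [← e1, aac]
  refine ⟨e3, ?_⟩
  have e4 : S.B w w' = 0 := by
    rcases e3 with rfl | rfl
    · exact S.alt _
    · rw [map_add, S.alt, S.symm, h, zero_add]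
  rw [e4, zero_add] at e2
  revert e2; clear * -; revert i j; decide

/-! ### Separation -/

theorem perp_span {ι : Type*} [Finite ι] (L : ι → V) {d : V} (h : ∀ e, (∀ i, S.B (L i) e = 0) → S.B d e = 0) :
    d ∈ Submodule.span (ZMod 2) (Set.range L) := by
  have h1 : ⨅ i, LinearMap.ker (S.B (L i)) ≤ LinearMap.ker (S.B d) := by
    intro e he
    rw [Submodule.mem_iInf] at he
    exact h e he
  have h2 := mem_span_of_iInf_ker_le_ker h1
  have h3 : Set.range (fun i => S.B (L i)) = S.B '' Set.range L := by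
    rw [← Set.range_comp]; rfl
  rw [h3, Submodule.span_image] at h2
  obtain ⟨d', hd', e⟩ := h2
  have : d' = d := by
    apply eq_of_add
    apply S.nondeg
    intro w
    rw [map_add, LinearMap.add_apply, e]
    exact z_add_self _
  rw [← this]
  exact hd'

theorem perp1 {u d : V} (h : ∀ e, S.B u e = 0 → S.B d e = 0) : d = 0 ∨ d = u := by
  have h1 := perp_span (S := S) (fun _ : Unit => u) (d := d) (fun e he => h e (he ()))
  rw [Set.range_const, Submodule.mem_span_singleton] at h1
  obtain ⟨a, rfl⟩ := h1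
  rcases z2 a with rfl | rfl
  · left; simp
  · right; simp

theorem perp2 {u w d : V} (h : ∀ e, S.B u e = 0 → S.B w e = 0 → S.B d e = 0) :
    ∃ a b : ZMod 2, d = a • u + b • w := by
  have h1 := perp_span (S := S) (fun i : Bool => bif i then u else w) (d := d)
    (fun e he => h e (he true) (he false))
  have h2 : Set.range (fun i : Bool => bif i then u else w) = {u, w} := by
    ext x; simp [eq_comm, or_comm]
  rw [h2, Submodule.mem_span_pair] at h1
  obtain ⟨a, b, h1⟩ := h1
  exact ⟨a, b, h1.symm⟩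

theorem perp3 {u v w d : V} (h : ∀ e, S.B u e = 0 → S.B v e = 0 → S.B w e = 0 → S.B d e = 0) :
    ∃ a b c : ZMod 2, d = a • u + b • v + c • w := by
  have h1 := perp_span (S := S) (fun i : Option Bool => i.elim u (fun j => bif j then v else w)) (d := d)
    (fun e he => h e (he none) (he (some true)) (he (some false)))
  have h2 : Set.range (fun i : Option Bool => i.elim u (fun j => bif j then v else w)) = {u, v, w} := by
    ext x
    simp only [Set.mem_range, Option.exists, Option.elim_none, Option.elim_some, Bool.exists_bool, cond_false,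
      cond_true, Set.mem_insert_iff, Set.mem_singleton_iff]
    constructor
    · rintro (h | h | h)
      · exact Or.inl h.symm
      · exact Or.inr (Or.inr h.symm)
      · exact Or.inr (Or.inl h.symm)
    · rintro (h | h | h)
      · exact Or.inl h.symm
      · exact Or.inr (Or.inr h.symm)
      · exact Or.inr (Or.inl h.symm)
  rw [h2, Submodule.mem_span_triple] at h1
  obtain ⟨a, b, c, h1⟩ := h1
  exact ⟨a, b, c, h1.symm⟩

variable (S)

theorem sep1 {c : V} (hc : c ≠ 0) : ∃ v, S.B v c = 1 := by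
  obtain ⟨x, hx, -⟩ := S.exists_sep (c := c) (d := 0) hc hc
  exact ⟨x, hx⟩

theorem sep3 {c d e : V} (h0 : c ≠ 0) (h1 : c ≠ d) (h2 : c ≠ e) (h3 : c ≠ d + e) :
    ∃ v, S.B v c = 1 ∧ S.B v d = 0 ∧ S.B v e = 0 := by
  by_contra hcon
  push Not at hcon
  obtain ⟨a, b, hab⟩ := perp2 (S := S) (u := d) (w := e) (d := c) (fun x hx1 hx2 => by
    rw [S.symm] at hx1 hx2 ⊢
    by_contra h
    exact hcon x (z_ne h) hx1 hx2)
  rcases z2 a with rfl | rfl <;> rcases z2 b with rfl | rfl <;> simp at hab
  · exact h0 hab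
  · exact h2 hab
  · exact h1 hab
  · exact h3 hab

theorem sep4 {c d e f : V} (h0 : c ≠ 0) (h1 : c ≠ d) (h2 : c ≠ e) (h3 : c ≠ f) (h4 : c ≠ d + e) (h5 : c ≠ d + f)
    (h6 : c ≠ e + f) (h7 : c ≠ d + e + f) :
    ∃ v, S.B v c = 1 ∧ S.B v d = 0 ∧ S.B v e = 0 ∧ S.B v f = 0 := by
  by_contra hcon
  push Not at hcon
  obtain ⟨a, b, g, hab⟩ := perp3 (S := S) (u := d) (v := e) (w := f) (d := c) (fun x hx1 hx2 hx3 => by
    rw [S.symm] at hx1 hx2 hx3 ⊢
    by_contra h
    exact hcon x (z_ne h) hx1 hx2 hx3)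
  rcases z2 a with rfl | rfl <;> rcases z2 b with rfl | rfl <;> rcases z2 g with rfl | rfl <;> simp at hab
  · exact h0 hab
  · exact h3 hab
  · exact h2 hab
  · exact h6 hab
  · exact h1 hab
  · exact h5 hab
  · exact h4 hab
  · exact h7 hab

variable {S}

/-! ### Double centralizers -/

/-- An element fixing `u`, `u^⊥/u` and everything is in `Q_u`. -/
theorem dc1 {k : X} {u : V} (hu : u ≠ 0) (hku : S.ρ k u = u)
    (hk : ∀ w, S.B u w = 0 → S.ρ k w = w ∨ S.ρ k w = w + u) :
    ∃ (c : V) (j : ZMod 2), S.B u c = 0 ∧ k = s S u c * S.τ (j • u) := by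
  obtain ⟨x, hx⟩ := sep1 S hu
  obtain ⟨c, hc⟩ : ∃ c, c = S.ρ k x + x := ⟨_, rfl⟩
  have hkx : S.ρ k x = x + c := by rw [hc, add_comm, add_assoc, aa, add_zero]
  have h1 : S.B u c = 0 := by
    rw [hc, map_add, S.symm u x, hx]
    have : S.B u (S.ρ k x) = 1 := by
      have := S.inv k u x
      rw [hku] at this
      rw [this, S.symm, hx]
    rw [this]; decide
  have h2 : ∀ w, S.B u w = 0 → S.ρ k w = w + S.B w c • u := by
    intro w hw
    have e := S.inv k x w
    rcases hk w hw with h | h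
    · rw [h, hkx, map_add, LinearMap.add_apply] at e
      have e1 : S.B c w = 0 := by simpa using e
      rw [h, S.symm, e1]; simp
    · rw [h, hkx] at e
      simp only [map_add, LinearMap.add_apply, hx, S.symm c u, h1] at e
      have e1 : S.B c w = 1 := by
        revert e
        generalize S.B x w = a
        generalize S.B c w = b
        clear * -
        revert a b; decide
      rw [h, S.symm, e1, one_smul]
  refine ⟨c, S.B x c, h1, ?_⟩
  apply S.ext_iff
  intro v
  rw [ρ_q h1]
  have h3 : v = (v + S.B v u • x) + S.B v u • x := by rw [add_assoc, aa, add_zero]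
  have h4 : S.B u (v + S.B v u • x) = 0 := by
    rw [map_add, map_smul, S.symm u x, hx, smul_eq_mul, mul_one, S.symm u v]
    exact z_add_self _
  have h5 : S.ρ k v = S.ρ k (v + S.B v u • x) + S.B v u • S.ρ k x := by
    rw [← map_smul, ← map_add, ← h3]
  rw [h5, h2 _ h4, hkx, map_add, LinearMap.add_apply, map_smul, LinearMap.smul_apply, smul_eq_mul]
  vv

/-- An element fixing `<u,w>^⊥` pointwise. -/
theorem dc2 {k : X} {u w : V} (hu : u ≠ 0) (hw : w ≠ 0) (huw : u ≠ w) (h : S.B u w = 0)
    (hk : ∀ e, S.B u e = 0 → S.B w e = 0 → S.ρ k e = e) :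
    ∃ a b c : ZMod 2, k = S.τ (a • u) * S.τ (b • w) * S.τ (c • (u + w)) := by
  obtain ⟨x, hx, hx'⟩ := S.exists_sep (c := u) (d := w) hu huw
  obtain ⟨y, hy, hy'⟩ := S.exists_sep (c := w) (d := u) hw huw.symm
  have h1 : ∀ x, ∃ a b : ZMod 2, S.ρ k x + x = a • u + b • w := by
    intro x
    apply perp2 (S := S)
    intro e he1 he2
    have := S.inv k x e
    rw [hk e he1 he2] at this
    rw [map_add, LinearMap.add_apply, this]
    exact z_add_self _
  have h1' : ∀ x, ∃ a b : ZMod 2, S.ρ k x = x + (a • u + b • w) := by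
    intro x
    obtain ⟨a, b, hab⟩ := h1 x
    exact ⟨a, b, by rw [← hab, add_comm x, add_assoc, aa, add_zero]⟩
  obtain ⟨a, b, hab⟩ := h1' x
  obtain ⟨c, d, hcd⟩ := h1' y
  have e := S.inv k x y
  rw [hab, hcd] at e
  simp only [map_add, LinearMap.add_apply, map_smul, LinearMap.smul_apply, smul_eq_mul, S.alt, h, S.symm w u,
    S.symm u y, S.symm w y, hx, hx', hy, hy', mul_zero, mul_one, add_zero, zero_add] at e
  have hbc : b = c := by
    revert e
    generalize S.B x y = z
    clear * -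
    revert z b c; decide
  subst hbc
  refine ⟨a + b, d + b, b, ?_⟩
  apply S.ext_iff
  intro v
  have h3 : v = (v + S.B v u • x + S.B v w • y) + S.B v u • x + S.B v w • y := by vv
  have h4 : S.B u (v + S.B v u • x + S.B v w • y) = 0 := by
    simp only [map_add, map_smul, S.symm u x, S.symm u y, hx, hy', smul_eq_mul, S.symm u v]
    generalize S.B v u = z
    generalize S.B v w = z'
    revert z z'; decide
  have h5 : S.B w (v + S.B v u • x + S.B v w • y) = 0 := by
    simp only [map_add, map_smul, S.symm w x, S.symm w y, hx', hy, smul_eq_mul, S.symm w v]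
    generalize S.B v u = z
    generalize S.B v w = z'
    revert z z'; decide
  have h6 : S.ρ k v = S.ρ k (v + S.B v u • x + S.B v w • y) + S.B v u • S.ρ k x + S.B v w • S.ρ k y := by
    rw [← map_smul, ← map_smul, ← map_add, ← map_add, ← h3]
  rw [h6, hk _ h4 h5, hab, hcd, S.ρ_mul, S.ρ_mul, ρ_τ, ρ_τ, ρ_τ]
  simp only [map_add, LinearMap.add_apply, map_smul, LinearMap.smul_apply, smul_eq_mul, S.alt, h, S.symm w u,
    mul_zero, add_zero]
  vv

end Cfsg.Agent.OddHalf.SpTwo.PatS
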