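import Cfsg.Agent.OddHalf.SpTwo.PatSRes

/-!
# `Sp_{2n}(2)`: parities of indices
-/

set_option autoImplicit false

namespace Cfsg.Agent.OddHalf.SpTwo.PatS

open Cfsg.Agent.StandardComponent.SpTwo

theorem relIndex_of_prod {Γ : Type*} [Group Γ] {H L K : Subgroup Γ} (hLK : L ≤ K)
    (h : ∀ k ∈ K, ∃ l ∈ L, ∃ g ∈ H, k = l * g) : H.relIndex K = H.relIndex L := by
  symm
  unfold Subgroup.relIndex Subgroup.index
  refine Nat.card_congr (Equiv.ofBijective (Subgroup.quotientSubgroupOfEmbeddingOfLE H hLK) ⟨?_, ?_⟩)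
  · exact (Subgroup.quotientSubgroupOfEmbeddingOfLE H hLK).injective
  · intro q
    obtain ⟨k, rfl⟩ := QuotientGroup.mk_surjective q
    obtain ⟨l, hl, g, hg, hk⟩ := h k k.2
    refine ⟨((⟨l, hl⟩ : L) : L ⧸ H.subgroupOf L), ?_⟩
    rw [Subgroup.quotientSubgroupOfEmbeddingOfLE_apply_mk, QuotientGroup.eq, Subgroup.mem_subgroupOf]
    have : (((Subgroup.inclusion hLK ⟨l, hl⟩)⁻¹ * k : K) : Γ) = g := by
      change l⁻¹ * (k : Γ) = g
      rw [hk]; group
    rw [this]; exact hg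

variable {X V : Type*} [Group X] [AddCommGroup V] [Module (ZMod 2) V] (S : SpData X V)

/-- stabilizer of a vector -/
def Xu (u : V) : Subgroup X where
  carrier := {k | S.ρ k u = u}
  mul_mem' := by
    intro a b h1 h2
    change S.ρ (a * b) u = u
    rw [S.ρ_mul, h2, h1]
  one_mem' := S.ρ_one u
  inv_mem' := by
    intro a h1
    change S.ρ a⁻¹ u = u
    conv_lhs => rw [← h1, S.ρ_inv_apply]

variable {S}

theorem exists_move {u v : V} (hu : u ≠ 0) (hv : v ≠ 0) : ∃ k, S.ρ k u = v := by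
  have key : ∀ {u v : V}, S.B u v = 1 → ∃ k, S.ρ k u = v := by
    intro u v h
    refine ⟨S.τ (u + v), ?_⟩
    rw [S.hτ, map_add, S.alt, h, zero_add, one_smul, aac]
  by_cases huv : u = v
  · exact ⟨1, by rw [S.ρ_one, huv]⟩
  obtain ⟨x1, h1, h2⟩ := S.exists_sep hu huv
  obtain ⟨x2, h3, h4⟩ := S.exists_sep hv (Ne.symm huv)
  have h5 : S.B u (x1 + x2) = 1 := by rw [map_add, S.symm u x1, S.symm u x2, h1, h4, add_zero]
  have h6 : S.B (x1 + x2) v = 1 := by rw [map_add, LinearMap.add_apply, h2, h3, zero_add]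
  obtain ⟨k1, hk1⟩ := key h5
  obtain ⟨k2, hk2⟩ := key h6
  exact ⟨k2 * k1, by rw [S.ρ_mul, hk1, hk2]⟩

theorem odd_index_Xu [Finite V] {u : V} (hu : u ≠ 0) : Odd (Xu S u).index := by
  letI : MulAction X V :=
    { smul := fun k v => S.ρ k v
      one_smul := S.ρ_one
      mul_smul := S.ρ_mul }
  have h1 : MulAction.stabilizer X u = Xu S u := rfl
  rw [← h1, MulAction.index_stabilizer]
  have h2 : MulAction.orbit X u = ({0}ᶜ : Set V) := by
    ext v
    rw [Set.mem_compl_singleton_iff]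
    constructor
    · rintro ⟨k, rfl⟩ h
      apply hu
      have h3 : S.ρ k u = S.ρ k 0 := by rw [map_zero]; exact h
      exact S.ρ_inj k h3
    · intro hv
      obtain ⟨k, hk⟩ := exists_move (S := S) hu hv
      exact ⟨k, hk⟩
  rw [h2, Set.ncard_compl, Set.ncard_singleton]
  have h3 : addOrderOf u = 2 := addOrderOf_eq_prime (by rw [two_nsmul, aa]) hu
  have h4 : 2 ∣ Nat.card V := by rw [← h3]; exact addOrderOf_dvd_natCard u
  have h5 : 0 < Nat.card V := Nat.card_pos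
  rw [Nat.odd_iff]
  omega

/-- `X_u = C_X(u,u') Q_u` -/
theorem exists_q {u u' : V} (h : S.B u u' = 1) {k : X} (hk : S.ρ k u = u) :
    ∃ l ∈ X1 S u u', ∃ (c : V) (j : ZMod 2), S.B u c = 0 ∧ k = l * (s S u c * S.τ (j • u)) := by
  have hk' : S.ρ k⁻¹ u = u := by conv_lhs => rw [← hk, S.ρ_inv_apply]
  obtain ⟨c, hc⟩ : ∃ c, c = u' + S.ρ k⁻¹ u' := ⟨_, rfl⟩
  have huc : S.B u c = 0 := by
    have h1 := S.inv k⁻¹ u u'
    rw [hk'] at h1
    rw [hc, map_add, h1, h]; decide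
  have h2 : S.ρ (s S u c * S.τ (S.B u' c • u)) u' = S.ρ k⁻¹ u' := by
    rw [ρ_q huc, S.symm u' u, h, one_smul, mul_one, add_assoc, aa, add_zero, hc, aac]
  have h3 : S.ρ (s S u c * S.τ (S.B u' c • u)) u = u := by
    rw [ρ_q huc, S.alt, huc]; simp
  refine ⟨k * (s S u c * S.τ (S.B u' c • u)), ⟨?_, ?_⟩, c, S.B u' c, huc, ?_⟩
  · rw [S.ρ_mul, h3, hk]
  · rw [S.ρ_mul, h2, S.ρ_apply_inv]
  · have h4 : s S u c * S.τ (S.B u' c • u) * (s S u c * S.τ (S.B u' c • u)) = 1 := by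
      rw [q_mul huc huc, aa, s_zero, S.alt, zero_add, one_mul, z_add_self, zero_smul, S.τ_zero]
    rw [mul_assoc, h4, mul_one]

end Cfsg.Agent.OddHalf.SpTwo.PatS
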