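import Cfsg.Agent.OddHalf.SpTwo.PatSRes

/-!
# `Sp_{2n}(2)`, pattern {short}: involutions in `t b_w R_u`
-/

set_option autoImplicit false

namespace Cfsg.Agent.OddHalf.SpTwo.PatS

open Cfsg.Agent.StandardComponent.SpTwo

variable {G X V : Type*} [Group G] [Group X] [AddCommGroup V] [Module (ZMod 2) V]

namespace Data

variable {D : Data G X V}

variable {u v w c : V} {r : G}

theorem tb_sq (w : V) : D.t * D.b w * (D.t * D.b w) = 1 := by
  calc D.t * D.b w * (D.t * D.b w) = D.t * (D.b w * D.t) * D.b w := by group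
    _ = (D.t * D.t) * (D.b w * D.b w) := by rw [← tb]; group
    _ = 1 := by rw [D.tt, b_sq, one_mul]

theorem b_inv (w : V) : (D.b w)⁻¹ = D.b w := inv_eq_of_mul_eq_one_left (b_sq w)

theorem ρτu (hw : D.S.B u w = 0) : D.S.ρ (D.S.τ w) u = u := by rw [D.S.hτ, hw, zero_smul, add_zero]

theorem conj_tbq (hw : D.S.B u w = 0) (v : V) (i : ZMod 2) :
    D.t * D.b w * D.q u v i * (D.t * D.b w) = D.q u (v + D.S.B v w • w) i := by
  have h1 : D.b w * D.q u v i = D.q u (v + D.S.B v w • w) i * D.b w := by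
    have := ιq (D := D) (D.S.τ w) u v i
    rwa [ρτu hw, D.S.hτ] at this
  calc D.t * D.b w * D.q u v i * (D.t * D.b w) = D.t * (D.b w * D.q u v i) * D.t * D.b w := by group
    _ = (D.t * D.q u (v + D.S.B v w • w) i) * (D.b w * D.t) * D.b w := by rw [h1]; group
    _ = D.q u (v + D.S.B v w • w) i * (D.t * D.t) * (D.b w * D.b w) := by rw [tq, ← tb]; group
    _ = _ := by rw [D.tt, b_sq, mul_one, mul_one]

theorem InR.conj_tb (hw : D.S.B u w = 0) (h : D.InR u r) : D.InR u (D.t * D.b w * r * (D.t * D.b w)) := by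
  have h1 := (h.conj_fix (ρτu hw)).conjt
  have h2 : D.t * (D.ι (D.S.τ w) * r * (D.ι (D.S.τ w))⁻¹) * D.t = D.t * D.b w * r * (D.t * D.b w) := by
    change D.t * (D.b w * r * (D.b w)⁻¹) * D.t = _
    rw [b_inv]
    calc D.t * (D.b w * r * D.b w) * D.t = D.t * D.b w * r * (D.b w * D.t) := by group
      _ = _ := by rw [← tb]
  rwa [h2] at h1

theorem Tr.conj_tb (hw : D.S.B u w = 0) (h : D.Tr u c r) :
    D.Tr u (c + D.S.B c w • w) (D.t * D.b w * r * (D.t * D.b w)) := by
  have h0 := h.conjK (D.S.τ w)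
  rw [ρτu hw, D.S.hτ] at h0
  have h1 := ((Tr.of_t (D := D) u).mul h0).mul (Tr.of_t u)
  rw [zero_add, add_zero] at h1
  have h2 : D.t * (D.ι (D.S.τ w) * r * (D.ι (D.S.τ w))⁻¹) * D.t = D.t * D.b w * r * (D.t * D.b w) := by
    change D.t * (D.b w * r * (D.b w)⁻¹) * D.t = _
    rw [b_inv]
    calc D.t * (D.b w * r * D.b w) * D.t = D.t * D.b w * r * (D.b w * D.t) := by group
      _ = _ := by rw [← tb]
  rwa [h2] at h1

/-- `B v w • w ∈ {0, u}` -/
theorem smul_cases (hw0 : w ≠ 0) (hwu : w ≠ u) {a : ZMod 2} (h : a • w = 0 ∨ a • w = u) : a = 0 := by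
  rcases z2 a with rfl | rfl
  · rfl
  · rw [one_smul] at h
    rcases h with h | h
    · exact absurd h hw0
    · exact absurd h hwu

theorem C7a0 (hu : u ≠ 0) (hw : D.S.B u w = 0) (hw0 : w ≠ 0) (hwu : w ≠ u) (i : ZMod 2) :
    ∃ g, D.InR u g ∧ ∃ w', g * (D.q u 0 i * (D.t * D.b w)) * g⁻¹ = D.t * D.b w' := by
  rcases z2 i with rfl | rfl
  · exact ⟨1, InR.one, w, by rw [q_zero_zero]; group⟩
  · obtain ⟨z, hz, hT⟩ := exZ (D := D) hw hu hw0 hwu.symm
    have hzi : z⁻¹ = z := inv_eq_of_mul_eq_one_left hz.sq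
    have hwu' : D.S.B w (u + w) = 0 := by rw [map_add, D.S.symm w u, hw, D.S.alt, add_zero]
    have huu' : D.S.B u (u + w) = 0 := by rw [map_add, hw, D.S.alt, add_zero]
    refine ⟨z, InR.of_z hu hT hz.sq (by rintro (h | h); exacts [hw0 h, hwu h]), u + w, ?_⟩
    have e1 : D.q u w 0 * D.b (u + w) = D.b u * D.b w := by
      rw [q_eq_b, zero_smul, b_zero, mul_one, mul_assoc, b_sq, mul_one]
    have e2 : z * (D.t * D.b (u + w)) = D.t * (D.b u * D.b w) * z := by
      calc z * (D.t * D.b (u + w)) = (z * D.t) * D.b (u + w) := by group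
        _ = D.t * D.q u w 0 * (z * D.b (u + w)) := by rw [hT.2.1]; group
        _ = D.t * (D.q u w 0 * D.b (u + w)) * z := by rw [hz.comm _ huu' hwu']; group
        _ = _ := by rw [e1]
    have e3 : D.q u 0 1 * (D.t * D.b w) = D.t * (D.b u * D.b w) := by
      rw [q_zero_one, ← mul_assoc, ← tb, mul_assoc]
    rw [e3, hzi]
    calc z * (D.t * (D.b u * D.b w)) * z = z * (D.t * (D.b u * D.b w) * z) := by group
      _ = (z * z) * (D.t * D.b (u + w)) := by rw [← e2]; group
      _ = _ := by rw [hz.sq, one_mul]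

theorem C7a (hu : u ≠ 0) (hw : D.S.B u w = 0) (hw0 : w ≠ 0) (hwu : w ≠ u) (hv : D.S.B u v = 0)
    (hvw : D.S.B v w = 0) (i : ZMod 2) :
    ∃ g, D.InR u g ∧ ∃ w', g * (D.q u v i * (D.t * D.b w)) * g⁻¹ = D.t * D.b w' := by
  by_cases h0 : v = 0 ∨ v = u
  · have : D.q u v i = D.q u 0 i := by
      rcases h0 with rfl | rfl
      · rfl
      · have := q_add_self (D := D) (u := v) (w := 0) (map_zero _) i
        rwa [zero_add] at this
    rw [this]
    exact C7a0 hu hw hw0 hwu i
  · have h0' := h0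
    push Not at h0'
    obtain ⟨z, hz, hT⟩ := exZ (D := D) hv hu h0'.1 h0'.2.symm
    obtain ⟨g, hg, w', hgw⟩ := C7a0 (D := D) hu hw hw0 hwu i
    have hzi : z⁻¹ = z := inv_eq_of_mul_eq_one_left hz.sq
    refine ⟨g * z, InR.mul hu hg (InR.of_z hu hT hz.sq h0), w', ?_⟩
    rw [← hgw]
    have e1 : z * (D.q u 0 i * (D.t * D.b w)) * z = D.q u v i * (D.t * D.b w) := by
      have f1 : z * D.q u 0 i = D.q u 0 i * z := by
        have := hT.2.2 0 i (map_zero _)
        rwa [map_zero, add_zero] at this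
      calc z * (D.q u 0 i * (D.t * D.b w)) * z = (z * D.q u 0 i) * D.t * D.b w * z := by group
        _ = D.q u 0 i * (z * D.t) * D.b w * z := by rw [f1]; group
        _ = D.q u 0 i * D.t * D.q u v 0 * (z * D.b w) * z := by rw [hT.2.1]; group
        _ = D.q u 0 i * D.t * D.q u v 0 * D.b w * (z * z) := by rw [hz.comm w hw hvw]; group
        _ = D.q u 0 i * (D.t * D.q u v 0) * D.b w := by rw [hz.sq]; group
        _ = (D.q u 0 i * D.q u v 0) * (D.t * D.b w) := by rw [tq]; group
        _ = _ := by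
          rw [q_mul (map_zero _) hv, zero_add, map_zero, LinearMap.zero_apply, zero_add, add_zero]
    rw [← e1]
    calc g * z * (z * (D.q u 0 i * (D.t * D.b w)) * z) * (g * z)⁻¹
        = g * (z * z) * (D.q u 0 i * (D.t * D.b w)) * g⁻¹ := by rw [mul_inv_rev]; group
      _ = _ := by rw [hz.sq, mul_one]

/-- involutions in `t b_w R_u`, `w ≠ 0` -/
theorem C7b (hu : u ≠ 0) (hw : D.S.B u w = 0) (hw0 : w ≠ 0) (hwu : w ≠ u) (hr : D.InR u r)
    (h : r * (D.t * D.b w) * (r * (D.t * D.b w)) = 1) :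
    ∃ g, D.InR u g ∧ ∃ w', g * (r * (D.t * D.b w)) * g⁻¹ = D.t * D.b w' := by
  have htt := tb_sq (D := D) w
  obtain ⟨t', ht'⟩ : ∃ t', t' = D.t * D.b w := ⟨_, rfl⟩
  have hinv : t' * r * t' = r⁻¹ := by
    rw [eq_inv_iff_mul_eq_one, ht']
    calc D.t * D.b w * r * (D.t * D.b w) * r = r⁻¹ * (r * (D.t * D.b w) * (r * (D.t * D.b w))) * r := by group
      _ = 1 := by rw [h]; group
  have hcq : ∀ v i, t' * D.q u v i * t' = D.q u (v + D.S.B v w • w) i := by
    intro v i; rw [ht']; exact conj_tbq hw v i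
  have huvw : ∀ {v}, D.S.B u v = 0 → D.S.B u (v + D.S.B v w • w) = 0 := by
    intro v hv; simp [hv, hw]
  -- `q (v + B v w w) i = q v j` forces `B v w = 0`
  have hfix : ∀ {v} {i j : ZMod 2}, D.S.B u v = 0 → D.q u (v + D.S.B v w • w) i = D.q u v j → D.S.B v w = 0 := by
    intro v i j hv h1
    have h2 := (q_eq hu hv (huvw hv) h1.symm).1
    apply smul_cases hw0 hwu
    rcases h2 with h2 | h2
    · left; simpa using h2
    · right; exact add_left_cancel h2
  obtain ⟨c, hc⟩ := hr.1
  have hcw : D.S.B c w = 0 := by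
    have h1 := hc.conj_tb hw
    rw [← ht', hinv] at h1
    have h2 := (hc.inv.uniq hu h1.1 h1.2.1).2
    apply smul_cases hw0 hwu
    rcases h2 with h2 | h2
    · left; simpa using h2
    · right; exact add_left_cancel h2
  by_cases hc0 : c = 0 ∨ c = u
  · obtain ⟨v, i, hv, rfl⟩ := hr.ker hu hc hc0
    have h1 : (D.q u v i)⁻¹ = D.q u v i := inv_eq_of_mul_eq_one_left (q_sq hv i)
    rw [hcq, h1] at hinv
    exact C7a hu hw hw0 hwu hv (hfix hv hinv) i
  · have hc0' := hc0
    push Not at hc0'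
    obtain ⟨z, hz, hTz⟩ := exZ (D := D) hc.1 hu hc0'.1 hc0'.2.symm
    obtain ⟨v, i, hv, hrz⟩ := hr.eq_zq hu hc hc0 hTz hz.sq
    have hzb : z * D.b w = D.b w * z := hz.comm w hw hcw
    have htz : t' * z * t' = z * D.q u c 0 := by
      have e1 : z * D.q u c 0 = D.q u c 0 * z := by
        rw [hTz.2.2 c 0 hc.1, D.S.alt, add_zero]
      rw [e1, ht']
      calc D.t * D.b w * z * (D.t * D.b w) = D.t * (D.b w * z) * D.t * D.b w := by group
        _ = D.t * z * (D.b w * D.t) * D.b w := by rw [← hzb]; group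
        _ = D.t * (z * D.t) * (D.b w * D.b w) := by rw [← tb]; group
        _ = (D.t * D.t) * D.q u c 0 * z := by rw [hTz.2.1, b_sq]; group
        _ = _ := by rw [D.tt, one_mul]
    have htt' : t' * t' = 1 := by rw [ht']; exact htt
    have h1 : D.q u c 0 * D.q u (v + D.S.B v w • w) i = D.q u v (i + D.S.B c v) := by
      have e1 : t' * r * t' = z * (D.q u c 0 * D.q u (v + D.S.B v w • w) i) := by
        rw [hrz, ← hcq]
        calc t' * (z * D.q u v i) * t' = t' * z * 1 * D.q u v i * t' := by group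
          _ = (t' * z * t') * (t' * D.q u v i * t') := by rw [← htt']; group
          _ = _ := by rw [htz]; group
      have e2 : r⁻¹ = z * D.q u v (i + D.S.B c v) := by
        rw [hrz, mul_inv_rev, inv_eq_of_mul_eq_one_left (q_sq hv i), inv_eq_of_mul_eq_one_left hz.sq,
          hTz.2.2 _ _ hv, add_assoc, z_add_self, add_zero]
      rw [hinv, e2] at e1
      exact (mul_left_cancel e1).symm
    rw [q_mul hc.1 (huvw hv)] at h1
    have h2 := (q_eq hu hv (by rw [map_add, hc.1, huvw hv, add_zero]) h1.symm).1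
    have h3 : D.S.B v w = 1 ∧ (c = w ∨ c = w + u) := by
      rcases z2 (D.S.B v w) with h4 | h4
      · exfalso
        rw [h4, zero_smul, add_zero] at h2
        rcases h2 with h2 | h2
        · exact hc0'.1 (by simpa using h2)
        · exact hc0'.2 (add_right_cancel (by rw [h2, add_comm]))
      · refine ⟨h4, ?_⟩
        rw [h4, one_smul] at h2
        rcases h2 with h2 | h2
        · left
          apply eq_of_add
          have : c + w + v = 0 + v := by rw [zero_add, add_assoc, add_comm w v]; exact h2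
          exact add_right_cancel this
        · right
          have : c + w + v = u + v := by rw [add_assoc, add_comm w v, h2, add_comm]
          have h5 := add_right_cancel this
          rw [← h5, add_comm c w, aac]
    obtain ⟨hvw, hcc⟩ := h3
    have hTr : D.Tr u w r := by
      rcases hcc with rfl | rfl
      · exact hc
      · have := hc.add_self
        rwa [aab] at this
    have hv0 : v ≠ 0 := by rintro rfl; simp at hvw
    have hvu : v ≠ u := by rintro rfl; rw [hw] at hvw; exact absurd hvw (by decide)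
    obtain ⟨y, hy, hTy⟩ := exZ (D := D) hv hu hv0 hvu.symm
    have hyR : D.InR u y := InR.of_z hu hTy hy.sq (by rintro (h | h); exacts [hv0 h, hvu h])
    obtain ⟨E, hE⟩ : ∃ E, E = y * (t' * y * t') := ⟨_, rfl⟩
    have hER : D.InR u E := by
      rw [hE, ht']; exact InR.mul hu hyR (hyR.conj_tb hw)
    have hET : D.Tr u w E := by
      have h4 := hTy.mul (hTy.conj_tb hw)
      rw [hvw, one_smul, aac, ← ht', ← hE] at h4
      exact h4
    obtain ⟨v', i', hv', hEr⟩ := (InR.mul hu hER.inv hr).ker hu (hET.inv.mul hTr) (Or.inl (aa w))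
    have hrE : r = E * D.q u v' i' := by rw [← hEr]; group
    have hEt : E * t' = y * t' * y := by
      rw [hE]
      calc y * (t' * y * t') * t' = y * t' * y * (t' * t') := by group
        _ = _ := by rw [htt', mul_one]
    have htE : t' * E * t' = E⁻¹ := by
      rw [eq_inv_iff_mul_eq_one]
      calc t' * E * t' * E = t' * (E * t') * E * (t' * t') := by rw [htt']; group
        _ = t' * (E * t') * (E * t') * t' := by group
        _ = t' * y * t' * (y * y) * t' * y * t' := by rw [hEt]; group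
        _ = t' * y * (t' * t') * y * t' := by rw [hy.sq]; group
        _ = t' * (y * y) * t' := by rw [htt']; group
        _ = 1 := by rw [hy.sq, mul_one, htt']
    have hvw' : D.S.B v' w = 0 := by
      have e1 : t' * r * t' = E⁻¹ * D.q u (v' + D.S.B v' w • w) i' := by
        rw [hrE, ← hcq, ← htE]
        calc t' * (E * D.q u v' i') * t' = t' * E * 1 * D.q u v' i' * t' := by group
          _ = _ := by rw [← htt']; group
      have e2 : r⁻¹ = E⁻¹ * D.q u v' (i' + D.S.B w v') := by
        rw [hrE, mul_inv_rev, inv_eq_of_mul_eq_one_left (q_sq hv' i'), hET.inv.2.2 _ _ hv', add_assoc, z_add_self,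
          add_zero]
      rw [hinv, e2] at e1
      exact hfix hv' (mul_left_cancel e1).symm
    have hqt : t' * D.q u v' (i' + D.S.B v v') * t' = D.q u v' (i' + D.S.B v v') := by
      rw [hcq, hvw', zero_smul, add_zero]
    have hfin : y * (r * t') * y = D.q u v' (i' + D.S.B v v') * t' := by
      have e0 : t' * D.q u v' i' * t' = D.q u v' i' := by rw [hcq, hvw', zero_smul, add_zero]
      have e3 : D.q u v' i' * t' = t' * D.q u v' i' := by
        calc D.q u v' i' * t' = (t' * t') * D.q u v' i' * t' := by rw [htt', one_mul]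
          _ = t' * (t' * D.q u v' i' * t') := by group
          _ = _ := by rw [e0]
      calc y * (r * t') * y = y * E * (D.q u v' i' * t') * y := by rw [hrE]; group
        _ = y * (E * t') * D.q u v' i' * y := by rw [e3]; group
        _ = (y * y) * t' * (y * D.q u v' i') * y := by rw [hEt]; group
        _ = t' * (y * D.q u v' i') * y := by rw [hy.sq, one_mul]
        _ = t' * D.q u v' (i' + D.S.B v v') * (y * y) := by rw [hTy.2.2 _ _ hv']; group
        _ = t' * D.q u v' (i' + D.S.B v v') * (t' * t') := by rw [hy.sq, htt']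
        _ = (t' * D.q u v' (i' + D.S.B v v') * t') * t' := by group
        _ = _ := by rw [hqt]
    obtain ⟨g, hg, w', hgw⟩ := C7a (D := D) hu hw hw0 hwu hv' hvw' (i' + D.S.B v v')
    refine ⟨g * y, InR.mul hu hg hyR, w', ?_⟩
    rw [← hgw, ← ht', ← hfin]
    calc g * y * (r * t') * (g * y)⁻¹ = g * y * (r * t') * y⁻¹ * g⁻¹ := by rw [mul_inv_rev]; group
      _ = _ := by rw [inv_eq_of_mul_eq_one_left hy.sq]; group

/-- involutions in `t R_u` -/
theorem C7c (hu : u ≠ 0) (hr : D.InR u r) (h : r * D.t * (r * D.t) = 1) :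
    ∃ g, D.InR u g ∧ ∃ w', g * (r * D.t) * g⁻¹ = D.t * D.b w' := by
  have hinv : D.t * r * D.t = r⁻¹ := by
    rw [eq_inv_iff_mul_eq_one]
    calc D.t * r * D.t * r = r⁻¹ * (r * D.t * (r * D.t)) * r := by group
      _ = 1 := by rw [h]; group
  obtain ⟨c, hc⟩ := hr.1
  by_cases hc0 : c = 0 ∨ c = u
  · obtain ⟨v, i, hv, rfl⟩ := hr.ker hu hc hc0
    by_cases h0 : v = 0 ∨ v = u
    · have : D.q u v i = D.q u 0 i := by
        rcases h0 with rfl | rfl
        · rfl
        · have := q_add_self (D := D) (u := v) (w := 0) (map_zero _) i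
          rwa [zero_add] at this
      refine ⟨1, InR.one, i • u, ?_⟩
      rw [this, q_zero, tb]; group
    · have h0' := h0
      push Not at h0'
      obtain ⟨z, hz, hT⟩ := exZ (D := D) hv hu h0'.1 h0'.2.symm
      have hzi : z⁻¹ = z := inv_eq_of_mul_eq_one_left hz.sq
      refine ⟨z, InR.of_z hu hT hz.sq h0, i • u, ?_⟩
      rw [← q_zero, hzi]
      have e1 : z * (D.t * D.q u 0 i) * z = D.q u v i * D.t := by
        have f1 : z * D.q u 0 i = D.q u 0 i * z := by
          have := hT.2.2 0 i (map_zero _)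
          rwa [map_zero, add_zero] at this
        calc z * (D.t * D.q u 0 i) * z = (z * D.t) * D.q u 0 i * z := by group
          _ = D.t * D.q u v 0 * (z * D.q u 0 i) * z := by rw [hT.2.1]; group
          _ = D.t * (D.q u v 0 * D.q u 0 i) * (z * z) := by rw [f1]; group
          _ = _ := by
            rw [hz.sq, mul_one, q_mul hv (map_zero _), add_zero, map_zero, zero_add, zero_add, tq]
      rw [← e1]
      calc z * (z * (D.t * D.q u 0 i) * z) * z = (z * z) * (D.t * D.q u 0 i) * (z * z) := by group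
        _ = _ := by rw [hz.sq]; group
  · exfalso
    have hc0' := hc0
    push Not at hc0'
    obtain ⟨z, hz, hTz⟩ := exZ (D := D) hc.1 hu hc0'.1 hc0'.2.symm
    obtain ⟨v, i, hv, hrz⟩ := hr.eq_zq hu hc hc0 hTz hz.sq
    have e1 : D.t * r * D.t = z * (D.q u c 0 * D.q u v i) := by
      have f1 : z * D.q u c 0 = D.q u c 0 * z := by
        rw [hTz.2.2 c 0 hc.1, D.S.alt, add_zero]
      rw [hrz]
      calc D.t * (z * D.q u v i) * D.t = D.t * z * (D.q u v i * D.t) := by group
        _ = D.t * (z * D.t) * D.q u v i := by rw [← tq]; group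
        _ = (D.t * D.t) * D.q u c 0 * z * D.q u v i := by rw [hTz.2.1]; group
        _ = _ := by rw [D.tt, one_mul, ← f1]; group
    have e2 : r⁻¹ = z * D.q u v (i + D.S.B c v) := by
      rw [hrz, mul_inv_rev, inv_eq_of_mul_eq_one_left (q_sq hv i), inv_eq_of_mul_eq_one_left hz.sq,
        hTz.2.2 _ _ hv, add_assoc, z_add_self, add_zero]
    rw [hinv, e2] at e1
    have e3 := (mul_left_cancel e1)
    rw [q_mul hc.1 hv] at e3
    rcases (q_eq hu hv (by rw [map_add, hc.1, hv, add_zero]) e3).1 with h4 | h4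
    · exact hc0'.1 (by simpa using h4)
    · exact hc0'.2 (add_right_cancel (by rw [h4, add_comm]))

end Data

end Cfsg.Agent.OddHalf.SpTwo.PatS
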