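import Cfsg.Agent.OddHalf.SpTwo.PatSInv
import Cfsg.Agent.OddHalf.SpTwo.PatSIdx
import Cfsg.Agent.StdSpSix.TR

/-!
# `Sp_{2n}(2)`, pattern {short}: the 2-subgroup `S_0` and the transfer
-/

set_option autoImplicit false

namespace Cfsg.Agent.OddHalf.SpTwo.PatS

open Cfsg.Agent.StandardComponent.SpTwo

variable {G X V : Type*} [Group G] [Group X] [AddCommGroup V] [Module (ZMod 2) V]

namespace Data

variable (D : Data G X V)

/-- A subgroup `S_0` normalised by `t`, containing a Sylow 2-subgroup of `X`, such that the involutions of `t S_0`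
are conjugate to some `t b_w`. -/
def Good : Prop := ∃ S₀ : Subgroup G, (∀ s ∈ S₀, D.t * s * D.t ∈ S₀) ∧ D.t ∉ S₀ ∧ Odd (S₀.comap D.ι).index ∧
  ∀ s ∈ S₀, D.t * s * (D.t * s) = 1 → ∃ g ∈ S₀, ∃ w, g * (D.t * s) * g⁻¹ = D.t * D.b w

variable {D}

theorem good_base (hV : ∀ v : V, v = 0) : D.Good := by
  refine ⟨⊥, ?_, ?_, ?_, ?_⟩
  · intro s hs
    rw [Subgroup.mem_bot] at hs
    rw [hs, mul_one, D.tt]; exact Subgroup.one_mem _
  · intro h
    rw [Subgroup.mem_bot] at h
    exact D.tmem 1 (by rw [map_one, h])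
  · have h1 : ∀ k : X, k = 1 := by
      intro k
      apply D.S.ext_iff
      intro v
      rw [hV (D.S.ρ k v), hV (D.S.ρ 1 v)]
    have h2 : Subgroup.comap D.ι ⊥ = ⊤ := by
      rw [eq_top_iff]
      intro k _
      rw [h1 k]; exact Subgroup.one_mem _
    rw [h2, Subgroup.index_top]
    exact odd_one
  · intro s hs _
    rw [Subgroup.mem_bot] at hs
    refine ⟨1, Subgroup.one_mem _, 0, ?_⟩
    rw [hs, b_zero]; group

variable {u u' : V}

/-- `R_u ∩ C(b_u') = 1` -/
theorem R_cap (hu : u ≠ 0) (h : D.S.B u u' = 1) {r : G} (hr : D.InR u r) (hc : r * D.b u' = D.b u' * r) : r = 1 := by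
  obtain ⟨c, hT⟩ := hr.1
  have h1 : D.S.ρ (s D.S u c) u' = u' := by
    apply fix_of_comm (D := D)
    rw [← q0]
    have e1 : D.q u c 0 = D.t * r * D.t * r⁻¹ := by
      calc D.q u c 0 = (D.t * D.t) * D.q u c 0 * r * r⁻¹ := by rw [D.tt]; group
        _ = D.t * (D.t * D.q u c 0 * r) * r⁻¹ := by group
        _ = _ := by rw [← hT.2.1]; group
    have e2 : Commute (D.t * r * D.t * r⁻¹) (D.b u') := by
      have f1 : Commute D.t (D.b u') := tb u'
      have f2 : Commute r (D.b u') := hc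
      exact ((f1.mul_left f2).mul_left f1).mul_left f2.inv_left
    rw [e1]; exact e2
  have hc0 : c = 0 ∨ c = u := by
    rw [ρ_s hT.1, D.S.symm u' u, h, one_smul] at h1
    have h2 : c + D.S.B u' c • u = 0 := by
      have : u' + (c + D.S.B u' c • u) = u' + 0 := by rw [add_zero, ← add_assoc]; exact h1
      exact add_left_cancel this
    have h3 := eq_of_add _ _ h2
    rcases z2 (D.S.B u' c) with h4 | h4 <;> rw [h4] at h3
    · left; rw [h3, zero_smul]
    · right; rw [h3, one_smul]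
  obtain ⟨w, j, hw, hrq⟩ := hr.ker hu hT hc0
  have h2 : D.S.ρ (s D.S u w * D.S.τ (j • u)) u' = u' := by
    apply fix_of_comm (D := D)
    change D.q u w j * _ = _ * D.q u w j
    rw [← hrq]; exact hc
  rw [ρ_q hw, D.S.symm u' u, h, one_smul, mul_one] at h2
  have h3 : w + (D.S.B u' w + j) • u = 0 := by
    have : u' + (w + (D.S.B u' w + j) • u) = u' + 0 := by
      rw [add_zero, add_smul, ← add_assoc, ← add_assoc]; exact h2
    exact add_left_cancel this
  have h4 := eq_of_add _ _ h3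
  rw [hrq]
  have h5 : w = 0 ∨ w = u := by
    rcases z2 (D.S.B u' w + j) with h5 | h5 <;> rw [h5] at h4
    · left; rw [h4, zero_smul]
    · right; rw [h4, one_smul]
  rcases h5 with rfl | rfl
  · rw [map_zero, zero_add] at h4
    rcases z2 j with rfl | rfl
    · exact q_zero_zero u
    · rw [one_smul] at h4; exact absurd h4.symm hu
  · rw [D.S.symm u' w, h] at h4
    rcases z2 j with rfl | rfl
    · have := q_add_self (D := D) (u := w) (w := 0) (map_zero _) 0
      rw [zero_add] at this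
      rw [this, q_zero_zero]
    · have : (1 + 1 : ZMod 2) = 0 := rfl
      rw [this, zero_smul] at h4; exact absurd h4 hu

theorem good_step (hu : u ≠ 0) (h : D.S.B u u' = 1) [Finite V] (hG : (D.sub hu h).Good) : D.Good := by
  obtain ⟨S₁, h1, h2, h3, h4⟩ := hG
  have hconj : ∀ {s : D.G1 u u' hu} {r : G}, D.InR u r → D.InR u ((s : G) * r * (s : G)⁻¹) := by
    intro s r hr
    exact ((mem_G1.1 s.2).2 r).1 hr
  have hcb : ∀ s : D.G1 u u' hu, (s : G) * D.b u' = D.b u' * s := fun s => (mem_G1.1 s.2).1.2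
  have hti : D.t⁻¹ = D.t := inv_eq_of_mul_eq_one_left D.tt
  let S₀ : Subgroup G :=
    { carrier := {g | ∃ r, D.InR u r ∧ ∃ s : D.G1 u u' hu, s ∈ S₁ ∧ g = r * s}
      mul_mem' := by
        rintro _ _ ⟨r, hr, s, hs, rfl⟩ ⟨r', hr', s', hs', rfl⟩
        refine ⟨r * ((s : G) * r' * (s : G)⁻¹), InR.mul hu hr (hconj hr'), s * s', S₁.mul_mem hs hs', ?_⟩
        rw [Subgroup.coe_mul]; group
      one_mem' := ⟨1, InR.one, 1, S₁.one_mem, by rw [Subgroup.coe_one, mul_one]⟩
      inv_mem' := by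
        rintro _ ⟨r, hr, s, hs, rfl⟩
        refine ⟨((s⁻¹ : D.G1 u u' hu) : G) * r⁻¹ * ((s⁻¹ : D.G1 u u' hu) : G)⁻¹, hconj hr.inv, s⁻¹, S₁.inv_mem hs, ?_⟩
        rw [Subgroup.coe_inv]; group }
  have hmem : ∀ g, g ∈ S₀ ↔ ∃ r, D.InR u r ∧ ∃ s : D.G1 u u' hu, s ∈ S₁ ∧ g = r * s := fun g => Iff.rfl
  have hRS : ∀ {r}, D.InR u r → r ∈ S₀ := fun hr => ⟨_, hr, 1, S₁.one_mem, by rw [Subgroup.coe_one, mul_one]⟩
  have hSS : ∀ {s : D.G1 u u' hu}, s ∈ S₁ → (s : G) ∈ S₀ := fun hs => ⟨1, InR.one, _, hs, by rw [one_mul]⟩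
  refine ⟨S₀, ?_, ?_, ?_, ?_⟩
  · -- `t` normalises `S₀`
    rintro _ ⟨r, hr, s, hs, rfl⟩
    refine ⟨_, hr.conjt, _, h1 s hs, ?_⟩
    rw [Subgroup.coe_mul, Subgroup.coe_mul, sub_t]
    calc D.t * (r * s) * D.t = D.t * r * 1 * s * D.t := by group
      _ = _ := by rw [← D.tt]; group
  · -- `t ∉ S₀`
    rintro ⟨r, hr, s, hs, hrs⟩
    have e1 : r = D.t * (s : G)⁻¹ := by rw [hrs]; group
    have e2 : r = 1 := by
      apply R_cap hu h hr
      rw [e1]
      have f1 : Commute D.t (D.b u') := tb u'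
      have f2 : Commute (s : G) (D.b u') := hcb s
      exact f1.mul_left f2.inv_left
    rw [e2, one_mul] at hrs
    apply h2
    have : s = (D.sub hu h).t := Subtype.ext hrs.symm
    rw [← this]; exact hs
  · -- index
    obtain ⟨A, hA⟩ : ∃ A, A = S₀.comap D.ι := ⟨_, rfl⟩
    rw [← hA]
    have hXX : X1 D.S u u' ≤ Xu D.S u := fun k hk => hk.1
    have e1 : (A ⊓ Xu D.S u).relIndex (Xu D.S u) = (A ⊓ Xu D.S u).relIndex (X1 D.S u u') := by
      apply relIndex_of_prod hXX
      intro k hk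
      obtain ⟨l, hl, c, j, huc, hkl⟩ := exists_q h hk
      refine ⟨l, hl, _, ⟨?_, ?_⟩, hkl⟩
      · rw [hA]
        change D.ι (s D.S u c * D.S.τ (j • u)) ∈ S₀
        exact hRS (InR.of_q huc j)
      · change D.S.ρ (s D.S u c * D.S.τ (j • u)) u = u
        rw [ρ_q huc, D.S.alt, huc]; simp
    have e2 : (S₁.comap (D.sub hu h).ι).index = ((S₁.comap (D.sub hu h).ι).map (X1 D.S u u').subtype).relIndex
        (X1 D.S u u') := by
      rw [Subgroup.relIndex, Subgroup.subgroupOf, Subgroup.comap_map_eq_self_of_injective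
        (Subgroup.subtype_injective _)]
    have e3 : (S₁.comap (D.sub hu h).ι).map (X1 D.S u u').subtype ≤ A ⊓ Xu D.S u := by
      rintro _ ⟨k, hk, rfl⟩
      refine ⟨?_, hXX k.2⟩
      rw [hA]
      change D.ι k ∈ S₀
      exact hSS hk
    have e4 : (A ⊓ Xu D.S u).relIndex (X1 D.S u u') ∣
        ((S₁.comap (D.sub hu h).ι).map (X1 D.S u u').subtype).relIndex (X1 D.S u u') :=
      Subgroup.relIndex_dvd_of_le_left _ e3
    rw [← e2] at e4
    have e5 : Odd ((A ⊓ Xu D.S u).relIndex (Xu D.S u)) := by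
      rw [e1]; exact h3.of_dvd_nat e4
    have e6 : (A ⊓ Xu D.S u).relIndex (Xu D.S u) * (Xu D.S u).index = (A ⊓ Xu D.S u).index :=
      Subgroup.relIndex_mul_index inf_le_right
    have e7 : Odd (A ⊓ Xu D.S u).index := by
      rw [← e6]; exact e5.mul (odd_index_Xu hu)
    exact e7.of_dvd_nat (Subgroup.index_dvd_of_le inf_le_left)
  · -- involutions
    rintro _ ⟨r, hr, s, hs, rfl⟩ hsq
    obtain ⟨r', hr'⟩ : ∃ r', r' = D.t * r * D.t := ⟨_, rfl⟩
    have hr'R : D.InR u r' := by rw [hr']; exact hr.conjt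
    have e1 : D.t * (r * s) = r' * (D.t * s) := by
      rw [hr']
      calc D.t * (r * s) = D.t * r * 1 * s := by group
        _ = _ := by rw [← D.tt]; group
    rw [e1] at hsq
    -- `(t s)² = 1`
    have hts : D.t * s ∈ D.G1 u u' hu := Subgroup.mul_mem _ t_mem_G1 s.2
    have e2 : D.InR u (D.t * s * (D.t * s)) := by
      have f1 : D.InR u ((D.t * s) * r' * (D.t * s)⁻¹) := hconj (s := ⟨D.t * s, hts⟩) hr'R
      have f2 : D.t * s * (D.t * s) = ((D.t * s) * r' * (D.t * s)⁻¹)⁻¹ * r'⁻¹ * (r' * (D.t * s) * (r' * (D.t * s))) := by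
        group
      rw [f2, hsq, mul_one]
      exact InR.mul hu f1.inv hr'R.inv
    have e3 : D.t * s * (D.t * s) = 1 := by
      apply R_cap hu h e2
      have f1 : Commute D.t (D.b u') := tb u'
      have f2 : Commute (s : G) (D.b u') := hcb s
      exact (f1.mul_left f2).mul_left (f1.mul_left f2)
    obtain ⟨g, hg, w, hgw⟩ := h4 s hs (Subtype.ext e3)
    have hgw' : (g : G) * (D.t * s) * (g : G)⁻¹ = D.t * D.b w := congrArg Subtype.val hgw
    have hw := (mem_V1 D.S).1 w.2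
    -- conjugate
    obtain ⟨r'', hr''⟩ : ∃ r'', r'' = (g : G) * r' * (g : G)⁻¹ := ⟨_, rfl⟩
    have hr''R : D.InR u r'' := by rw [hr'']; exact hconj hr'R
    have e4 : (g : G) * (r' * (D.t * s)) * (g : G)⁻¹ = r'' * (D.t * D.b w) := by
      rw [hr'', ← hgw']; group
    have e5 : r'' * (D.t * D.b w) * (r'' * (D.t * D.b w)) = 1 := by
      rw [← e4]
      calc (g : G) * (r' * (D.t * s)) * (g : G)⁻¹ * ((g : G) * (r' * (D.t * s)) * (g : G)⁻¹)
          = (g : G) * (r' * (D.t * s) * (r' * (D.t * s))) * (g : G)⁻¹ := by group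
        _ = 1 := by rw [hsq]; group
    have key : ∃ g', D.InR u g' ∧ ∃ w', g' * (r'' * (D.t * D.b w)) * g'⁻¹ = D.t * D.b w' := by
      by_cases hw0 : (w : V) = 0
      · rw [hw0, b_zero, mul_one] at e5 ⊢
        exact C7c hu hr''R e5
      · exact C7b hu hw.1 hw0 (by
          intro hwu
          have h5 := hw.2
          rw [hwu, D.S.symm, h] at h5
          exact absurd h5 (by decide)) hr''R e5
    obtain ⟨g', hg', w', hw'⟩ := key
    refine ⟨g' * g, S₀.mul_mem (hRS hg') (hSS hg), w', ?_⟩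
    rw [← hw', ← e4, e1]; group

theorem card_V1_lt [Finite V] (h : D.S.B u u' = 1) : Nat.card (V1 D.S u u') < Nat.card V := by
  refine Finite.card_subtype_lt (p := fun v => v ∈ V1 D.S u u') (x := u) ?_
  intro hx
  have h1 := ((mem_V1 D.S).1 hx).2
  rw [D.S.symm, h] at h1
  exact absurd h1 (by decide)

end Data

universe u₁ u₂ u₃

theorem Data.good (n : ℕ) : ∀ {G : Type u₁} {X : Type u₂} {V : Type u₃} [Group G] [Group X] [AddCommGroup V]
    [Module (ZMod 2) V] (D : Data G X V) [Finite V], Nat.card V = n → D.Good := by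
  induction n using Nat.strong_induction_on with
  | _ n ih =>
    intro G X V _ _ _ _ D _ hn
    by_cases hV : ∀ v : V, v = 0
    · exact Data.good_base hV
    · push Not at hV
      obtain ⟨u, hu⟩ := hV
      obtain ⟨u', hu'⟩ := sep1 D.S hu
      have h : D.S.B u u' = 1 := by rw [D.S.symm]; exact hu'
      refine Data.good_step hu h (ih _ ?_ (D.sub hu h) rfl)
      rw [← hn]
      exact Data.card_V1_lt h

/-- **Pattern {short} for `Sp_{2n}(2)`.** -/
theorem Data.main {G : Type u₁} {X : Type u₂} {V : Type u₃} [Group G] [Group X] [AddCommGroup V]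
    [Module (ZMod 2) V] (D : Data G X V) [Finite V] [Finite G] : ∃ m : G →* ℤˣ, m D.t = -1 := by
  classical
  obtain ⟨S₀, h1, h2, h3, h4⟩ := D.good _ rfl
  have hti : D.t⁻¹ = D.t := inv_eq_of_mul_eq_one_left D.tt
  have htt : ∀ g, D.t * (D.t * g) = g := fun g => by rw [← mul_assoc, D.tt, one_mul]
  have m1 : ∀ {a b}, a ∈ S₀ → D.t * b ∈ S₀ → D.t * (a * b) ∈ S₀ := by
    intro a b ha hb
    have : D.t * (a * b) = (D.t * a * D.t) * (D.t * b) := by
      calc D.t * (a * b) = D.t * a * 1 * b := by group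
        _ = _ := by rw [← D.tt]; group
    rw [this]; exact S₀.mul_mem (h1 a ha) hb
  have m2 : ∀ {a b}, D.t * a ∈ S₀ → b ∈ S₀ → D.t * (a * b) ∈ S₀ := by
    intro a b ha hb
    rw [← mul_assoc]; exact S₀.mul_mem ha hb
  have m3 : ∀ {a b}, D.t * a ∈ S₀ → D.t * b ∈ S₀ → a * b ∈ S₀ := by
    intro a b ha hb
    have : a * b = (D.t * (D.t * a) * D.t) * (D.t * b) := by
      calc a * b = (D.t * D.t) * a * (D.t * D.t) * b := by rw [D.tt]; group
        _ = _ := by group
    rw [this]; exact S₀.mul_mem (h1 _ ha) hb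
  let H : Subgroup G :=
    { carrier := {g | g ∈ S₀ ∨ D.t * g ∈ S₀}
      mul_mem' := by
        rintro a b (ha | ha) (hb | hb)
        · exact Or.inl (S₀.mul_mem ha hb)
        · exact Or.inr (m1 ha hb)
        · exact Or.inr (m2 ha hb)
        · exact Or.inl (m3 ha hb)
      one_mem' := Or.inl S₀.one_mem
      inv_mem' := by
        rintro a (ha | ha)
        · exact Or.inl (S₀.inv_mem ha)
        · right
          have : D.t * a⁻¹ = D.t * (D.t * a)⁻¹ * D.t := by
            rw [mul_inv_rev, hti, mul_assoc, mul_assoc a⁻¹, D.tt, mul_one]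
          rw [this]; exact h1 _ (S₀.inv_mem ha) }
  have hH : ∀ g, g ∈ H ↔ (g ∈ S₀ ∨ D.t * g ∈ S₀) := fun g => Iff.rfl
  have htH : D.t ∈ H := by rw [hH, D.tt]; exact Or.inr S₀.one_mem
  have hnot : ∀ {g}, D.t * g ∈ S₀ → g ∉ S₀ := by
    intro g h5 h6
    apply h2
    have : D.t = D.t * g * g⁻¹ := by group
    rw [this]; exact S₀.mul_mem h5 (S₀.inv_mem h6)
  let l : H →* ℤˣ :=
    { toFun := fun g => if (g : G) ∈ S₀ then 1 else -1
      map_one' := by
        rw [if_pos]; exact S₀.one_mem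
      map_mul' := by
        rintro ⟨a, ha⟩ ⟨b, hb⟩
        change (if a * b ∈ S₀ then (1 : ℤˣ) else -1) = (if a ∈ S₀ then 1 else -1) * (if b ∈ S₀ then 1 else -1)
        rcases (hH a).1 ha with ha | ha <;> rcases (hH b).1 hb with hb | hb
        · rw [if_pos ha, if_pos hb, if_pos (S₀.mul_mem ha hb), one_mul]
        · rw [if_pos ha, if_neg (hnot hb), if_neg (hnot (m1 ha hb)), one_mul]
        · rw [if_neg (hnot ha), if_pos hb, if_neg (hnot (m2 ha hb)), mul_one]
        · rw [if_neg (hnot ha), if_neg (hnot hb), if_pos (m3 ha hb), neg_mul_neg, one_mul] }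
  have hl : ∀ g : H, l g = if (g : G) ∈ S₀ then 1 else -1 := fun g => rfl
  refine Cfsg.Agent.StdSpSix.TR.exists_hom_of_class l D.tt htH ?_ ?_ ?_
  · rw [hl, if_neg h2]
  · intro g hg hlg
    rw [hl] at hlg
    have h5 : g⁻¹ * D.t * g ∉ S₀ := by
      intro h6
      rw [if_pos h6] at hlg
      exact absurd hlg (by decide)
    have h6 : D.t * (g⁻¹ * D.t * g) ∈ S₀ := ((hH _).1 hg).resolve_left h5
    have h7 : D.t * (D.t * (g⁻¹ * D.t * g)) = g⁻¹ * D.t * g := htt _
    have h8 : g⁻¹ * D.t * g * (g⁻¹ * D.t * g) = 1 := by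
      calc g⁻¹ * D.t * g * (g⁻¹ * D.t * g) = g⁻¹ * (D.t * D.t) * g := by group
        _ = 1 := by rw [D.tt]; group
    obtain ⟨k, hk, w, hw⟩ := h4 _ h6 (by rw [h7]; exact h8)
    rw [h7] at hw
    have hw0 : w = 0 := by
      by_contra hne
      apply D.notb w hne (k * g⁻¹)
      change _ = D.t * D.b w
      rw [← hw]; group
    rw [hw0, Data.b_zero, mul_one] at hw
    refine ⟨k⁻¹, (hH _).2 (Or.inl (S₀.inv_mem hk)), ?_⟩
    calc g⁻¹ * D.t * g = k⁻¹ * (k * (g⁻¹ * D.t * g) * k⁻¹) * k := by group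
      _ = _ := by rw [hw, inv_inv]
  · have e1 : H.relIndex (Subgroup.centralizer ({D.t} : Set G)) = H.relIndex D.ι.range := by
      apply relIndex_of_prod
      · rintro _ ⟨k, rfl⟩
        rw [Subgroup.mem_centralizer_singleton_iff]
        exact (D.comm k).symm
      · intro k hk
        rw [Subgroup.mem_centralizer_singleton_iff] at hk
        obtain ⟨k', rfl | rfl⟩ := D.cent k hk
        · exact ⟨_, ⟨k', rfl⟩, 1, H.one_mem, by rw [mul_one]⟩
        · exact ⟨_, ⟨k', rfl⟩, D.t, htH, D.comm k'⟩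
    rw [e1, ← Subgroup.index_comap]
    refine h3.of_dvd_nat (Subgroup.index_dvd_of_le ?_)
    exact Subgroup.comap_mono (fun g hg => (hH g).2 (Or.inl hg))

end Cfsg.Agent.OddHalf.SpTwo.PatS
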