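import Cfsg.Agent.OddHalf.SpTwo.PatSRu

/-!
# `Sp_{2n}(2)`, pattern {short}: `y_l` normalises `R_u` for `l ⊥ u`
-/

set_option autoImplicit false

namespace Cfsg.Agent.OddHalf.SpTwo.PatS

open Cfsg.Agent.StandardComponent.SpTwo

variable {G X V : Type*} [Group G] [Group X] [AddCommGroup V] [Module (ZMod 2) V]

namespace Data

variable (D : Data G X V)

/-- `u`, `p`, `r` are independent and mutually perpendicular -/
structure Ind (u p r : V) : Prop where
  hu : u ≠ 0
  hp : p ≠ 0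
  hr : r ≠ 0
  hup : u ≠ p
  hur : u ≠ r
  hpr : p ≠ r
  hupr : u ≠ p + r
  up : D.S.B u p = 0
  ur : D.S.B u r = 0
  pr : D.S.B p r = 0

variable {D}

theorem Ind.swap {u p r : V} (h : D.Ind u p r) : D.Ind u r p :=
  ⟨h.hu, h.hr, h.hp, h.hur, h.hup, h.hpr.symm, by rw [add_comm]; exact h.hupr, h.ur, h.up, by
    rw [D.S.symm]; exact h.pr⟩

variable {u p r x x' : V} {y z : G}

/-- the data of `z`, `x`: `z ∈ V_l ∩ R_r`, `x ⊥ u, r`, `(x,p) = 1`. -/
structure Cfg (D : Data G X V) (u p r x : V) (z : G) : Prop where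
  ind : D.Ind u p r
  isY : D.IsY r p z
  tr : D.Tr r p z
  ux : D.S.B u x = 0
  rx : D.S.B r x = 0
  px : D.S.B p x = 1

theorem comb3 (h : D.Ind u p r) {a b c : ZMod 2} (h1 : a • u + b • p + c • r = 0) : a = 0 ∧ b = 0 ∧ c = 0 := by
  have h2 := h.hup
  have h3 := h.hur
  have h4 := h.hpr
  have h5 := h.hupr
  have h6 := h.hu
  have h7 := h.hp
  have h8 := h.hr
  rcases z2 a with rfl | rfl <;> rcases z2 b with rfl | rfl <;> rcases z2 c with rfl | rfl <;>
    simp only [zero_smul, one_smul, zero_add, add_zero] at h1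
  · exact ⟨rfl, rfl, rfl⟩
  · exact absurd h1 h8
  · exact absurd h1 h7
  · exact absurd (eq_of_add _ _ h1) h4
  · exact absurd h1 h6
  · exact absurd (eq_of_add _ _ h1) h3
  · exact absurd (eq_of_add _ _ h1) h2
  · exact absurd (eq_of_add _ _ (by rw [← add_assoc]; exact h1)) h5

theorem Cfg.L1 (C : Cfg D u p r x z) :
    D.IsY u r (z * D.q u x 0 * z * D.q u x 0) ∧
      D.q u x 0 * (z * D.q u x 0 * z * D.q u x 0) = (z * D.q u x 0 * z * D.q u x 0) * D.q u x 0 := by
  obtain ⟨I, hz, hT, hux, hrx, hpx⟩ := C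
  have huu : D.S.B u u = 0 := D.S.alt u
  have hru : D.S.B r u = 0 := by rw [D.S.symm]; exact I.ur
  have hpu : D.S.B p u = 0 := by rw [D.S.symm]; exact I.up
  have hrp : D.S.B r p = 0 := by rw [D.S.symm]; exact I.pr
  have hkk : D.q u x 0 * D.q u x 0 = 1 := q_sq hux 0
  have hkinv : (D.q u x 0)⁻¹ = D.q u x 0 := inv_eq_of_mul_eq_one_left hkk
  have hσu : D.S.ρ (s D.S u x) u = u := ρ_self hux
  have hσr : D.S.ρ (s D.S u x) r = r := by rw [ρ_s hux, hru, hrx]; simp
  have hσp : D.S.ρ (s D.S u x) p = p + u := by rw [ρ_s hux, hpu, hpx]; simp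
  have hrp0 : ¬ (p = 0 ∨ p = r) := by rintro (h | h); exacts [I.hp h, I.hpr h]
  obtain ⟨zk, hzk⟩ : ∃ g, g = D.ι (s D.S u x) * z * (D.ι (s D.S u x))⁻¹ := ⟨_, rfl⟩
  have hzk' : zk = D.q u x 0 * z * D.q u x 0 := by rw [hzk, ← q0, hkinv]
  have hR1 : D.InR r z := InR.of_z I.hr hT hz.sq hrp0
  have hR2 : D.InR r zk := by rw [hzk]; exact hR1.conj_fix hσr
  have hT2 : D.Tr r (p + u) zk := by
    have := hT.conjK (s D.S u x)
    rwa [hσr, hσp, ← hzk] at this
  obtain ⟨r0, hr0⟩ : ∃ g, g = z * zk := ⟨_, rfl⟩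
  have hr0' : z * D.q u x 0 * z * D.q u x 0 = r0 := by rw [hr0, hzk']; group
  rw [hr0']
  have hR0 : D.InR r r0 := by rw [hr0]; exact InR.mul I.hr hR1 hR2
  have hT0 : D.Tr r u r0 := by
    have := hT.mul hT2
    rwa [aac, ← hr0] at this
  obtain ⟨ζ, hζ, hTζ⟩ := exZ (D := D) hru I.hr I.hu I.hur.symm
  have hu0 : ¬ (u = 0 ∨ u = r) := by rintro (h | h); exacts [I.hu h, I.hur h]
  obtain ⟨w, j, hw, hrq⟩ := hR0.eq_zq I.hr hT0 hu0 hTζ hζ.sq
  -- `r0` commutes with `b e`
  have hce : ∀ e, D.S.B u e = 0 → D.S.B p e = 0 → D.S.B r e = 0 → r0 * D.b e = D.b e * r0 := by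
    intro e h1 h2 h3
    have h4 : D.S.ρ (s D.S u x) e = e + D.S.B e x • u := by
      rw [ρ_s hux, D.S.symm e u, h1]; simp
    have h5 : D.S.ρ (s D.S u x) (e + D.S.B e x • u) = e := by
      rw [map_add, map_smul, h4, hσu, add_assoc, aa, add_zero]
    have h6 : D.q u x 0 * D.b e = D.b (e + D.S.B e x • u) * D.q u x 0 := by rw [q0, ιb, h4]
    have h7 : D.q u x 0 * D.b (e + D.S.B e x • u) = D.b e * D.q u x 0 := by rw [q0, ιb, h5]
    have h8 : z * D.b (e + D.S.B e x • u) = D.b (e + D.S.B e x • u) * z :=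
      hz.comm _ (by rw [map_add, map_smul, h3, hru]; simp) (by rw [map_add, map_smul, h2, hpu]; simp)
    calc r0 * D.b e = z * D.q u x 0 * z * (D.q u x 0 * D.b e) := by rw [← hr0']; group
      _ = z * D.q u x 0 * (z * D.b (e + D.S.B e x • u)) * D.q u x 0 := by rw [h6]; group
      _ = z * (D.q u x 0 * D.b (e + D.S.B e x • u)) * z * D.q u x 0 := by rw [h8]; group
      _ = (z * D.b e) * D.q u x 0 * z * D.q u x 0 := by rw [h7]; group
      _ = _ := by rw [hz.comm e h3 h2, ← hr0']; group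
  have hqr : D.q r w j = ζ * r0 := by rw [hrq, ← mul_assoc, hζ.sq, one_mul]
  have hwe : ∀ e, D.S.B u e = 0 → D.S.B p e = 0 → D.S.B r e = 0 → D.S.B w e = 0 := by
    intro e h1 h2 h3
    have h4 : D.q r w j * D.b e = D.b e * D.q r w j := by
      calc D.q r w j * D.b e = ζ * (r0 * D.b e) := by rw [hqr]; group
        _ = (ζ * D.b e) * r0 := by rw [hce e h1 h2 h3]; group
        _ = _ := by rw [hζ.comm e h3 h1, hqr]; group
    rw [q, ιb] at h4
    have h5 := D.S.τ_injective (D.inj (mul_right_cancel h4))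
    rw [ρ_q hw, D.S.symm e r, h3] at h5
    have h6 : D.S.B e w • r = 0 := by simpa using h5
    rw [D.S.symm]
    rcases z2 (D.S.B e w) with h7 | h7
    · exact h7
    · rw [h7, one_smul] at h6
      exact absurd h6 I.hr
  obtain ⟨a, b, c, hwd⟩ := perp3 (S := D.S) hwe
  have hr0sq : r0 * r0 = 1 := by
    have h1 : D.S.B u w = 0 := by
      rw [hwd]; simp [huu, I.up, I.ur]
    rw [hrq, hTζ.sq_q hζ.sq hw, h1, zero_smul, b_zero]
  have hkr : D.q u x 0 * r0 = r0 * D.q u x 0 := by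
    have h1 : r0⁻¹ = r0 := inv_eq_of_mul_eq_one_left hr0sq
    have h2 : D.q u x 0 * r0 * D.q u x 0 = r0 := by
      nth_rewrite 2 [← h1]
      rw [eq_inv_iff_mul_eq_one, ← hr0']
      calc D.q u x 0 * (z * D.q u x 0 * z * D.q u x 0) * D.q u x 0 * (z * D.q u x 0 * z * D.q u x 0)
          = D.q u x 0 * z * D.q u x 0 * z * (D.q u x 0 * D.q u x 0) * z * D.q u x 0 * z * D.q u x 0 := by group
        _ = D.q u x 0 * z * D.q u x 0 * (z * z) * D.q u x 0 * z * D.q u x 0 := by rw [hkk]; group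
        _ = D.q u x 0 * z * (D.q u x 0 * D.q u x 0) * z * D.q u x 0 := by rw [hz.sq]; group
        _ = D.q u x 0 * (z * z) * D.q u x 0 := by rw [hkk]; group
        _ = 1 := by rw [hz.sq, mul_one, hkk]
    calc D.q u x 0 * r0 = D.q u x 0 * r0 * (D.q u x 0 * D.q u x 0) := by rw [hkk, mul_one]
      _ = (D.q u x 0 * r0 * D.q u x 0) * D.q u x 0 := by group
      _ = _ := by rw [h2]
  have hkζ : ζ * D.q u x 0 = D.q u x 0 * ζ := hζ.comm_q hru hrx huu hux 0
  have hkq : D.q u x 0 * D.q r w j = D.q r w j * D.q u x 0 := by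
    calc D.q u x 0 * D.q r w j = (D.q u x 0 * ζ) * r0 := by rw [hqr]; group
      _ = ζ * (D.q u x 0 * r0) := by rw [← hkζ]; group
      _ = _ := by rw [hkr, hqr]; group
  have hb : b = 0 := by
    nth_rewrite 1 [q0] at hkq
    rw [ιq, hσr, ← q0] at hkq
    have h1 := mul_right_cancel hkq
    have h2 : D.S.ρ (s D.S u x) w = w + b • u := by
      have h3 : D.S.B w u = 0 := by rw [hwd]; simp [huu, hpu, hru]
      have h4 : D.S.B w x = b := by rw [hwd]; simp [hux, hpx, hrx]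
      rw [ρ_s hux, h3, h4]; simp
    rw [h2] at h1
    have h3 := (q_eq I.hr hw (by rw [map_add, map_smul, hw, hru]; simp : D.S.B r (w + b • u) = 0) h1.symm).1
    rcases h3 with h3 | h3
    · have : b • u = 0 := by simpa using h3
      rcases z2 b with rfl | rfl
      · rfl
      · rw [one_smul] at this; exact absurd this I.hu
    · have : b • u = r := add_left_cancel h3
      rcases z2 b with rfl | rfl
      · rfl
      · rw [one_smul] at this; exact absurd this I.hur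
  subst hb
  refine ⟨?_, hkr⟩
  apply IsY.symm hru
  refine ⟨hr0sq, hT0.2.1, ?_⟩
  intro e h1 h2
  have h3 : D.S.B w e = 0 := by rw [hwd]; simp [h1, h2]
  calc r0 * D.b e = ζ * (D.q r w j * D.b e) := by rw [hrq]; group
    _ = (ζ * D.b e) * D.q r w j := by rw [q_b h1 h3]; group
    _ = _ := by rw [hζ.comm e h1 h2, hrq]; group

/-- `A' := q u p 0`, the two alternatives of the commutator of `h = z k z` with `k'`. -/
theorem Cfg.alt (C : Cfg D u p r x z) (hux' : D.S.B u x' = 0) (hrx' : D.S.B r x' = 1) :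
    (z * D.q u x 0 * z) * D.q u x' 0 = D.q u r 0 * (D.q u x' 0 * (z * D.q u x 0 * z)) ∨
    (z * D.q u x 0 * z) * D.q u x' 0 = D.q u 0 1 * (D.q u x' 0 * (z * D.q u x 0 * z)) := by
  obtain ⟨h1, h2⟩ := C.L1
  obtain ⟨I, hz, hT, hux, hrx, hpx⟩ := C
  obtain ⟨r0, hr0⟩ : ∃ g, g = z * D.q u x 0 * z * D.q u x 0 := ⟨_, rfl⟩
  rw [← hr0] at h1 h2
  have hkk : D.q u x 0 * D.q u x 0 = 1 := q_sq hux 0
  have hh : z * D.q u x 0 * z = r0 * D.q u x 0 := by
    rw [hr0, mul_assoc _ (D.q u x 0) (D.q u x 0), hkk, mul_one]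
  have hkk' : D.q u x 0 * D.q u x' 0 = D.q u x' 0 * D.q u x 0 := q_comm hux hux' 0 0
  rcases h1.typ I.hu I.hr I.hur I.ur hux' hrx' with h3 | h3
  · left
    rw [hh]
    calc r0 * D.q u x 0 * D.q u x' 0 = (r0 * D.q u x' 0) * D.q u x 0 := by rw [mul_assoc, hkk']; group
      _ = (D.q u x' 0 * D.q u r 0) * r0 * D.q u x 0 := by rw [h3]
      _ = _ := by rw [q_comm hux' I.ur]; group
  · right
    rw [hh]
    have h4 : D.q u x' 1 = D.q u 0 1 * D.q u x' 0 := by
      rw [q_mul (map_zero _) hux', zero_add, map_zero, LinearMap.zero_apply, zero_add, add_zero]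
    calc r0 * D.q u x 0 * D.q u x' 0 = (r0 * D.q u x' 0) * D.q u x 0 := by rw [mul_assoc, hkk']; group
      _ = _ := by rw [h3, h4]; group

/-- the commutator of `z k z` with `k'` is `b_u`. -/
theorem Cfg.L3 (C : Cfg D u p r x z) (hux' : D.S.B u x' = 0) (hrx' : D.S.B r x' = 1) (hpx' : D.S.B p x' = 0) :
    (z * D.q u x 0 * z) * D.q u x' 0 = D.q u 0 1 * (D.q u x' 0 * (z * D.q u x 0 * z)) := by
  rcases C.alt hux' hrx' with h1 | h1
  swap
  · exact h1
  exfalso
  have hC := C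
  obtain ⟨I, hz, hT, hux, hrx, hpx⟩ := C
  have huu : D.S.B u u = 0 := D.S.alt u
  have hru : D.S.B r u = 0 := by rw [D.S.symm]; exact I.ur
  have hpu : D.S.B p u = 0 := by rw [D.S.symm]; exact I.up
  have hrp : D.S.B r p = 0 := by rw [D.S.symm]; exact I.pr
  have hkk : D.q u x 0 * D.q u x 0 = 1 := q_sq hux 0
  have hkk' : D.q u x' 0 * D.q u x' 0 = 1 := q_sq hux' 0
  obtain ⟨H', hH'⟩ : ∃ g, g = z * D.q u x' 0 * z := ⟨_, rfl⟩
  have hAz : z * D.q u r 0 = D.q u r 0 * z := hz.comm_q hru (D.S.alt r) hpu I.pr 0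
  have hAk : D.q u r 0 * D.q u x 0 = D.q u x 0 * D.q u r 0 := q_comm I.ur hux 0 0
  have hAA : D.q u r 0 * D.q u r 0 = 1 := q_sq I.ur 0
  have hzz := hz.sq
  -- `H' k = A k H'`
  have h2 : H' * D.q u x 0 = D.q u r 0 * (D.q u x 0 * H') := by
    have e1 : D.q u x 0 * H' = D.q u r 0 * (H' * D.q u x 0) := by
      calc D.q u x 0 * H' = (z * z) * D.q u x 0 * z * D.q u x' 0 * z := by rw [hH', hzz]; group
        _ = z * ((z * D.q u x 0 * z) * D.q u x' 0) * z := by group
        _ = (z * D.q u r 0) * D.q u x' 0 * z * D.q u x 0 * (z * z) := by rw [h1]; group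
        _ = _ := by rw [hAz, hzz, hH']; group
    rw [e1, ← mul_assoc, hAA, one_mul]
  -- a `z'` of type `b` at `p`
  have hx2 : ∃ z', (z' = z ∨ z' = z * D.b r) ∧ Cfg D u r p x' z' := by
    rcases (hz.symm hrp).typ' I.hp I.hr I.hpr I.pr with h3 | h3
    · refine ⟨z * D.b r, Or.inr rfl, I.swap, ?_, ?_, hux', hpx', hrx'⟩
      · exact (hz.symm hrp).mul_b I.pr (Or.inr (Or.inl rfl))
      · exact (hz.symm hrp).tr_of_a I.pr h3
    · exact ⟨z, Or.inl rfl, I.swap, hz.symm hrp, (hz.symm hrp).tr_of_b I.pr h3, hux', hpx', hrx'⟩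
  obtain ⟨z', hz', C'⟩ := hx2
  have hbk : D.b r * D.q u x 0 = D.q u x 0 * D.b r := (q_b I.ur (by rw [D.S.symm]; exact hrx) 0).symm
  have hbb : D.b r * D.b r = 1 := b_sq r
  have hzb : z * D.b r = D.b r * z := hz.comm r (D.S.alt r) I.pr
  have hbp : ∀ {w : V} {j : ZMod 2}, (w = p ∨ w = 0) → D.b r * D.q u w j = D.q u w j * D.b r := by
    intro w j hw
    refine (q_b I.ur ?_ j).symm
    rcases hw with rfl | rfl
    · exact I.pr
    · rw [map_zero, LinearMap.zero_apply]
  have key : ∀ {w : V} {j : ZMod 2}, (w = p ∨ w = 0) → (z' * D.q u x' 0 * z') * D.q u x 0 =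
      D.q u w j * (D.q u x 0 * (z' * D.q u x' 0 * z')) → D.q u r 0 = D.q u w j := by
    intro w j hw h4
    have h5 : H' * D.q u x 0 = D.q u w j * (D.q u x 0 * H') := by
      rcases hz' with rfl | rfl
      · rw [hH']; exact h4
      · have e1 : z * D.b r * D.q u x' 0 * (z * D.b r) = D.b r * H' * D.b r := by
          rw [hH']
          calc z * D.b r * D.q u x' 0 * (z * D.b r) = (z * D.b r) * D.q u x' 0 * z * D.b r := by group
            _ = _ := by rw [hzb]; group
        rw [e1] at h4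
        calc H' * D.q u x 0 = (D.b r * D.b r) * H' * (D.b r * D.b r) * D.q u x 0 := by rw [hbb]; group
          _ = D.b r * (D.b r * H' * D.b r) * (D.b r * D.q u x 0) := by group
          _ = D.b r * (D.b r * H' * D.b r * D.q u x 0) * D.b r := by rw [hbk]; group
          _ = (D.b r * D.q u w j) * D.q u x 0 * D.b r * H' * (D.b r * D.b r) := by rw [h4]; group
          _ = D.q u w j * (D.b r * D.q u x 0) * D.b r * H' := by rw [hbp hw, hbb]; group
          _ = D.q u w j * D.q u x 0 * (D.b r * D.b r) * H' := by rw [hbk]; group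
          _ = _ := by rw [hbb]; group
    rw [h2] at h5
    exact mul_right_cancel h5
  rcases C'.alt hux hpx with h3 | h3
  · have h4 := (q_eq I.hu I.ur I.up (key (Or.inl rfl) h3)).1
    rcases h4 with h4 | h4
    · exact I.hpr h4
    · apply I.hupr
      rw [h4, add_comm, aac]
  · have h4 := (q_eq I.hu I.ur (map_zero _) (key (Or.inr rfl) h3)).2
    exact absurd h4 (by decide)

/-- `z k z ∈ R_u` (`z` of type `b` at `r`). -/
theorem Cfg.L4 (C : Cfg D u p r x z) : D.InR u (z * D.q u x 0 * z) := by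
  have hC := C
  obtain ⟨h1, h2⟩ := C.L1
  obtain ⟨I, hz, hT, hux, hrx, hpx⟩ := C
  have huu : D.S.B u u = 0 := D.S.alt u
  have hru : D.S.B r u = 0 := by rw [D.S.symm]; exact I.ur
  have hpu : D.S.B p u = 0 := by rw [D.S.symm]; exact I.up
  have hrp : D.S.B r p = 0 := by rw [D.S.symm]; exact I.pr
  have hkk : D.q u x 0 * D.q u x 0 = 1 := q_sq hux 0
  obtain ⟨h, hh⟩ : ∃ g, g = z * D.q u x 0 * z := ⟨_, rfl⟩
  rw [← hh] at h1 h2 ⊢
  obtain ⟨x', hx1, hx2, hx3⟩ := sep3 D.S (c := r) (d := u) (e := p) I.hr I.hur.symm I.hpr.symm (by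
    intro h3
    apply I.hupr
    rw [h3, add_comm p, aab])
  rw [D.S.symm] at hx1 hx2 hx3
  have hL3 := hC.L3 (x' := x') hx2 hx1 hx3
  rw [← hh] at hL3
  have hhb : h * D.b u = D.b u * h := by
    have e1 : z * D.b u = D.b u * z := hz.comm u hru hpu
    have e2 : D.q u x 0 * D.b u = D.b u * D.q u x 0 := q_b huu (by rw [D.S.symm]; exact hux) 0
    rw [hh]
    calc z * D.q u x 0 * z * D.b u = z * D.q u x 0 * (z * D.b u) := by group
      _ = z * (D.q u x 0 * D.b u) * z := by rw [e1]; group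
      _ = (z * D.b u) * D.q u x 0 * z := by rw [e2]; group
      _ = _ := by rw [e1]; group
  have hsq : h * h = 1 := by
    rw [hh]
    calc z * D.q u x 0 * z * (z * D.q u x 0 * z) = z * D.q u x 0 * (z * z) * D.q u x 0 * z := by group
      _ = z * (D.q u x 0 * D.q u x 0) * z := by rw [hz.sq]; group
      _ = 1 := by rw [hkk, mul_one, hz.sq]
  -- `h t = t (q u r 0) h`
  have hht : h * D.t = D.t * D.q u r 0 * h := by
    have e1 : h = (z * D.q u x 0 * z * D.q u x 0) * D.q u x 0 := by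
      rw [mul_assoc _ (D.q u x 0) (D.q u x 0), hkk, mul_one]; exact hh
    rw [← hh] at e1
    calc h * D.t = h * D.q u x 0 * (D.q u x 0 * D.t) := by
            nth_rewrite 1 [e1]; group
      _ = (h * D.q u x 0 * D.t) * D.q u x 0 := by rw [← tq]; group
      _ = _ := by rw [h1.ht, mul_assoc _ (h * D.q u x 0), ← e1]
  have hwk : ∀ w, D.S.B u w = 0 → ∃ j, h * D.q u w 0 = D.q u w j * h := by
    -- closure under addition
    have hadd : ∀ w w', D.S.B u w = 0 → D.S.B u w' = 0 → (∃ j, h * D.q u w 0 = D.q u w j * h) →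
        (∃ j, h * D.q u w' 0 = D.q u w' j * h) → ∃ j, h * D.q u (w + w') 0 = D.q u (w + w') j * h := by
      rintro w w' hw hw' ⟨j, hj⟩ ⟨j', hj'⟩
      have e1 : D.q u (w + w') 0 = D.q u w 0 * (D.q u w' 0 * D.q u 0 (D.S.B w w')) := by
        rw [q_mul hw' (map_zero _), add_zero, map_zero, zero_add, zero_add, q_mul hw hw', add_zero, z_add_self]
      have e2 : h * D.q u 0 (D.S.B w w') = D.q u 0 (D.S.B w w') * h := by
        rw [q_zero]
        rcases z2 (D.S.B w w') with h3 | h3 <;> rw [h3]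
        · rw [zero_smul, b_zero, mul_one, one_mul]
        · rw [one_smul, hhb]
      refine ⟨D.S.B w w' + j + (0 + j' + D.S.B w w'), ?_⟩
      calc h * D.q u (w + w') 0 = (h * D.q u w 0) * (D.q u w' 0 * D.q u 0 (D.S.B w w')) := by rw [e1]; group
        _ = D.q u w j * (h * D.q u w' 0) * D.q u 0 (D.S.B w w') := by rw [hj]; group
        _ = D.q u w j * D.q u w' j' * (h * D.q u 0 (D.S.B w w')) := by rw [hj']; group
        _ = D.q u w j * (D.q u w' j' * D.q u 0 (D.S.B w w')) * h := by rw [e2]; group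
        _ = _ := by
          rw [q_mul hw' (map_zero _), add_zero, map_zero, q_mul hw hw']
    have h0 : ∀ w, D.S.B u w = 0 → D.S.B p w = 0 → D.S.B r w = 0 → ∃ j, h * D.q u w 0 = D.q u w j * h := by
      intro w hw1 hw2 hw3
      refine ⟨0, ?_⟩
      have e1 : z * D.q u w 0 = D.q u w 0 * z := hz.comm_q hru hw3 hpu hw2 0
      have e2 : D.q u x 0 * D.q u w 0 = D.q u w 0 * D.q u x 0 := q_comm hux hw1 0 0
      rw [hh]
      calc z * D.q u x 0 * z * D.q u w 0 = z * D.q u x 0 * (z * D.q u w 0) := by group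
        _ = z * (D.q u x 0 * D.q u w 0) * z := by rw [e1]; group
        _ = (z * D.q u w 0) * D.q u x 0 * z := by rw [e2]; group
        _ = _ := by rw [e1]; group
    have hx0 : ∃ j, h * D.q u x 0 = D.q u x j * h := by
      refine ⟨0, ?_⟩
      have e1 : D.q u x 0 * (h * D.q u x 0) * D.q u x 0 = (h * D.q u x 0) * D.q u x 0 * D.q u x 0 := by rw [h2]
      calc h * D.q u x 0 = (h * D.q u x 0) * D.q u x 0 * D.q u x 0 := by
            rw [mul_assoc _ (D.q u x 0) (D.q u x 0), hkk, mul_one]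
        _ = D.q u x 0 * (h * D.q u x 0) * D.q u x 0 := e1.symm
        _ = D.q u x 0 * h * (D.q u x 0 * D.q u x 0) := by group
        _ = _ := by rw [hkk, mul_one]
    have hx0' : ∃ j, h * D.q u x' 0 = D.q u x' j * h := by
      refine ⟨1, ?_⟩
      rw [hL3, ← mul_assoc, q_mul (map_zero _) hx2, zero_add, map_zero, LinearMap.zero_apply, zero_add, add_zero]
    intro w hw
    have hsm : ∀ (a : ZMod 2) v, (∃ j, h * D.q u v 0 = D.q u v j * h) → ∃ j, h * D.q u (a • v) 0 = D.q u (a • v) j * h := by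
      intro a v hv
      rcases z2 a with rfl | rfl
      · refine ⟨0, ?_⟩
        rw [zero_smul, q_zero_zero, mul_one, one_mul]
      · rw [one_smul]; exact hv
    have e1 : w = (w + D.S.B p w • x + D.S.B r w • x') + D.S.B p w • x + D.S.B r w • x' := by
      have f1 := aa (D.S.B p w • x)
      have f2 := aa (D.S.B r w • x')
      calc w = w + (D.S.B p w • x + D.S.B p w • x) + (D.S.B r w • x' + D.S.B r w • x') := by rw [f1, f2]; simp
        _ = _ := by abel
    have g1 : D.S.B u (w + D.S.B p w • x + D.S.B r w • x') = 0 := by simp [hw, hux, hx2]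
    have g2 : D.S.B p (w + D.S.B p w • x + D.S.B r w • x') = 0 := by simp [hpx, hx3, z_add_self]
    have g3 : D.S.B r (w + D.S.B p w • x + D.S.B r w • x') = 0 := by simp [hrx, hx1, z_add_self]
    rw [e1]
    refine hadd _ _ (by simp [hw, hux, hx2]) (by simp [hx2]) (hadd _ _ g1 (by simp [hux]) (h0 _ g1 g2 g3) ?_) ?_
    · exact hsm _ _ hx0
    · exact hsm _ _ hx0'
  have hTr : D.Tr u r h := Tr.of_weak I.hu hhb I.ur hht hwk
  exact InR.of_z I.hu hTr hsq (by rintro (h3 | h3); exacts [I.hr h3, I.hur h3.symm])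

/-- (N1) -/
theorem N1 (I : D.Ind u p r) (hy : D.IsY p r y) (hux : D.S.B u x = 0) (hrx : D.S.B r x = 0)
    (hpx : D.S.B p x = 1) : D.InR u (y * D.q u x 0 * y) := by
  have hrp : D.S.B r p = 0 := by rw [D.S.symm]; exact I.pr
  have hy' := hy.symm I.pr
  rcases hy'.typ' I.hr I.hp I.hpr.symm hrp with h1 | h1
  · have C : Cfg D u p r x (y * D.b p) := ⟨I, hy'.mul_b hrp (Or.inr (Or.inl rfl)), hy'.tr_of_a hrp h1, hux, hrx, hpx⟩
    have h2 := C.L4.conj_fix (k := D.S.τ p) (by rw [D.S.hτ, I.up, zero_smul, add_zero])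
    have h3 : D.ι (D.S.τ p) * (y * D.b p * D.q u x 0 * (y * D.b p)) * (D.ι (D.S.τ p))⁻¹ = y * D.q u x 0 * y := by
      have e1 : y * D.b p = D.b p * y := hy.comm p (D.S.alt p) hrp
      have e2 : D.b p * D.b p = 1 := b_sq p
      change D.b p * (y * D.b p * D.q u x 0 * (y * D.b p)) * (D.b p)⁻¹ = _
      calc D.b p * (y * D.b p * D.q u x 0 * (y * D.b p)) * (D.b p)⁻¹
          = D.b p * (y * D.b p) * D.q u x 0 * y := by group
        _ = (D.b p * D.b p) * y * D.q u x 0 * y := by rw [e1]; group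
        _ = _ := by rw [e2]; group
    rwa [h3] at h2
  · exact Cfg.L4 ⟨I, hy', hy'.tr_of_b hrp h1, hux, hrx, hpx⟩

/-- (N2) `y Q_u y ≤ R_u`. -/
theorem N2 (I : D.Ind u p r) (hy : D.IsY p r y) {w : V} (hw : D.S.B u w = 0) (j : ZMod 2) :
    D.InR u (y * D.q u w j * y) := by
  have hru : D.S.B r u = 0 := by rw [D.S.symm]; exact I.ur
  have hpu : D.S.B p u = 0 := by rw [D.S.symm]; exact I.up
  obtain ⟨x, hx1, hx2, hx3⟩ := sep3 D.S (c := p) (d := u) (e := r) I.hp I.hup.symm I.hpr (by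
    intro h3
    apply I.hupr
    rw [h3, aab])
  rw [D.S.symm] at hx1 hx2 hx3
  obtain ⟨x', hy1, hy2, hy3⟩ := sep3 D.S (c := r) (d := u) (e := p) I.hr I.hur.symm I.hpr.symm (by
    intro h3
    apply I.hupr
    rw [h3, add_comm p, aab])
  rw [D.S.symm] at hy1 hy2 hy3
  have hyy := hy.sq
  have hb : ∀ i : ZMod 2, y * D.q u 0 i * y = D.q u 0 i := by
    intro i
    have e1 : y * D.q u 0 i = D.q u 0 i * y := hy.comm_q hpu (map_zero _) hru (map_zero _) i
    rw [e1, mul_assoc, hyy, mul_one]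
  have hmul : ∀ g g', D.InR u (y * g * y) → D.InR u (y * g' * y) → D.InR u (y * (g * g') * y) := by
    intro g g' h1 h2
    have : y * (g * g') * y = (y * g * y) * (y * g' * y) := by
      calc y * (g * g') * y = y * g * (y * y) * g' * y := by rw [hyy]; group
        _ = _ := by group
    rw [this]; exact InR.mul I.hu h1 h2
  have hb' : ∀ i, D.InR u (y * D.q u 0 i * y) := fun i => by rw [hb]; exact InR.of_q (map_zero _) i
  have hadd : ∀ w w', D.S.B u w = 0 → D.S.B u w' = 0 → D.InR u (y * D.q u w 0 * y) →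
      D.InR u (y * D.q u w' 0 * y) → D.InR u (y * D.q u (w + w') 0 * y) := by
    intro w w' hw hw' h1 h2
    have e1 : D.q u (w + w') 0 = D.q u w 0 * D.q u w' 0 * D.q u 0 (D.S.B w w') := by
      rw [q_mul hw hw', q_mul (by rw [map_add, hw, hw', add_zero]) (map_zero _), add_zero, map_zero, zero_add,
        add_zero, add_zero, z_add_self]
    rw [e1]
    exact hmul _ _ (hmul _ _ h1 h2) (hb' _)
  have h0 : ∀ w, D.S.B u w = 0 → D.S.B p w = 0 → D.S.B r w = 0 → D.InR u (y * D.q u w 0 * y) := by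
    intro w hw1 hw2 hw3
    have e1 : y * D.q u w 0 = D.q u w 0 * y := hy.comm_q hpu hw2 hru hw3 0
    rw [e1, mul_assoc, hyy, mul_one]
    exact InR.of_q hw1 0
  have hx : D.InR u (y * D.q u x 0 * y) := N1 I hy hx2 hx3 hx1
  have hx' : D.InR u (y * D.q u x' 0 * y) := N1 I.swap (hy.symm I.pr) hy2 hy3 hy1
  have hsm : ∀ (a : ZMod 2) v, D.InR u (y * D.q u v 0 * y) → D.InR u (y * D.q u (a • v) 0 * y) := by
    intro a v hv
    rcases z2 a with rfl | rfl
    · rw [zero_smul]; exact hb' 0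
    · rw [one_smul]; exact hv
  have e1 : w = (w + D.S.B p w • x + D.S.B r w • x') + D.S.B p w • x + D.S.B r w • x' := by
    have f1 := aa (D.S.B p w • x)
    have f2 := aa (D.S.B r w • x')
    calc w = w + (D.S.B p w • x + D.S.B p w • x) + (D.S.B r w • x' + D.S.B r w • x') := by rw [f1, f2]; simp
      _ = _ := by abel
  have g1 : D.S.B u (w + D.S.B p w • x + D.S.B r w • x') = 0 := by simp [hw, hx2, hy2]
  have g2 : D.S.B p (w + D.S.B p w • x + D.S.B r w • x') = 0 := by simp [hx1, hy3, z_add_self]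
  have g3 : D.S.B r (w + D.S.B p w • x + D.S.B r w • x') = 0 := by simp [hx3, hy1, z_add_self]
  have h5 : D.InR u (y * D.q u w 0 * y) := by
    rw [e1]
    refine hadd _ _ (by simp [hw, hx2, hy2]) (by simp [hy2]) (hadd _ _ g1 (by simp [hx2]) (h0 _ g1 g2 g3) ?_) ?_
    · exact hsm _ _ hx
    · exact hsm _ _ hx'
  have e2 : D.q u w j = D.q u w 0 * D.q u 0 j := by
    rw [q_mul hw (map_zero _), add_zero, map_zero, zero_add, zero_add]
  rw [e2]
  exact hmul _ _ h5 (hb' _)

end Data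

end Cfsg.Agent.OddHalf.SpTwo.PatS
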