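import Cfsg.Agent.OddHalf.SpTwo.PatSN

/-!
# `Sp_{2n}(2)`, pattern {short}: `y_l` normalises `R_u` for `l ⊥ u`, end
-/

set_option autoImplicit false

namespace Cfsg.Agent.OddHalf.SpTwo.PatS

open Cfsg.Agent.StandardComponent.SpTwo

variable {G X V : Type*} [Group G] [Group X] [AddCommGroup V] [Module (ZMod 2) V]

namespace Data

variable {D : Data G X V}

variable {u p r c c' : V} {y z f g : G}

theorem ι_ne {k k' : X} : D.ι k ≠ D.t * D.ι k' := by
  intro h
  apply D.tmem (k * k'⁻¹)
  rw [map_mul, h, mul_assoc, ← map_mul, mul_inv_cancel, map_one, mul_one]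

/-- uniqueness of the translation part -/
theorem Tr.uniq (hu : u ≠ 0) (h : D.Tr u c g) (hc' : D.S.B u c' = 0) (h' : g * D.t = D.t * D.q u c' 0 * g) :
    D.Tr u c' g ∧ (c' = c ∨ c' = c + u) := by
  have h1 := h.2.1
  rw [h'] at h1
  have h2 : D.q u c 0 = D.q u c' 0 := by
    have h3 := mul_right_cancel h1
    exact (mul_left_cancel h3).symm
  have h3 := (q_eq hu h.1 hc' h2).1
  refine ⟨?_, h3⟩
  rcases h3 with rfl | rfl
  · exact h
  · exact h.add_self

theorem ρ_a (I : D.Ind u p r) (v : V) : D.S.ρ (s D.S p r) v = v + D.S.B v p • r + D.S.B v r • p := ρ_s I.pr v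

theorem ρ_au (I : D.Ind u p r) : D.S.ρ (s D.S p r) u = u := by
  rw [ρ_s I.pr, I.up, I.ur]; simp

/-- conjugation by `t' = t a_l` on `Q_u` -/
theorem conj_t'q (I : D.Ind u p r) (w : V) (j : ZMod 2) :
    D.t * D.q p r 0 * D.q u w j * (D.t * D.q p r 0) = D.q u (D.S.ρ (s D.S p r) w) j := by
  have h1 : D.q p r 0 * D.q u w j = D.q u (D.S.ρ (s D.S p r) w) j * D.q p r 0 := by
    rw [q0, ιq, ρ_au I]
  calc D.t * D.q p r 0 * D.q u w j * (D.t * D.q p r 0)
      = D.t * (D.q p r 0 * D.q u w j) * D.t * D.q p r 0 := by group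
    _ = D.t * D.q u (D.S.ρ (s D.S p r) w) j * (D.q p r 0 * D.t) * D.q p r 0 := by rw [h1]; group
    _ = (D.t * D.q u (D.S.ρ (s D.S p r) w) j) * D.t * (D.q p r 0 * D.q p r 0) := by rw [← tq]; group
    _ = _ := by rw [tq, q_sq I.pr, mul_one, mul_assoc, D.tt, mul_one]

/-- `ρ_a w ∈ {w, w + u}` forces `w ⊥ p, r`. -/
theorem perp_of (I : D.Ind u p r) {w : V} (h : D.S.ρ (s D.S p r) w = w ∨ D.S.ρ (s D.S p r) w = w + u) :
    D.S.B w p = 0 ∧ D.S.B w r = 0 := by
  rw [ρ_a I] at h
  have h1 : ∃ a : ZMod 2, a • u + D.S.B w r • p + D.S.B w p • r = 0 := by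
    rcases h with h | h
    · refine ⟨0, ?_⟩
      have h2 : w + (D.S.B w p • r + D.S.B w r • p) = w + 0 := by rw [add_zero, ← add_assoc]; exact h
      have h3 := add_left_cancel h2
      rw [zero_smul, zero_add, add_comm]; exact h3
    · refine ⟨1, ?_⟩
      have h2 : w + (D.S.B w p • r + D.S.B w r • p) = w + u := by rw [← add_assoc]; exact h
      have h3 := add_left_cancel h2
      rw [one_smul, ← h3]
      have f1 := aa (D.S.B w p • r)
      have f2 := aa (D.S.B w r • p)
      calc D.S.B w p • r + D.S.B w r • p + D.S.B w r • p + D.S.B w p • r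
          = (D.S.B w p • r + D.S.B w p • r) + (D.S.B w r • p + D.S.B w r • p) := by abel
        _ = 0 := by rw [f1, f2, add_zero]
  obtain ⟨a, ha⟩ := h1
  obtain ⟨-, h2, h3⟩ := comb3 I ha
  exact ⟨h3, h2⟩

theorem claimC (I : D.Ind u p r) (hy : D.IsY p r y) (hf : D.InR u f) {j : ZMod 2}
    (h : D.t * D.q p r 0 * f * (D.t * D.q p r 0) = f * D.q u 0 j) : ∃ w i, D.S.B u w = 0 ∧ f = y * D.q u w i * y := by
  have hu := I.hu
  have hru : D.S.B r u = 0 := by rw [D.S.symm]; exact I.ur
  have hpu : D.S.B p u = 0 := by rw [D.S.symm]; exact I.up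
  have hau : ∀ {w}, D.S.B u w = 0 → D.S.B u (D.S.ρ (s D.S p r) w) = 0 := by
    intro w hw
    rw [ρ_a I]; simp [hw, I.up, I.ur]
  -- elements of `Q_u` fixed by `t'` mod `b_u` are fixed by `y`
  have hfix : ∀ w i i', D.S.B u w = 0 → D.q u (D.S.ρ (s D.S p r) w) i = D.q u w i' → ∀ k,
      y * D.q u w k = D.q u w k * y := by
    intro w i i' hw h1 k
    have h2 := (q_eq hu hw (hau hw) h1.symm).1
    obtain ⟨h3, h4⟩ := perp_of I h2
    exact hy.comm_q hpu (by rw [D.S.symm]; exact h3) hru (by rw [D.S.symm]; exact h4) k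
  obtain ⟨c, hc⟩ := hf.1
  by_cases hc0 : c = 0 ∨ c = u
  · obtain ⟨w, i, hw, rfl⟩ := hf.ker hu hc hc0
    refine ⟨w, i, hw, ?_⟩
    rw [conj_t'q I, q_mul hw (map_zero _), add_zero] at h
    rw [hfix w _ _ hw h i, mul_assoc, hy.sq, mul_one]
  · have hc0' := hc0
    push Not at hc0'
    obtain ⟨z, hz, hTz⟩ := exZ (D := D) hc.1 hu hc0'.1 hc0'.2.symm
    obtain ⟨w, i, hw, hfz⟩ := hf.eq_zq hu hc hc0 hTz hz.sq
    have hAinv : (D.q p r 0)⁻¹ = D.q p r 0 := inv_eq_of_mul_eq_one_left (q_sq I.pr 0)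
    -- `c ⊥ p, r`
    have h1 : D.Tr u (0 + D.S.ρ (s D.S p r) c + 0) (D.t * D.q p r 0 * f * (D.t * D.q p r 0)) := by
      have h2 := ((Tr.of_t (D := D) u).mul (by
        have := hc.conjK (s D.S p r)
        rwa [ρ_au I] at this)).mul (Tr.of_t u)
      have h3 : D.t * (D.ι (s D.S p r) * f * (D.ι (s D.S p r))⁻¹) * D.t =
          D.t * D.q p r 0 * f * (D.t * D.q p r 0) := by
        rw [← q0, hAinv]
        calc D.t * (D.q p r 0 * f * D.q p r 0) * D.t = D.t * D.q p r 0 * f * (D.q p r 0 * D.t) := by group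
          _ = _ := by rw [← tq]
      rwa [h3] at h2
    rw [zero_add, add_zero] at h1
    have h2 : D.Tr u (c + 0) (f * D.q u 0 j) := hc.mul (Tr.of_q (map_zero _) j)
    rw [← h, add_zero] at h2
    obtain ⟨hcp, hcr⟩ := perp_of I ((h2.uniq hu h1.1 h1.2.1).2)
    have hzA : z * D.q p r 0 = D.q p r 0 * z := hz.comm_q I.up I.ur hcp hcr 0
    have htz : D.t * z * D.t = z * D.q u c 0 := by
      have e1 : z * D.q u c 0 = D.q u c 0 * z := by
        rw [hTz.2.2 c 0 hc.1, D.S.alt, add_zero]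
      rw [e1]
      calc D.t * z * D.t = D.t * (z * D.t) := by group
        _ = (D.t * D.t) * D.q u c 0 * z := by rw [hTz.2.1]; group
        _ = _ := by rw [D.tt, one_mul]
    have h3 : D.t * D.q p r 0 * f * (D.t * D.q p r 0) =
        z * (D.q u c 0 * D.q u (D.S.ρ (s D.S p r) w) i) := by
      rw [← conj_t'q I w i, hfz]
      have e1 : D.q p r 0 * D.q p r 0 = 1 := q_sq I.pr 0
      calc D.t * D.q p r 0 * (z * D.q u w i) * (D.t * D.q p r 0)
          = D.t * (D.q p r 0 * z) * D.q u w i * (D.t * D.q p r 0) := by group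
        _ = D.t * z * D.q p r 0 * D.q u w i * (D.t * D.q p r 0) := by rw [← hzA]; group
        _ = D.t * z * (D.t * D.t) * D.q p r 0 * D.q u w i * (D.t * D.q p r 0) := by rw [D.tt]; group
        _ = (D.t * z * D.t) * (D.t * D.q p r 0 * D.q u w i * (D.t * D.q p r 0)) := by group
        _ = _ := by rw [htz]; group
    rw [h3, hfz, mul_assoc] at h
    have h4 := mul_left_cancel h
    rw [q_mul hc.1 (hau hw), q_mul hw (map_zero _)] at h4
    simp only [add_zero] at h4
    have h5 := (q_eq hu hw (by rw [map_add, hc.1, hau hw, add_zero]) h4.symm).1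
    -- `d = w + ρ w`
    obtain ⟨d, hd⟩ : ∃ d, d = D.S.B w p • r + D.S.B w r • p := ⟨_, rfl⟩
    have hρw : D.S.ρ (s D.S p r) w = d + w := by rw [ρ_a I, hd]; abel
    have hcd : c = d ∨ c = d + u := by
      rw [hρw] at h5
      rcases h5 with h5 | h5
      · left
        have : c + d + w = 0 + w := by rw [zero_add, add_assoc]; exact h5
        exact eq_of_add _ _ (add_right_cancel this)
      · right
        have h6 : c + d + w = u + w := by rw [add_assoc, h5, add_comm]
        have h7 := add_right_cancel h6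
        rw [← h7, add_comm c d, aac]
    have hud : D.S.B u d = 0 := by rw [hd]; simp [I.up, I.ur]
    have hdp : D.S.B p d = 0 := by rw [hd]; simp [I.pr, D.S.alt]
    have hdr : D.S.B r d = 0 := by rw [hd]; simp [D.S.symm r p, I.pr, D.S.alt]
    have hdw : D.S.B d w = 0 := by
      rw [hd]
      simp only [map_add, map_smul, LinearMap.add_apply, LinearMap.smul_apply, smul_eq_mul, D.S.symm r w,
        D.S.symm p w]
      rw [mul_comm]; exact z_add_self _
    obtain ⟨m, hm⟩ : ∃ m, m = y * D.q u w 0 * y := ⟨_, rfl⟩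
    have hmR : D.InR u m := by rw [hm]; exact N2 I hy hw 0
    have hyt : y * D.t = D.t * D.q p r 0 * y := hy.ht
    have hmt : m * D.t = D.t * D.q u d 0 * m := by
      have e1 : D.q u w 0 * D.q p r 0 = D.q p r 0 * D.q u (d + w) 0 := by
        have e2 : D.q p r 0 * D.q u (d + w) 0 = D.q u w 0 * D.q p r 0 := by
          rw [q0 p r, ιq, ρ_au I]
          congr 2
          have : D.S.ρ (s D.S p r) (d + w) = D.S.ρ (s D.S p r) (D.S.ρ (s D.S p r) w) := by rw [hρw]
          rw [this, ← D.S.ρ_mul, s_sq I.pr, D.S.ρ_one]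
        exact e2.symm
      have e2 : D.q u (d + w) 0 = D.q u d 0 * D.q u w 0 := by
        rw [q_mul hud hw, hdw]; rfl
      have e3 : y * D.q u d 0 = D.q u d 0 * y := hy.comm_q hpu hdp hru hdr 0
      have e4 : y * D.q p r 0 = D.q p r 0 * y := hy.comm_q (D.S.alt p) I.pr (by rw [D.S.symm]; exact I.pr)
        (D.S.alt r) 0
      calc m * D.t = y * D.q u w 0 * (y * D.t) := by rw [hm]; group
        _ = y * (D.q u w 0 * D.t) * D.q p r 0 * y := by rw [hyt]; group
        _ = (y * D.t) * (D.q u w 0 * D.q p r 0) * y := by rw [← tq]; group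
        _ = D.t * D.q p r 0 * (y * D.q p r 0) * D.q u (d + w) 0 * y := by rw [hyt, e1]; group
        _ = D.t * (D.q p r 0 * D.q p r 0) * (y * D.q u d 0) * D.q u w 0 * y := by rw [e4, e2]; group
        _ = _ := by rw [q_sq I.pr, e3, hm]; group
    obtain ⟨c'', hc''⟩ := hmR.1
    have hTm := (hc''.uniq hu hud hmt).1
    obtain ⟨v, k, hv, hmf⟩ := (InR.mul hu hmR.inv hf).ker hu (hTm.inv.mul hc) (by
      rcases hcd with rfl | rfl
      · left; exact aa _
      · right; exact aac _ _)
    have hfm : f = m * D.q u v k := by rw [← hmf]; group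
    have hmt' : D.t * D.q p r 0 * m * (D.t * D.q p r 0) = m := by
      have e1 : D.t * D.q p r 0 * y = y * D.t := hyt.symm
      have e2 : y * (D.t * D.q p r 0) = D.t * y := by rw [hy.ht']; group
      calc D.t * D.q p r 0 * m * (D.t * D.q p r 0)
          = (D.t * D.q p r 0 * y) * D.q u w 0 * (y * (D.t * D.q p r 0)) := by rw [hm]; group
        _ = y * (D.t * D.q u w 0) * D.t * y := by rw [e1, e2]; group
        _ = y * D.q u w 0 * (D.t * D.t) * y := by rw [tq]; group
        _ = _ := by rw [D.tt, hm]; group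
    have h6 : D.t * D.q p r 0 * f * (D.t * D.q p r 0) = m * D.q u (D.S.ρ (s D.S p r) v) k := by
      rw [← conj_t'q I v k, hfm]
      have e1 : (D.t * D.q p r 0) * (D.t * D.q p r 0) = 1 := by
        calc D.t * D.q p r 0 * (D.t * D.q p r 0) = D.t * (D.q p r 0 * D.t) * D.q p r 0 := by group
          _ = (D.t * D.t) * (D.q p r 0 * D.q p r 0) := by rw [← tq]; group
          _ = 1 := by rw [D.tt, q_sq I.pr, one_mul]
      calc D.t * D.q p r 0 * (m * D.q u v k) * (D.t * D.q p r 0)
          = D.t * D.q p r 0 * m * ((D.t * D.q p r 0) * (D.t * D.q p r 0)) * D.q u v k * (D.t * D.q p r 0) := by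
            rw [e1]; group
        _ = (D.t * D.q p r 0 * m * (D.t * D.q p r 0)) * ((D.t * D.q p r 0) * D.q u v k * (D.t * D.q p r 0)) := by
            group
        _ = _ := by rw [hmt']
    have h7 : m * D.q u (D.S.ρ (s D.S p r) v) k = m * (D.q u v k * D.q u 0 j) := by
      rw [← h6, h3, h, ← mul_assoc, ← hfz, hfm, mul_assoc]
    have h8 := mul_left_cancel h7
    rw [q_mul hv (map_zero _), add_zero] at h8
    refine ⟨w + v, D.S.B w v + 0 + k, by rw [map_add, hw, hv, add_zero], ?_⟩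
    rw [← q_mul hw hv, hfm, hm]
    calc y * D.q u w 0 * y * D.q u v k = y * D.q u w 0 * (y * D.q u v k) := by group
      _ = _ := by rw [hfix v _ _ hv h8 k]; group

/-- (N3) `y_l` normalises `R_u`. -/
theorem N3 (I : D.Ind u p r) (hy : D.IsY p r y) (hg : D.InR u g) : D.InR u (y * g * y) := by
  have hu := I.hu
  have hru : D.S.B r u = 0 := by rw [D.S.symm]; exact I.ur
  have hpu : D.S.B p u = 0 := by rw [D.S.symm]; exact I.up
  have hyy := hy.sq
  have hyt : y * D.t = D.t * D.q p r 0 * y := hy.ht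
  have hyt' : y * (D.t * D.q p r 0) = D.t * y := by rw [hy.ht']; group
  have ht't' : (D.t * D.q p r 0) * (D.t * D.q p r 0) = 1 := by
    calc D.t * D.q p r 0 * (D.t * D.q p r 0) = D.t * (D.q p r 0 * D.t) * D.q p r 0 := by group
      _ = (D.t * D.t) * (D.q p r 0 * D.q p r 0) := by rw [← tq]; group
      _ = 1 := by rw [D.tt, q_sq I.pr, one_mul]
  have hyb : y * D.b u = D.b u * y := hy.comm u hpu hru
  have hgb : g * D.b u = D.b u * g := hg.1.choose_spec.comm_b
  -- `t'`-conjugation preserves `R_u`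
  have ht' : ∀ {g}, D.InR u g → D.InR u ((D.t * D.q p r 0) * g * (D.t * D.q p r 0)) := by
    intro g hg
    have h1 := (hg.conj_fix (k := s D.S p r) (ρ_au I)).conjt
    have h3 : D.t * (D.ι (s D.S p r) * g * (D.ι (s D.S p r))⁻¹) * D.t =
        D.t * D.q p r 0 * g * (D.t * D.q p r 0) := by
      rw [← q0, inv_eq_of_mul_eq_one_left (q_sq I.pr 0)]
      calc D.t * (D.q p r 0 * g * D.q p r 0) * D.t = D.t * D.q p r 0 * g * (D.q p r 0 * D.t) := by group
        _ = _ := by rw [← tq]
    rwa [h3] at h1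
  obtain ⟨f, hf⟩ : ∃ f, f = (D.t * D.q p r 0) * g * (D.t * D.q p r 0) * g⁻¹ := ⟨_, rfl⟩
  have hfR : D.InR u f := by rw [hf]; exact InR.mul hu (ht' hg) hg.inv
  obtain ⟨j, hj⟩ := hfR.2.1
  have hfinv : f⁻¹ = f * D.q u 0 j := by
    rw [q_zero, ← hj]
    have h1 : f * f * (f * f) = 1 := by
      rw [hj, b_sq]
    rw [inv_eq_iff_mul_eq_one, ← h1]; group
  have h1 : D.t * D.q p r 0 * f * (D.t * D.q p r 0) = f * D.q u 0 j := by
    rw [← hfinv, eq_inv_iff_mul_eq_one]
    calc D.t * D.q p r 0 * f * (D.t * D.q p r 0) * f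
        = (D.t * D.q p r 0 * (D.t * D.q p r 0)) * g * (D.t * D.q p r 0) * g⁻¹ * (D.t * D.q p r 0 *
          (D.t * D.q p r 0)) * g * (D.t * D.q p r 0) * g⁻¹ := by rw [hf]; group
      _ = g * (D.t * D.q p r 0) * (g⁻¹ * g) * (D.t * D.q p r 0) * g⁻¹ := by rw [ht't']; group
      _ = g * (D.t * D.q p r 0 * (D.t * D.q p r 0)) * g⁻¹ := by group
      _ = 1 := by rw [ht't']; group
  obtain ⟨w, i, hw, hfw⟩ := claimC I hy hfR h1
  have hyf : y * f * y = D.q u w i := by
    rw [hfw]
    calc y * (y * D.q u w i * y) * y = (y * y) * D.q u w i * (y * y) := by group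
      _ = _ := by rw [hyy]; group
  have hT : D.Tr u w (y * g * y) := by
    refine Tr.of_weak (i := i) hu ?_ hw ?_ ?_
    · calc y * g * y * D.b u = y * g * (y * D.b u) := by group
        _ = y * (g * D.b u) * y := by rw [hyb]; group
        _ = (y * D.b u) * g * y := by rw [hgb]; group
        _ = _ := by rw [hyb]; group
    · have e1 : g * (D.t * D.q p r 0) = (D.t * D.q p r 0) * f * g := by
        rw [hf]
        calc g * (D.t * D.q p r 0) = 1 * (g * (D.t * D.q p r 0)) := by group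
          _ = _ := by rw [← ht't']; group
      calc y * g * y * D.t = y * g * (y * D.t) := by group
        _ = y * (g * (D.t * D.q p r 0)) * y := by rw [hyt]; group
        _ = (y * (D.t * D.q p r 0)) * f * g * y := by rw [e1]; group
        _ = D.t * (y * f) * (y * y) * g * y := by rw [hyt', hyy]; group
        _ = D.t * (y * f * y) * (y * g * y) := by group
        _ = _ := by rw [hyf]
    · intro v hv
      have hm := N2 I hy hv 0
      obtain ⟨k, hk⟩ := InR.comm hu hg hm
      refine ⟨k, ?_⟩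
      have e1 : y * D.q u v 0 = (y * D.q u v 0 * y) * y := by
        rw [mul_assoc _ y y, hyy, mul_one]
      have e2 : y * D.b (k • u) = D.b (k • u) * y := by
        rcases z2 k with rfl | rfl
        · rw [zero_smul, b_zero, mul_one, one_mul]
        · rw [one_smul, hyb]
      have e3 : D.q u v k = D.b (k • u) * D.q u v 0 := by
        rw [← q_zero, q_mul (map_zero _) hv, zero_add, map_zero, LinearMap.zero_apply, zero_add, add_zero]
      calc y * g * y * D.q u v 0 = y * g * (y * D.q u v 0) := by group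
        _ = y * g * (y * D.q u v 0 * y * y) := by rw [← e1]
        _ = y * (g * (y * D.q u v 0 * y)) * y := by group
        _ = (y * D.b (k • u)) * (y * D.q u v 0 * y) * g * y := by rw [hk]; group
        _ = D.b (k • u) * (y * y) * D.q u v 0 * y * g * y := by rw [e2]; group
        _ = _ := by rw [hyy, e3]; group
  refine ⟨⟨w, hT⟩, ?_, ?_⟩
  · obtain ⟨k, hk⟩ := hg.2.1
    refine ⟨k, ?_⟩
    have e2 : y * D.b (k • u) = D.b (k • u) * y := by
      rcases z2 k with rfl | rfl
      · rw [zero_smul, b_zero, mul_one, one_mul]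
      · rw [one_smul, hyb]
    calc y * g * y * (y * g * y) = y * g * (y * y) * g * y := by group
      _ = y * (g * g) * y := by rw [hyy]; group
      _ = _ := by rw [hk, e2, mul_assoc, hyy, mul_one]
  · intro v k hv h3
    have h4 : g = D.t * D.q p r 0 * (y * D.q u v k * y) := by
      calc g = (y * y) * g * (y * y) := by rw [hyy]; group
        _ = y * (y * g * y) * y := by group
        _ = (y * D.t) * D.q u v k * y := by rw [h3]; group
        _ = _ := by rw [hyt]; group
    have h5 : D.InR u (D.t * D.q p r 0) := by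
      have h6 := InR.mul hu hg (N2 I hy hv k).inv
      rw [h4] at h6
      have h7 : D.t * D.q p r 0 * (y * D.q u v k * y) * (y * D.q u v k * y)⁻¹ = D.t * D.q p r 0 := by group
      rwa [h7] at h6
    obtain ⟨c, hc⟩ := h5.1
    have h6 : D.t * D.q p r 0 * D.t = D.t * D.q u 0 0 * (D.t * D.q p r 0) := by
      rw [q_zero_zero, mul_one, mul_assoc, ← tq]
    obtain ⟨v', k', hv', h7⟩ := h5.ker hu (hc.uniq hu (map_zero _) h6).1 (Or.inl rfl)
    exact ι_ne (D := D) h7.symm

end Data

end Cfsg.Agent.OddHalf.SpTwo.PatS
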