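import Cfsg.Agent.OddHalf.SpTwo.PatSBase

/-!
# `Sp_{2n}(2)`, pattern {short}: the groups `R_u`
-/

set_option autoImplicit false

namespace Cfsg.Agent.OddHalf.SpTwo.PatS

open Cfsg.Agent.StandardComponent.SpTwo

/-- An involution `t` with `C_G(t) = <t> x X`, `X = Sp_{2n}(2)`, only short root elements moved. -/
structure Data (G X V : Type*) [Group G] [Group X] [AddCommGroup V] [Module (ZMod 2) V] where
  S : SpData X V
  ι : X →* G
  inj : Function.Injective ι
  t : G
  tt : t * t = 1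
  comm : ∀ k, t * ι k = ι k * t
  tmem : ∀ k, ι k ≠ t
  cent : ∀ g, g * t = t * g → ∃ k, g = ι k ∨ g = t * ι k
  notb : ∀ u, u ≠ 0 → ∀ g, g * t * g⁻¹ ≠ t * ι (S.τ u)
  notc : ∀ u w, S.B u w = 0 → u ≠ 0 → w ≠ 0 → u ≠ w → ∀ g, g * t * g⁻¹ ≠ t * ι (S.τ u * S.τ w)
  ex : ∀ u w, S.B u w = 0 → u ≠ 0 → w ≠ 0 → u ≠ w → ∃ y : G, y * y = 1 ∧ y * t * y = t * ι (s S u w) ∧
    ∀ e, S.B u e = 0 → S.B w e = 0 → y * ι (S.τ e) = ι (S.τ e) * y

variable {G X V : Type*} [Group G] [Group X] [AddCommGroup V] [Module (ZMod 2) V]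

namespace Data

variable (D : Data G X V)

def b (v : V) : G := D.ι (D.S.τ v)

def q (u w : V) (j : ZMod 2) : G := D.ι (s D.S u w * D.S.τ (j • u))

variable {D}

theorem b_sq (v : V) : D.b v * D.b v = 1 := by
  rw [b, ← map_mul, D.S.τ_sq, map_one]

theorem b_zero : D.b 0 = 1 := by rw [b, D.S.τ_zero, map_one]

theorem tb (v : V) : D.t * D.b v = D.b v * D.t := D.comm _

theorem tq (u w : V) (j : ZMod 2) : D.t * D.q u w j = D.q u w j * D.t := D.comm _

theorem b_comm {u w : V} (h : D.S.B u w = 0) : D.b u * D.b w = D.b w * D.b u := by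
  rw [b, b, ← map_mul, ← map_mul, D.S.τ_commute h]

theorem ιb (k : X) (v : V) : D.ι k * D.b v = D.b (D.S.ρ k v) * D.ι k := by
  rw [b, b, ← map_mul, ← map_mul, mul_τ]

theorem ιq (k : X) (u w : V) (j : ZMod 2) : D.ι k * D.q u w j = D.q (D.S.ρ k u) (D.S.ρ k w) j * D.ι k := by
  rw [q, q, ← map_mul, ← map_mul, ← mul_assoc, mul_s, mul_assoc, mul_τ, map_smul, mul_assoc]

theorem q_mul {u w w' : V} (h : D.S.B u w = 0) (h' : D.S.B u w' = 0) (i j : ZMod 2) :
    D.q u w i * D.q u w' j = D.q u (w + w') (D.S.B w w' + i + j) := by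
  rw [q, q, ← map_mul, PatS.q_mul h h', q]

theorem q_zero (u : V) (j : ZMod 2) : D.q u 0 j = D.b (j • u) := by rw [q, s_zero, one_mul, b]

theorem q_zero_zero (u : V) : D.q u 0 0 = 1 := by rw [q_zero, zero_smul, b_zero]

theorem q_zero_one (u : V) : D.q u 0 1 = D.b u := by rw [q_zero, one_smul]

theorem q_add_self {u w : V} (h : D.S.B u w = 0) (j : ZMod 2) : D.q u (w + u) j = D.q u w j := by
  rw [q, s_add_self h, q]

theorem q_sq {u w : V} (h : D.S.B u w = 0) (j : ZMod 2) : D.q u w j * D.q u w j = 1 := by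
  rw [q_mul h h, aa, D.S.alt, zero_add, z_add_self, q_zero_zero]

theorem q_comm {u w w' : V} (h : D.S.B u w = 0) (h' : D.S.B u w' = 0) (i j : ZMod 2) :
    D.q u w i * D.q u w' j = D.q u w' j * D.q u w i := by
  rw [q_mul h h', q_mul h' h, add_comm w w', D.S.symm w w', add_assoc, add_assoc, add_comm i j]

theorem q_b {u w e : V} (hu : D.S.B u e = 0) (hw : D.S.B w e = 0) (j : ZMod 2) :
    D.q u w j * D.b e = D.b e * D.q u w j := by
  have : D.S.B (j • u) e = 0 := by rw [map_smul, LinearMap.smul_apply, hu, smul_zero]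
  rw [q, b, ← map_mul, ← map_mul, mul_assoc, D.S.τ_commute this, ← mul_assoc, s_τ hu hw, mul_assoc]

theorem q_eq {u w w' : V} (hu : u ≠ 0) (h : D.S.B u w = 0) (h' : D.S.B u w' = 0) {i j : ZMod 2}
    (h1 : D.q u w i = D.q u w' j) : (w' = w ∨ w' = w + u) ∧ i = j :=
  PatS.q_eq hu h h' (D.inj h1)

theorem q_eq_one {u w : V} (hu : u ≠ 0) (h : D.S.B u w = 0) {j : ZMod 2} (h1 : D.q u w j = 1) :
    (w = 0 ∨ w = u) ∧ j = 0 :=
  PatS.q_eq_one hu h (D.inj (by rw [map_one]; exact h1))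

theorem q_ne_t (u w : V) (j : ZMod 2) : D.q u w j ≠ D.t := D.tmem _

/-- `q u w 0` and `b`. -/
theorem q_one {u w : V} (j : ZMod 2) : D.q u w (j + 1) = D.q u w j * D.b u := by
  rw [q, q, b, ← map_mul, mul_assoc]
  congr 2
  rcases z2 j with rfl | rfl
  · rw [zero_add, one_smul, zero_smul, D.S.τ_zero, one_mul]
  · rw [show (1 + 1 : ZMod 2) = 0 from rfl, one_smul, zero_smul, D.S.τ_sq, D.S.τ_zero]

variable (D)

/-- conjugates of `t` -/
def InD (x : G) : Prop := ∃ g : G, g * D.t * g⁻¹ = x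

variable {D}

theorem inD_t : D.InD D.t := ⟨1, by group⟩

theorem InD.conj {x : G} (h : D.InD x) (g : G) : D.InD (g * x * g⁻¹) := by
  obtain ⟨k, rfl⟩ := h
  exact ⟨g * k, by group⟩

theorem InD.of_mul {x y g : G} (h : D.InD x) (h1 : g * x = y * g) : D.InD y := by
  have : y = g * x * g⁻¹ := by rw [h1]; group
  rw [this]; exact h.conj g

theorem inD_q {u w : V} (h : D.S.B u w = 0) : D.InD (D.t * D.q u w 0) := by
  by_cases h0 : u = 0 ∨ w = 0 ∨ u = w
  · have : D.q u w 0 = 1 := by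
      rcases h0 with rfl | rfl | rfl
      · rw [q, s, zero_add, D.S.τ_zero, one_mul, D.S.τ_sq, smul_zero, D.S.τ_zero, one_mul, map_one]
      · exact q_zero_zero u
      · rw [q, s_self, zero_smul, D.S.τ_zero, one_mul, map_one]
    rw [this, mul_one]; exact inD_t
  · push Not at h0
    obtain ⟨y, hy, hy1, -⟩ := D.ex u w h h0.1 h0.2.1 h0.2.2
    refine ⟨y, ?_⟩
    rw [inv_eq_of_mul_eq_one_left hy, hy1, q, zero_smul, D.S.τ_zero, mul_one]

theorem not_inD {u w : V} (hu : u ≠ 0) (h : D.S.B u w = 0) : ¬ D.InD (D.t * D.q u w 1) := by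
  rintro ⟨g, hg⟩
  by_cases h0 : w = 0
  · subst h0
    rw [q_zero_one] at hg
    exact D.notb u hu g hg
  by_cases h1 : w = u
  · subst h1
    have : D.q w w 1 = D.b w := by rw [q, s_self, one_mul, one_smul, b]
    rw [this] at hg
    exact D.notb w hu g hg
  have h2 : D.S.B w (u + w) = 0 := by rw [map_add, D.S.symm w u, h, D.S.alt, add_zero]
  refine D.notc w (u + w) h2 h0 ?_ ?_ g ?_
  · intro h3; exact h1 (eq_of_add _ _ h3).symm
  · intro h3
    apply hu
    have := aa w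
    calc u = u + w + w := by rw [aab]
      _ = 0 := by rw [← h3, this]
  · rw [hg, q, one_smul]
    congr 2
    have h4 : D.S.B (u + w) u = 0 := by rw [map_add, LinearMap.add_apply, D.S.alt, D.S.symm, h, zero_add]
    rw [s, mul_assoc, D.S.τ_commute h4, mul_assoc, ← mul_assoc (D.S.τ w), D.S.τ_commute (by rw [D.S.symm]; exact h :
      D.S.B w u = 0), mul_assoc, ← mul_assoc, D.S.τ_sq, one_mul]

theorem inD_zero {u w : V} (hu : u ≠ 0) (h : D.S.B u w = 0) {j : ZMod 2} (h1 : D.InD (D.t * D.q u w j)) : j = 0 := by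
  rcases z2 j with rfl | rfl
  · rfl
  · exact absurd h1 (not_inD hu h)

variable (D)

/-- `g` acts as the translation `c` on `tQ_u`. -/
def Tr (u c : V) (g : G) : Prop :=
  D.S.B u c = 0 ∧ g * D.t = D.t * D.q u c 0 * g ∧ ∀ w j, D.S.B u w = 0 → g * D.q u w j = D.q u w (j + D.S.B c w) * g

variable {D}

theorem Tr.comm_b {u c : V} {g : G} (h : D.Tr u c g) : g * D.b u = D.b u * g := by
  have := h.2.2 0 1 (map_zero _)
  rwa [map_zero, add_zero, q_zero_one] at this

theorem Tr.comm_bj {u c : V} {g : G} (h : D.Tr u c g) (j : ZMod 2) : g * D.b (j • u) = D.b (j • u) * g := by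
  have := h.2.2 0 j (map_zero _)
  rwa [map_zero, add_zero, q_zero] at this

theorem Tr.mul {u c c' : V} {g g' : G} (h : D.Tr u c g) (h' : D.Tr u c' g') : D.Tr u (c + c') (g * g') := by
  refine ⟨by rw [map_add, h.1, h'.1, add_zero], ?_, ?_⟩
  · calc g * g' * D.t = g * (g' * D.t) := by group
      _ = (g * D.t) * D.q u c' 0 * g' := by rw [h'.2.1]; group
      _ = D.t * D.q u c 0 * (g * D.q u c' 0) * g' := by rw [h.2.1]; group
      _ = D.t * (D.q u c 0 * D.q u c' (0 + D.S.B c c')) * (g * g') := by rw [h.2.2 _ _ h'.1]; group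
      _ = _ := by
        rw [q_mul h.1 h'.1, add_zero, zero_add, z_add_self]
  · intro w j hw
    calc g * g' * D.q u w j = g * (g' * D.q u w j) := by group
      _ = g * D.q u w (j + D.S.B c' w) * g' := by rw [h'.2.2 _ _ hw]; group
      _ = _ := by
        rw [h.2.2 _ _ hw, map_add, LinearMap.add_apply, add_assoc j, add_comm (D.S.B c' w), mul_assoc]

theorem Tr.one (u : V) : D.Tr u 0 1 := by
  refine ⟨map_zero _, ?_, ?_⟩
  · rw [q_zero_zero]; group
  · intro w j _
    rw [map_zero, LinearMap.zero_apply, add_zero]; group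

theorem Tr.inv {u c : V} {g : G} (h : D.Tr u c g) : D.Tr u c g⁻¹ := by
  refine ⟨h.1, ?_, ?_⟩
  · rw [inv_mul_eq_iff_eq_mul]
    calc D.t = D.t * (D.q u c 0 * D.q u c (0 + D.S.B c c)) * (g * g⁻¹) := by
          rw [q_mul h.1 h.1, aa, D.S.alt]; simp [q_zero_zero]
      _ = D.t * D.q u c 0 * (g * D.q u c 0) * g⁻¹ := by rw [h.2.2 _ _ h.1]; group
      _ = (g * D.t) * D.q u c 0 * g⁻¹ := by rw [h.2.1]; group
      _ = _ := by group
  · intro w j hw
    rw [inv_mul_eq_iff_eq_mul]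
    calc D.q u w j = D.q u w (j + D.S.B c w + D.S.B c w) * g * g⁻¹ := by
          rw [add_assoc, z_add_self, add_zero]; group
      _ = g * D.q u w (j + D.S.B c w) * g⁻¹ := by rw [h.2.2 _ _ hw]
      _ = _ := by group

theorem Tr.add_self {u c : V} {g : G} (h : D.Tr u c g) : D.Tr u (c + u) g := by
  refine ⟨by rw [map_add, h.1, D.S.alt, add_zero], ?_, ?_⟩
  · rw [q_add_self h.1]; exact h.2.1
  · intro w j hw
    rw [map_add, LinearMap.add_apply, hw, add_zero]; exact h.2.2 w j hw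

theorem Tr.of_q {u w : V} (hw : D.S.B u w = 0) (j : ZMod 2) : D.Tr u 0 (D.q u w j) := by
  refine ⟨map_zero _, ?_, ?_⟩
  · rw [q_zero_zero, mul_one, tq]
  · intro w' j' hw'
    rw [map_zero, LinearMap.zero_apply, add_zero, q_comm hw hw']

theorem Tr.of_t (u : V) : D.Tr u 0 D.t := by
  refine ⟨map_zero _, ?_, ?_⟩
  · rw [q_zero_zero]; group
  · intro w' j' hw'
    rw [map_zero, LinearMap.zero_apply, add_zero, tq]

/-- The weak form is enough. -/
theorem Tr.of_weak {u c : V} {g : G} (hu : u ≠ 0) (hb : g * D.b u = D.b u * g) (hc : D.S.B u c = 0) {i : ZMod 2}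
    (ht : g * D.t = D.t * D.q u c i * g) (hq : ∀ w, D.S.B u w = 0 → ∃ j, g * D.q u w 0 = D.q u w j * g) :
    D.Tr u c g := by
  have hi : i = 0 := inD_zero hu hc (inD_t.of_mul ht)
  subst hi
  refine ⟨hc, ht, ?_⟩
  have h1 : ∀ w, D.S.B u w = 0 → g * D.q u w 0 = D.q u w (D.S.B c w) * g := by
    intro w hw
    obtain ⟨j, hj⟩ := hq w hw
    have h2 : g * (D.t * D.q u w 0) = D.t * D.q u (c + w) (D.S.B c w + 0 + j) * g := by
      rw [← q_mul hc hw]
      calc g * (D.t * D.q u w 0) = (g * D.t) * D.q u w 0 := by group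
        _ = D.t * D.q u c 0 * (g * D.q u w 0) := by rw [ht]; group
        _ = _ := by rw [hj]; group
    have h3 := inD_zero hu (by rw [map_add, hc, hw, add_zero]) ((inD_q hw).of_mul h2)
    rw [hj]
    congr 2
    revert h3
    generalize D.S.B c w = x
    clear * -
    revert x j; decide
  intro w j hw
  rcases z2 j with rfl | rfl
  · rw [zero_add]; exact h1 w hw
  · have : D.q u w 1 = D.q u w 0 * D.b u := by rw [← q_one, zero_add]
    rw [this, add_comm 1, q_one, ← mul_assoc, h1 w hw, mul_assoc, mul_assoc, hb]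

theorem Tr.ker {u c : V} {g : G} (hu : u ≠ 0) (h : D.Tr u c g) (hc : c = 0 ∨ c = u) :
    ∃ w j, D.S.B u w = 0 ∧ (g = D.q u w j ∨ g = D.t * D.q u w j) := by
  have h0 : D.Tr u 0 g := by
    rcases hc with rfl | rfl
    · exact h
    · have := h.add_self
      rwa [aa] at this
  have h1 : g * D.t = D.t * g := by
    rw [h0.2.1, q_zero_zero, mul_one]
  obtain ⟨k, hk⟩ := D.cent g h1
  have h2 : ∀ x, g * D.ι x = D.ι x * g → k * x = x * k := by
    intro x hx
    apply D.inj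
    rw [map_mul, map_mul]
    rcases hk with rfl | rfl
    · exact hx
    · rw [mul_assoc, ← mul_assoc _ D.t, ← D.comm, mul_assoc] at hx
      exact mul_left_cancel hx
  have h3 : D.S.ρ k u = u := by
    have := h2 _ h0.comm_b
    rw [mul_τ] at this
    exact D.S.τ_injective (mul_right_cancel this)
  obtain ⟨w, j, hw, hkw⟩ := dc1 (S := D.S) (k := k) hu h3 (fun w hw => by
    have h4 := h0.2.2 w 0 hw
    rw [map_zero, LinearMap.zero_apply, add_zero] at h4
    have h5 := h2 _ h4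
    rw [← mul_assoc, mul_s, h3, zero_smul, D.S.τ_zero, mul_one, mul_one] at h5
    have h6 := mul_right_cancel h5
    have h7 : D.S.B u (D.S.ρ k w) = 0 := by
      have := D.S.inv k u w
      rw [h3] at this
      rw [this, hw]
    exact (PatS.q_eq (S := D.S) hu hw h7 (i := 0) (j := 0) (by rw [h6])).1)
  refine ⟨w, j, hw, ?_⟩
  rw [q, ← hkw]
  exact hk

end Data

end Cfsg.Agent.OddHalf.SpTwo.PatS
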