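import Cfsg.Agent.OddHalf.SpTwo.PatSN2

/-!
# `Sp_{2n}(2)`: the restriction to `<u,u'>^⊥`
-/

set_option autoImplicit false

namespace Cfsg.Agent.OddHalf.SpTwo.PatS

open Cfsg.Agent.StandardComponent.SpTwo

section Res

variable {X V : Type*} [Group X] [AddCommGroup V] [Module (ZMod 2) V] (S : SpData X V)

/-- `C_X(u,u')` -/
def X1 (u u' : V) : Subgroup X where
  carrier := {k | S.ρ k u = u ∧ S.ρ k u' = u'}
  mul_mem' := by
    rintro a b ⟨h1, h2⟩ ⟨h3, h4⟩
    exact ⟨by rw [S.ρ_mul, h3, h1], by rw [S.ρ_mul, h4, h2]⟩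
  one_mem' := ⟨S.ρ_one u, S.ρ_one u'⟩
  inv_mem' := by
    rintro a ⟨h1, h2⟩
    exact ⟨by conv_lhs => rw [← h1, S.ρ_inv_apply], by conv_lhs => rw [← h2, S.ρ_inv_apply]⟩

/-- `<u,u'>^⊥` -/
def V1 (u u' : V) : Submodule (ZMod 2) V := LinearMap.ker (S.B u) ⊓ LinearMap.ker (S.B u')

theorem mem_V1 {u u' v : V} : v ∈ V1 S u u' ↔ S.B u v = 0 ∧ S.B u' v = 0 := by
  rw [V1, Submodule.mem_inf, LinearMap.mem_ker, LinearMap.mem_ker]

variable {S}

theorem V1_stable {u u' v : V} {k : X} (hk : k ∈ X1 S u u') (hv : v ∈ V1 S u u') : S.ρ k v ∈ V1 S u u' := by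
  rw [mem_V1] at hv ⊢
  constructor
  · have := S.inv k u v
    rw [hk.1] at this
    rw [this]; exact hv.1
  · have := S.inv k u' v
    rw [hk.2] at this
    rw [this]; exact hv.2

theorem decomp {u u' : V} (h : S.B u u' = 1) (x : V) :
    ∃ x0 ∈ V1 S u u', x = x0 + S.B u x • u' + S.B u' x • u := by
  refine ⟨x + S.B u x • u' + S.B u' x • u, ?_, ?_⟩
  · rw [mem_V1]
    constructor
    · simp [h, S.alt, z_add_self]
    · simp [S.symm u' u, h, S.alt, z_add_self]
  · have f1 := aa (S.B u x • u')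
    have f2 := aa (S.B u' x • u)
    calc x = x + (S.B u x • u' + S.B u x • u') + (S.B u' x • u + S.B u' x • u) := by rw [f1, f2]; simp
      _ = _ := by abel

/-- the restriction of `SpData` -/
noncomputable def res {u u' : V} (h : S.B u u' = 1) : SpData (X1 S u u') (V1 S u u') where
  B := S.B.domRestrict₁₂ (V1 S u u') (V1 S u u')
  ρ :=
    { toFun := fun k => (S.ρ k).restrict (fun _ hv => V1_stable k.2 hv)
      map_one' := by
        apply LinearMap.ext
        intro v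
        apply Subtype.ext
        exact S.ρ_one v
      map_mul' := by
        intro a b
        apply LinearMap.ext
        intro v
        apply Subtype.ext
        exact S.ρ_mul a b v }
  alt := fun v => S.alt v
  nondeg := by
    intro v hv
    apply Subtype.ext
    apply S.nondeg
    intro x
    obtain ⟨x0, hx0, hx⟩ := decomp h x
    have h1 := (mem_V1 S).1 v.2
    have h2 : S.B v x0 = 0 := hv ⟨x0, hx0⟩
    rw [hx, map_add, map_add, map_smul, map_smul, h2, S.symm v u, S.symm v u', h1.1, h1.2]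
    simp
  inv := fun g a b => S.inv g a b
  inj := by
    intro a b hab
    apply Subtype.ext
    apply S.ext_iff
    intro x
    obtain ⟨x0, hx0, hx⟩ := decomp h x
    have h1 : S.ρ a x0 = S.ρ b x0 := by
      have := LinearMap.congr_fun hab ⟨x0, hx0⟩
      exact congrArg Subtype.val this
    generalize S.B u x = α at hx
    generalize S.B u' x = β at hx
    rw [hx, map_add, map_add, map_add, map_add, map_smul, map_smul, map_smul, map_smul, h1, a.2.1, a.2.2, b.2.1, b.2.2]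
  τ := fun v => ⟨S.τ v, by
    have h1 := (mem_V1 S).1 v.2
    exact ⟨by rw [S.hτ, h1.1, zero_smul, add_zero], by rw [S.hτ, h1.2, zero_smul, add_zero]⟩⟩
  hτ := by
    intro w v
    apply Subtype.ext
    exact S.hτ w v

theorem res_B {u u' : V} (h : S.B u u' = 1) (v w : V1 S u u') : (res h).B v w = S.B v w := rfl

theorem res_ρ {u u' : V} (h : S.B u u' = 1) (k : X1 S u u') (v : V1 S u u') :
    ((res h).ρ k v : V) = S.ρ k v := rfl

theorem res_τ {u u' : V} (h : S.B u u' = 1) (v : V1 S u u') : ((res h).τ v : X) = S.τ v := rfl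

theorem res_s {u u' : V} (h : S.B u u' = 1) (v w : V1 S u u') :
    ((s (res h) v w : X1 S u u') : X) = s S (v : V) (w : V) := rfl

end Res

variable {G X V : Type*} [Group G] [Group X] [AddCommGroup V] [Module (ZMod 2) V]

namespace Data

variable (D : Data G X V)

/-- `C_G(b_u) ∩ C_G(b_u') ∩ N_G(R_u)` -/
def G1 (u u' : V) (hu : u ≠ 0) : Subgroup G :=
  (Subgroup.centralizer {D.b u} ⊓ Subgroup.centralizer {D.b u'}) ⊓ Subgroup.normalizer (D.R u hu : Set G)

variable {D}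

theorem mem_G1 {u u' : V} {hu : u ≠ 0} {g : G} : g ∈ D.G1 u u' hu ↔
    (g * D.b u = D.b u * g ∧ g * D.b u' = D.b u' * g) ∧ ∀ x, D.InR u x ↔ D.InR u (g * x * g⁻¹) := by
  rw [G1, Subgroup.mem_inf, Subgroup.mem_inf, Subgroup.mem_centralizer_singleton_iff,
    Subgroup.mem_centralizer_singleton_iff, Subgroup.mem_normalizer_iff]
  rfl

theorem fix_of_comm {k : X} {v : V} (h : D.ι k * D.b v = D.b v * D.ι k) : D.S.ρ k v = v := by
  rw [ιb] at h
  exact D.S.τ_injective (D.inj (mul_right_cancel h))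

theorem comm_of_fix {k : X} {v : V} (h : D.S.ρ k v = v) : D.ι k * D.b v = D.b v * D.ι k := by
  rw [ιb, h]

theorem ι_mem_G1 {u u' : V} {hu : u ≠ 0} {k : X} (hk : k ∈ X1 D.S u u') : D.ι k ∈ D.G1 u u' hu := by
  rw [mem_G1]
  refine ⟨⟨comm_of_fix hk.1, comm_of_fix hk.2⟩, fun x => ⟨fun h => h.conj_fix hk.1, fun h => ?_⟩⟩
  have h1 := h.conj_fix (k := k⁻¹) (by
    have := hk.1
    conv_lhs => rw [← this, D.S.ρ_inv_apply])
  rw [map_inv] at h1
  have h2 : (D.ι k)⁻¹ * (D.ι k * x * (D.ι k)⁻¹) * (D.ι k)⁻¹⁻¹ = x := by group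
  rwa [h2] at h1

theorem t_mem_G1 {u u' : V} {hu : u ≠ 0} : D.t ∈ D.G1 u u' hu := by
  have ht : D.t⁻¹ = D.t := inv_eq_of_mul_eq_one_left D.tt
  rw [mem_G1]
  refine ⟨⟨tb u, tb u'⟩, fun x => ?_⟩
  rw [ht]
  refine ⟨fun h => h.conjt, fun h => ?_⟩
  have h1 := h.conjt
  have h2 : D.t * (D.t * x * D.t) * D.t = x := by
    calc D.t * (D.t * x * D.t) * D.t = (D.t * D.t) * x * (D.t * D.t) := by group
      _ = x := by rw [D.tt]; group
  rwa [h2] at h1

theorem y_mem_G1 {u u' p r : V} {hu : u ≠ 0} (I : D.Ind u p r) {y : G} (hy : D.IsY p r y)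
    (h1 : D.S.B p u' = 0) (h2 : D.S.B r u' = 0) : y ∈ D.G1 u u' hu := by
  have hyi : y⁻¹ = y := inv_eq_of_mul_eq_one_left hy.sq
  rw [mem_G1]
  refine ⟨⟨hy.comm u (by rw [D.S.symm]; exact I.up) (by rw [D.S.symm]; exact I.ur), hy.comm u' h1 h2⟩, fun x => ?_⟩
  rw [hyi]
  refine ⟨fun h => N3 I hy h, fun h => ?_⟩
  have h3 := N3 I hy h
  have h4 : y * (y * x * y) * y = x := by
    calc y * (y * x * y) * y = (y * y) * x * (y * y) := by group
      _ = x := by rw [hy.sq]; group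
  rwa [h4] at h3

/-- the data for `C_G(b_u,b_u') ∩ N(R_u)` -/
noncomputable def sub {u u' : V} (hu : u ≠ 0) (h : D.S.B u u' = 1) :
    Data (D.G1 u u' hu) (X1 D.S u u') (V1 D.S u u') where
  S := res h
  ι := ((D.ι).comp (X1 D.S u u').subtype).codRestrict (D.G1 u u' hu) (fun k => ι_mem_G1 k.2)
  inj := by
    intro a b hab
    exact Subtype.ext (D.inj (congrArg Subtype.val hab))
  t := ⟨D.t, t_mem_G1⟩
  tt := Subtype.ext D.tt
  comm := fun k => Subtype.ext (D.comm k)
  tmem := fun k hk => D.tmem k (congrArg Subtype.val hk)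
  cent := by
    intro g hg
    obtain ⟨k, hk⟩ := D.cent g (congrArg Subtype.val hg)
    obtain ⟨⟨h1, h2⟩, -⟩ := mem_G1.1 g.2
    have key : ∀ v, (g : G) * D.b v = D.b v * g → D.S.ρ k v = v := by
      intro v hv
      apply fix_of_comm (D := D)
      rcases hk with hk | hk
      · rw [← hk]; exact hv
      · rw [hk, mul_assoc, ← mul_assoc _ D.t, ← tb, mul_assoc] at hv
        exact mul_left_cancel hv
    refine ⟨⟨k, key u h1, key u' h2⟩, ?_⟩
    rcases hk with hk | hk
    · exact Or.inl (Subtype.ext hk)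
    · exact Or.inr (Subtype.ext hk)
  notb := by
    intro v hv g hg
    exact D.notb v (fun h0 => hv (Subtype.ext h0)) g (congrArg Subtype.val hg)
  notc := by
    intro v w hvw hv hw hne g hg
    exact D.notc v w hvw (fun h0 => hv (Subtype.ext h0)) (fun h0 => hw (Subtype.ext h0))
      (fun h0 => hne (Subtype.ext h0)) g (congrArg Subtype.val hg)
  ex := by
    intro v w hvw hv hw hne
    have h1 := (mem_V1 D.S).1 v.2
    have h2 := (mem_V1 D.S).1 w.2
    have hv' : (v : V) ≠ 0 := fun h0 => hv (Subtype.ext h0)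
    have hw' : (w : V) ≠ 0 := fun h0 => hw (Subtype.ext h0)
    have hne' : (v : V) ≠ w := fun h0 => hne (Subtype.ext h0)
    obtain ⟨y, hy1, hy2, hy3⟩ := D.ex v w hvw hv' hw' hne'
    have hy : D.IsY (v : V) w y := ⟨hy1, by rw [q0, ← hy2, mul_assoc, hy1, mul_one], hy3⟩
    have nu : ∀ x, D.S.B u' x = 0 → u ≠ x := by
      rintro x hx rfl
      rw [D.S.symm, h] at hx
      exact absurd hx (by decide)
    have I : D.Ind u v w := ⟨hu, hv', hw', nu _ h1.2, nu _ h2.2, hne', nu _ (by rw [map_add, h1.2, h2.2, add_zero]),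
      h1.1, h2.1, hvw⟩
    refine ⟨⟨y, y_mem_G1 I hy (by rw [D.S.symm]; exact h1.2) (by rw [D.S.symm]; exact h2.2)⟩,
      Subtype.ext hy1, Subtype.ext hy2, fun e he1 he2 => Subtype.ext (hy3 e he1 he2)⟩

theorem sub_b {u u' : V} (hu : u ≠ 0) (h : D.S.B u u' = 1) (w : V1 D.S u u') :
    ((D.sub hu h).b w : G) = D.b w := rfl

theorem sub_t {u u' : V} (hu : u ≠ 0) (h : D.S.B u u' = 1) : ((D.sub hu h).t : G) = D.t := rfl

theorem sub_ι {u u' : V} (hu : u ≠ 0) (h : D.S.B u u' = 1) (k : X1 D.S u u') :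
    ((D.sub hu h).ι k : G) = D.ι k := rfl

end Data

end Cfsg.Agent.OddHalf.SpTwo.PatS
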