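import Cfsg.Agent.OddHalf.SpTwo.PatSZ

/-!
# `Sp_{2n}(2)`, pattern {short}: the group `R_u`
-/

set_option autoImplicit false

namespace Cfsg.Agent.OddHalf.SpTwo.PatS

open Cfsg.Agent.StandardComponent.SpTwo

variable {G X V : Type*} [Group G] [Group X] [AddCommGroup V] [Module (ZMod 2) V]

namespace Data

variable {D : Data G X V}

variable {u c c' : V} {z z' z'' : G}

theorem Tr.triple (hu : u ≠ 0) (h : D.Tr u c z) (h' : D.Tr u c' z') (h'' : D.Tr u (c + c') z'')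
    (hz'' : z'' * z'' = 1) :
    (∃ w j, D.S.B u w = 0 ∧ z * z' = z'' * D.q u w j ∧ z * z' * (z * z') = D.b (D.S.B (c + c') w • u)) ∨
    (∃ w j, D.S.B u w = 0 ∧ z * z' = z'' * (D.t * D.q u w j) ∧
      z * z' * (z * z') = D.q u (c + c') (D.S.B (c + c') w)) := by
  have h1 : D.Tr u 0 (z'' * (z * z')) := by
    have := h''.mul (h.mul h')
    rwa [aa] at this
  have h2 : z * z' = z'' * (z'' * (z * z')) := by rw [← mul_assoc, hz'', one_mul]
  obtain ⟨w, j, hw, hk | hk⟩ := h1.ker hu (Or.inl rfl)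
  · left
    rw [hk] at h2
    exact ⟨w, j, hw, h2, by rw [h2, h''.sq_q hz'' hw]⟩
  · right
    rw [hk] at h2
    exact ⟨w, j, hw, h2, by rw [h2, h''.sq_tq hz'' hw]⟩

/-- The second case of `triple` only for `c ⊥ c'`. -/
theorem Tr.triple' (hu : u ≠ 0) (h : D.Tr u c z) (hz : z * z = 1) (h' : D.Tr u c' z') (hz' : z' * z' = 1)
    (h'' : D.Tr u (c + c') z'') (hz'' : z'' * z'' = 1) (hc : ¬ (c = 0 ∨ c = u)) (hcc : D.S.B c c' = 1) :
    ∃ w j, D.S.B u w = 0 ∧ z * z' = z'' * D.q u w j ∧ z * z' * (z * z') = D.b (D.S.B (c + c') w • u) := by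
  rcases h.triple hu h' h'' hz'' with h1 | ⟨w, j, hw, -, h2⟩
  · exact h1
  · exfalso
    obtain ⟨v, i, hv, hcv, -, h3⟩ := h.comm hu hz h' hz' hc
    rw [h3] at h2
    have h4 := (q_eq hu hv h''.1 h2).1
    have h5 : D.S.B c (c + c') = 0 := by
      rcases h4 with h4 | h4
      · rw [h4, hcv]
      · rw [h4, map_add, hcv, D.S.symm c u, h.1, add_zero]
    rw [map_add, D.S.alt, hcc] at h5
    revert h5; decide

/-- Commutators of involutions inducing translations lie in `<b_u>`. -/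
theorem Tr.main (hu : u ≠ 0) (h : D.Tr u c z) (hz : z * z = 1) (h' : D.Tr u c' z') (hz' : z' * z' = 1)
    (h'' : D.Tr u (c + c') z'') (hz'' : z'' * z'' = 1) (hc : ¬ (c = 0 ∨ c = u)) (hc' : ¬ (c' = 0 ∨ c' = u))
    (hcc : ¬ (c + c' = 0 ∨ c + c' = u)) :
    ∃ w j, D.S.B u w = 0 ∧ z * z' = z'' * D.q u w j ∧ z * z' * (z * z') = D.b (D.S.B (c + c') w • u) := by
  rcases z2 (D.S.B c c') with h0 | h0
  swap
  · exact h.triple' hu hz h' hz' h'' hz'' hc h0
  rcases h.triple hu h' h'' hz'' with h1 | ⟨w, j, hw, -, h2⟩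
  · exact h1
  exfalso
  push Not at hc hc' hcc
  obtain ⟨v, hv1, hv2, hv3⟩ := sep3 D.S (c := c) (d := c') (e := u) hc.1
    (fun e => hcc.1 (by rw [e, aa])) hc.2 (fun e => hcc.2 (by rw [e, add_comm c' u, aab]))
  have huc : D.S.B u c = 0 := h.1
  have huc' : D.S.B u c' = 0 := h'.1
  have huv : D.S.B u v = 0 := by rw [D.S.symm]; exact hv3
  have key : ∀ x, D.S.B x c = 1 → x ≠ 0 ∧ x ≠ u := by
    intro x hx
    constructor
    · rintro rfl; simp at hx
    · rintro rfl; rw [huc] at hx; exact absurd hx (by decide)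
  have hB1 : D.S.B (v + c) c = 1 := by rw [map_add, LinearMap.add_apply, hv1, D.S.alt, add_zero]
  have hB2 : D.S.B (v + c') c = 1 := by
    rw [map_add, LinearMap.add_apply, hv1, D.S.symm c' c, h0, add_zero]
  have hB3 : D.S.B (v + c + c') c = 1 := by
    rw [map_add, LinearMap.add_apply, hB1, D.S.symm c' c, h0, add_zero]
  obtain ⟨zv, hzv, hTv⟩ := exZ (D := D) huv hu (key v hv1).1 (key v hv1).2.symm
  obtain ⟨zvc, hzvc, hTvc⟩ := exZ (D := D) (by rw [map_add, huv, huc, add_zero]) hu (key _ hB1).1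
    (key _ hB1).2.symm
  obtain ⟨z1, hz1, hT1⟩ := exZ (D := D) (by rw [map_add, huv, huc', add_zero]) hu (key _ hB2).1
    (key _ hB2).2.symm
  obtain ⟨z2, hz2, hT2⟩ := exZ (D := D) (w := v + c + c')
    (by rw [map_add, map_add, huv, huc, huc', add_zero, add_zero]) hu (key _ hB3).1 (key _ hB3).2.symm
  -- `z = zv zvc q`
  obtain ⟨w1, j1, hw1, hq1, -⟩ := hTv.triple' hu hzv.sq hTvc hzvc.sq (z'' := z) (by rw [aac]; exact h) hz
    (by rw [not_or]; exact key v hv1) (by rw [map_add, D.S.alt, zero_add]; exact hv1)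
  have hzq : z = zv * zvc * D.q u w1 j1 := by
    rw [hq1, mul_assoc, q_sq hw1, mul_one]
  -- commutators with `z'`
  have e1 : ∃ p i, D.S.B u p = 0 ∧ (p = 0 ∨ p = v + c') ∧ zv * z' = D.q u p i * (z' * zv) := by
    have hh : ∀ e, zv * z' * (zv * z') = e → zv * z' = e * (z' * zv) := by
      intro e he
      rw [← he]
      calc zv * z' = zv * z' * (zv * (z' * z') * zv) := by rw [hz', mul_one, hzv.sq, mul_one]
        _ = _ := by group
    rcases hTv.triple hu h' hT1 hz1.sq with ⟨p, i, -, -, hp⟩ | ⟨p, i, -, -, hp⟩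
    · refine ⟨0, D.S.B (v + c') p, map_zero _, Or.inl rfl, ?_⟩
      rw [q_zero]; exact hh _ hp
    · exact ⟨v + c', D.S.B (v + c') p, hT1.1, Or.inr rfl, hh _ hp⟩
  have e2 : ∃ p i, D.S.B u p = 0 ∧ (p = 0 ∨ p = v + c + c') ∧ zvc * z' = D.q u p i * (z' * zvc) := by
    have hh : ∀ e, zvc * z' * (zvc * z') = e → zvc * z' = e * (z' * zvc) := by
      intro e he
      rw [← he]
      calc zvc * z' = zvc * z' * (zvc * (z' * z') * zvc) := by rw [hz', mul_one, hzvc.sq, mul_one]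
        _ = _ := by group
    rcases hTvc.triple hu h' hT2 hz2.sq with ⟨p, i, -, -, hp⟩ | ⟨p, i, -, -, hp⟩
    · refine ⟨0, D.S.B (v + c + c') p, map_zero _, Or.inl rfl, ?_⟩
      rw [q_zero]; exact hh _ hp
    · exact ⟨v + c + c', D.S.B (v + c + c') p, hT2.1, Or.inr rfl, hh _ hp⟩
  obtain ⟨p1, i1, hp1, hp1', f1⟩ := e1
  obtain ⟨p2, i2, hp2, hp2', f2⟩ := e2
  have e3 : z * z' = D.q u p2 (i2 + D.S.B v p2) * D.q u p1 i1 * D.q u 0 (D.S.B c' w1) * (z' * z) := by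
    have f3 : D.q u w1 (j1 + D.S.B c' w1) = D.q u 0 (D.S.B c' w1) * D.q u w1 j1 := by
      rw [q_mul (map_zero _) hw1, zero_add, map_zero, LinearMap.zero_apply, zero_add, add_comm]
    have f4 : z' * (zv * zvc) * D.q u 0 (D.S.B c' w1) = D.q u 0 (D.S.B c' w1) * (z' * (zv * zvc)) := by
      rw [q_zero, (h'.mul (hTv.mul hTvc)).comm_bj]
    calc z * z' = zv * zvc * (D.q u w1 j1 * z') := by rw [hzq]; group
      _ = zv * (zvc * z') * D.q u w1 (j1 + D.S.B c' w1) := by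
          have : D.q u w1 j1 * z' = z' * D.q u w1 (j1 + D.S.B c' w1) := by
            rw [h'.2.2 _ _ hw1, add_assoc, z_add_self, add_zero]
          rw [this]; group
      _ = (zv * D.q u p2 i2) * z' * zvc * D.q u w1 (j1 + D.S.B c' w1) := by rw [f2]; group
      _ = D.q u p2 (i2 + D.S.B v p2) * (zv * z') * zvc * D.q u w1 (j1 + D.S.B c' w1) := by
          rw [hTv.2.2 _ _ hp2]; group
      _ = D.q u p2 (i2 + D.S.B v p2) * D.q u p1 i1 * (z' * (zv * zvc) * D.q u 0 (D.S.B c' w1)) * D.q u w1 j1 := by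
          rw [f1, f3]; group
      _ = _ := by rw [f4, hzq]; group
  have e4 : z * z' * (z * z') = D.q u (p2 + p1 + 0) (D.S.B (p2 + p1) 0 + (D.S.B p2 p1 + (i2 + D.S.B v p2) + i1) +
      D.S.B c' w1) := by
    rw [← q_mul (by rw [map_add, hp2, hp1, add_zero]) (map_zero _), ← q_mul hp2 hp1]
    calc z * z' * (z * z') = D.q u p2 (i2 + D.S.B v p2) * D.q u p1 i1 * D.q u 0 (D.S.B c' w1) *
          (z' * (z * z) * z') := by nth_rewrite 1 [e3]; group
      _ = _ := by rw [hz, mul_one, hz', mul_one]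
  rw [h2, add_zero] at e4
  have e5 := (q_eq hu h''.1 (by rw [map_add, hp2, hp1, add_zero]) e4).1
  -- contradiction
  have nz : ∀ x, D.S.B x c = 1 → ∀ y, D.S.B y c = 0 → x ≠ y := by
    intro x hx y hy hxy
    rw [hxy, hy] at hx
    exact absurd hx (by decide)
  have hc0 : D.S.B (c + c') c = 0 := h''.1 ▸ by
    rw [map_add, LinearMap.add_apply, D.S.alt, D.S.symm c' c, h0, add_zero]; exact h''.1.symm
  rcases hp1' with rfl | rfl <;> rcases hp2' with rfl | rfl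
  · rw [zero_add] at e5
    rcases e5 with e5 | e5
    · exact hcc.1 e5.symm
    · apply hcc.2
      exact eq_of_add _ _ e5.symm
  · rw [add_zero] at e5
    rcases e5 with e5 | e5
    · exact nz _ hB3 _ hc0 e5
    · exact nz _ hB3 _ (by rw [map_add, LinearMap.add_apply, hc0, huc, add_zero]) e5
  · rw [zero_add] at e5
    rcases e5 with e5 | e5
    · exact nz _ hB2 _ hc0 e5
    · exact nz _ hB2 _ (by rw [map_add, LinearMap.add_apply, hc0, huc, add_zero]) e5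
  · have e6 : v + c + c' + (v + c') = c := by
      have h1 := aa v
      have h2 := aa c'
      calc v + c + c' + (v + c') = (v + v) + (c' + c') + c := by abel
        _ = c := by rw [h1, h2, zero_add, zero_add]
    rw [e6] at e5
    rcases e5 with e5 | e5
    · exact hc'.1 (by simpa using e5.symm)
    · apply hc'.2
      have : c + 0 = c + (c' + u) := by rw [add_zero, ← add_assoc]; exact e5
      exact eq_of_add _ _ (add_left_cancel this).symm

variable (D)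

/-- The group `R_u`. -/
def InR (u : V) (g : G) : Prop :=
  (∃ c, D.Tr u c g) ∧ (∃ j : ZMod 2, g * g = D.b (j • u)) ∧ ∀ w j, D.S.B u w = 0 → g ≠ D.t * D.q u w j

variable {D}

theorem q_ne_tq {u w w' : V} {j j' : ZMod 2} : D.q u w j ≠ D.t * D.q u w' j' := by
  intro h
  have h1 : D.t = D.ι (s D.S u w * D.S.τ (j • u) * (s D.S u w' * D.S.τ (j' • u))⁻¹) := by
    rw [map_mul, map_inv]
    change D.t = D.q u w j * (D.q u w' j')⁻¹
    rw [h]; group
  exact D.tmem _ h1.symm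

theorem InR.of_q {w : V} (hw : D.S.B u w = 0) (j : ZMod 2) : D.InR u (D.q u w j) :=
  ⟨⟨0, Tr.of_q hw j⟩, ⟨0, by rw [q_sq hw, zero_smul, b_zero]⟩, fun _ _ _ => q_ne_tq⟩

theorem InR.of_b (j : ZMod 2) : D.InR u (D.b (j • u)) := by
  rw [← q_zero]; exact InR.of_q (map_zero _) j

theorem InR.one : D.InR u 1 := by
  have := InR.of_b (D := D) (u := u) 0
  rwa [zero_smul, b_zero] at this

theorem InR.mk (hu : u ≠ 0) (h : D.Tr u c z) (hz : z * z = 1) (hc : ¬ (c = 0 ∨ c = u)) {w : V}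
    (hw : D.S.B u w = 0) (j : ZMod 2) : D.InR u (z * D.q u w j) := by
  refine ⟨⟨c + 0, h.mul (Tr.of_q hw j)⟩, ⟨_, h.sq_q hz hw j⟩, ?_⟩
  intro w' j' hw' h1
  have h2 : z = D.t * D.q u (w' + w) (D.S.B w' w + j' + j) := by
    rw [← q_mul hw' hw, ← mul_assoc, ← h1, mul_assoc, q_sq hw, mul_one]
  exact (h.ne_of hu hc _ _).2 h2

theorem InR.of_z (hu : u ≠ 0) (h : D.Tr u c z) (hz : z * z = 1) (hc : ¬ (c = 0 ∨ c = u)) : D.InR u z := by
  have := InR.mk hu h hz hc (map_zero _) 0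
  rwa [q_zero_zero, mul_one] at this

theorem InR.inv {g : G} (h : D.InR u g) : D.InR u g⁻¹ := by
  obtain ⟨⟨c, hc⟩, ⟨j, hj⟩, h3⟩ := h
  refine ⟨⟨c, hc.inv⟩, ⟨j, ?_⟩, ?_⟩
  · rw [← mul_inv_rev, hj, inv_eq_iff_mul_eq_one, b_sq]
  · intro w i hw h1
    apply h3 w i hw
    rw [← inv_inv g, h1, mul_inv_rev, inv_eq_of_mul_eq_one_left D.tt, inv_eq_of_mul_eq_one_left (q_sq hw i), tq]

/-- Elements of `R_u` with trivial translation part. -/
theorem InR.ker {g : G} (hu : u ≠ 0) (h : D.InR u g) (hc : D.Tr u c g) (hc0 : c = 0 ∨ c = u) :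
    ∃ w j, D.S.B u w = 0 ∧ g = D.q u w j := by
  obtain ⟨w, j, hw, h1 | h1⟩ := hc.ker hu hc0
  · exact ⟨w, j, hw, h1⟩
  · exact absurd h1 (h.2.2 w j hw)

/-- Elements of `R_u` with nontrivial translation part. -/
theorem InR.eq_zq {g : G} (hu : u ≠ 0) (h : D.InR u g) (hc : D.Tr u c g) (hc0 : ¬ (c = 0 ∨ c = u))
    (hz : D.Tr u c z) (hzz : z * z = 1) : ∃ w j, D.S.B u w = 0 ∧ g = z * D.q u w j := by
  have h1 : D.Tr u 0 (z * g) := by
    have := hz.mul hc
    rwa [aa] at this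
  have h2 : g = z * (z * g) := by rw [← mul_assoc, hzz, one_mul]
  obtain ⟨w, j, hw, h3 | h3⟩ := h1.ker hu (Or.inl rfl)
  · exact ⟨w, j, hw, by rw [← h3]; exact h2⟩
  · exfalso
    obtain ⟨i, hi⟩ := h.2.1
    rw [h3] at h2
    rw [h2, hz.sq_tq hzz hw, ← q_zero] at hi
    rcases (q_eq hu hz.1 (map_zero _) hi).1 with h4 | h4
    · exact hc0 (Or.inl h4.symm)
    · exact hc0 (Or.inr (eq_of_add _ _ h4.symm))

theorem InR.rep {g : G} (hu : u ≠ 0) (h : D.InR u g) :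
    ∃ c z w j, z * z = 1 ∧ D.Tr u c z ∧ ((z = 1 ∧ c = 0) ∨ ¬ (c = 0 ∨ c = u)) ∧ D.S.B u w = 0 ∧
      g = z * D.q u w j := by
  obtain ⟨c, hc⟩ := h.1
  by_cases hc0 : c = 0 ∨ c = u
  · obtain ⟨w, j, hw, h1⟩ := h.ker hu hc hc0
    exact ⟨0, 1, w, j, one_mul 1, Tr.one u, Or.inl ⟨rfl, rfl⟩, hw, by rw [h1, one_mul]⟩
  · have hc0' := hc0
    push Not at hc0'
    obtain ⟨z, hz, hTz⟩ := exZ (D := D) hc.1 hu hc0'.1 hc0'.2.symm
    obtain ⟨w, j, hw, h1⟩ := h.eq_zq hu hc hc0 hTz hz.sq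
    exact ⟨c, z, w, j, hz.sq, hTz, Or.inr hc0, hw, h1⟩

theorem InR.mul_q {g : G} (hu : u ≠ 0) (h : D.InR u g) {w : V} (hw : D.S.B u w = 0) (j : ZMod 2) :
    D.InR u (g * D.q u w j) := by
  obtain ⟨c, z, w', j', hz, hT, hc, hw', rfl⟩ := h.rep hu
  rw [mul_assoc, q_mul hw' hw]
  rcases hc with ⟨rfl, -⟩ | hc
  · rw [one_mul]; exact InR.of_q (by rw [map_add, hw', hw, add_zero]) _
  · exact InR.mk hu hT hz hc (by rw [map_add, hw', hw, add_zero]) _

/-- the product and the commutator of two of the `z`. -/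
theorem Tr.zz (hu : u ≠ 0) (h : D.Tr u c z) (hz : z * z = 1) (h' : D.Tr u c' z') (hz' : z' * z' = 1)
    (hc : (z = 1 ∧ c = 0) ∨ ¬ (c = 0 ∨ c = u)) (hc' : (z' = 1 ∧ c' = 0) ∨ ¬ (c' = 0 ∨ c' = u)) :
    D.InR u (z * z') ∧ ∃ j : ZMod 2, z * z' * (z * z') = D.b (j • u) := by
  rcases hc with ⟨rfl, -⟩ | hc
  · rw [one_mul]
    refine ⟨?_, 0, by rw [hz', zero_smul, b_zero]⟩
    rcases hc' with ⟨rfl, -⟩ | hc'
    · exact InR.one
    · exact InR.of_z hu h' hz' hc'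
  rcases hc' with ⟨rfl, -⟩ | hc'
  · rw [mul_one]
    exact ⟨InR.of_z hu h hz hc, 0, by rw [hz, zero_smul, b_zero]⟩
  by_cases hcc : c + c' = 0 ∨ c + c' = u
  · obtain ⟨w, j, hw, h1 | h1⟩ := (h.mul h').ker hu hcc
    · rw [h1]
      exact ⟨InR.of_q hw j, 0, by rw [q_sq hw, zero_smul, b_zero]⟩
    · exfalso
      have h2 : z' = z * (D.t * D.q u w j) := by rw [← h1, ← mul_assoc, hz, one_mul]
      have h3 := h.sq_tq hz hw j
      rw [← h2, hz'] at h3
      exact hc (q_eq_one hu h.1 h3.symm).1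
  · have hcc' := hcc
    push Not at hcc'
    obtain ⟨z'', hz'', hT''⟩ := exZ (D := D) (u := u) (w := c + c') (by rw [map_add, h.1, h'.1, add_zero]) hu
      hcc'.1 hcc'.2.symm
    obtain ⟨w, j, hw, h1, h2⟩ := h.main hu hz h' hz' hT'' hz''.sq hc hc' hcc
    refine ⟨?_, _, h2⟩
    rw [h1]
    exact InR.mk hu hT'' hz''.sq hcc hw j

theorem InR.mul {g g' : G} (hu : u ≠ 0) (h : D.InR u g) (h' : D.InR u g') : D.InR u (g * g') := by
  obtain ⟨c, z, w, j, hz, hT, hc, hw, rfl⟩ := h.rep hu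
  obtain ⟨c', z', w', j', hz', hT', hc', hw', rfl⟩ := h'.rep hu
  have e : z * D.q u w j * (z' * D.q u w' j') = z * z' * D.q u w (j + D.S.B c' w) * D.q u w' j' := by
    have h1 : D.q u w j * z' = z' * D.q u w (j + D.S.B c' w) := by
      rw [hT'.2.2 _ _ hw, add_assoc, z_add_self, add_zero]
    calc z * D.q u w j * (z' * D.q u w' j') = z * (D.q u w j * z') * D.q u w' j' := by group
      _ = _ := by rw [h1]; group
  rw [e]
  exact (((hT.zz hu hz hT' hz' hc hc').1).mul_q hu hw _).mul_q hu hw' _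

/-- `[R_u,R_u] ≤ <b_u>`. -/
theorem InR.comm {g g' : G} (hu : u ≠ 0) (h : D.InR u g) (h' : D.InR u g') :
    ∃ j : ZMod 2, g * g' = D.b (j • u) * (g' * g) := by
  obtain ⟨c, z, w, j, hz, hT, hc, hw, rfl⟩ := h.rep hu
  obtain ⟨c', z', w', j', hz', hT', hc', hw', rfl⟩ := h'.rep hu
  have e : z * D.q u w j * (z' * D.q u w' j') = z * z' * (D.q u w (j + D.S.B c' w) * D.q u w' j') := by
    have h1 : D.q u w j * z' = z' * D.q u w (j + D.S.B c' w) := by
      rw [hT'.2.2 _ _ hw, add_assoc, z_add_self, add_zero]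
    calc z * D.q u w j * (z' * D.q u w' j') = z * (D.q u w j * z') * D.q u w' j' := by group
      _ = _ := by rw [h1]; group
  have e' : z' * D.q u w' j' * (z * D.q u w j) = z' * z * (D.q u w' (j' + D.S.B c w') * D.q u w j) := by
    have h1 : D.q u w' j' * z = z * D.q u w' (j' + D.S.B c w') := by
      rw [hT.2.2 _ _ hw', add_assoc, z_add_self, add_zero]
    calc z' * D.q u w' j' * (z * D.q u w j) = z' * (D.q u w' j' * z) * D.q u w j := by group
      _ = _ := by rw [h1]; group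
  obtain ⟨i, hi⟩ := (hT.zz hu hz hT' hz' hc hc').2
  have hi' : z * z' = D.b (i • u) * (z' * z) := by
    rw [← hi]
    calc z * z' = z * z' * (z * (z' * z') * z) := by rw [hz', mul_one, hz, mul_one]
      _ = _ := by group
  have hw2 : D.S.B u (w + w') = 0 := by rw [map_add, hw, hw', add_zero]
  have e2 : D.q u w (j + D.S.B c' w) * D.q u w' j' =
      D.b ((D.S.B c' w + D.S.B c w') • u) * (D.q u w' (j' + D.S.B c w') * D.q u w j) := by
    rw [q_mul hw hw', q_mul hw' hw, ← q_zero, q_mul (map_zero _) (by rw [add_comm]; exact hw2), zero_add,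
      LinearMap.map_zero, LinearMap.zero_apply, zero_add, add_comm w' w, D.S.symm w' w]
    congr 1
    generalize D.S.B c w' = x
    generalize D.S.B c' w = y
    generalize D.S.B w w' = a
    clear * -
    revert x y a j j'; decide
  refine ⟨i + (D.S.B c' w + D.S.B c w'), ?_⟩
  have e3 : D.b ((i + (D.S.B c' w + D.S.B c w')) • u) = D.b (i • u) * D.b ((D.S.B c' w + D.S.B c w') • u) := by
    rw [b, b, b, ← map_mul, τ_mul]
  have e4 : z' * z * D.b ((D.S.B c' w + D.S.B c w') • u) = D.b ((D.S.B c' w + D.S.B c w') • u) * (z' * z) :=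
    (hT'.mul hT).comm_bj _
  rw [e, e', hi', e2, e3]
  calc D.b (i • u) * (z' * z) * (D.b ((D.S.B c' w + D.S.B c w') • u) *
        (D.q u w' (j' + D.S.B c w') * D.q u w j))
      = D.b (i • u) * (z' * z * D.b ((D.S.B c' w + D.S.B c w') • u)) *
        (D.q u w' (j' + D.S.B c w') * D.q u w j) := by group
    _ = _ := by rw [e4]; group

variable (D)

/-- `R_u` -/
def R (u : V) (hu : u ≠ 0) : Subgroup G where
  carrier := {g | D.InR u g}
  mul_mem' := fun h h' => InR.mul hu h h'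
  one_mem' := InR.one
  inv_mem' := fun h => InR.inv h

variable {D}

theorem mem_R {hu : u ≠ 0} {g : G} : g ∈ D.R u hu ↔ D.InR u g := Iff.rfl

/-- conjugation by `k ∈ K` -/
theorem Tr.conjK {g : G} (h : D.Tr u c g) (k : X) :
    D.Tr (D.S.ρ k u) (D.S.ρ k c) (D.ι k * g * (D.ι k)⁻¹) := by
  refine ⟨by rw [D.S.inv]; exact h.1, ?_, ?_⟩
  · calc D.ι k * g * (D.ι k)⁻¹ * D.t = D.ι k * g * ((D.ι k)⁻¹ * D.t) := by group
      _ = D.ι k * (g * D.t) * (D.ι k)⁻¹ := by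
          have : (D.ι k)⁻¹ * D.t = D.t * (D.ι k)⁻¹ := by rw [← map_inv, D.comm]
          rw [this]; group
      _ = (D.ι k * D.t) * D.q u c 0 * g * (D.ι k)⁻¹ := by rw [h.2.1]; group
      _ = D.t * (D.ι k * D.q u c 0) * g * (D.ι k)⁻¹ := by rw [← D.comm]; group
      _ = _ := by rw [ιq]; group
  · intro w j hw
    obtain ⟨w', rfl⟩ : ∃ w', D.S.ρ k w' = w := ⟨D.S.ρ k⁻¹ w, D.S.ρ_apply_inv k w⟩
    rw [D.S.inv] at hw
    rw [D.S.inv]
    have e1 : (D.ι k)⁻¹ * D.q (D.S.ρ k u) (D.S.ρ k w') j = D.q u w' j * (D.ι k)⁻¹ := by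
      rw [inv_mul_eq_iff_eq_mul, ← mul_assoc, ιq]; group
    calc D.ι k * g * (D.ι k)⁻¹ * D.q (D.S.ρ k u) (D.S.ρ k w') j
        = D.ι k * g * ((D.ι k)⁻¹ * D.q (D.S.ρ k u) (D.S.ρ k w') j) := by group
      _ = D.ι k * (g * D.q u w' j) * (D.ι k)⁻¹ := by rw [e1]; group
      _ = (D.ι k * D.q u w' (j + D.S.B c w')) * g * (D.ι k)⁻¹ := by rw [h.2.2 _ _ hw]; group
      _ = _ := by rw [ιq]; group

theorem InR.conjK {g : G} (h : D.InR u g) (k : X) : D.InR (D.S.ρ k u) (D.ι k * g * (D.ι k)⁻¹) := by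
  obtain ⟨⟨c, hc⟩, ⟨j, hj⟩, h3⟩ := h
  refine ⟨⟨_, hc.conjK k⟩, ⟨j, ?_⟩, ?_⟩
  · calc D.ι k * g * (D.ι k)⁻¹ * (D.ι k * g * (D.ι k)⁻¹) = D.ι k * (g * g) * (D.ι k)⁻¹ := by group
      _ = _ := by rw [hj, ιb, map_smul]; group
  · intro w j hw h4
    obtain ⟨w', rfl⟩ : ∃ w', D.S.ρ k w' = w := ⟨D.S.ρ k⁻¹ w, D.S.ρ_apply_inv k w⟩
    rw [D.S.inv] at hw
    apply h3 w' j hw
    have e1 : D.t * D.q (D.S.ρ k u) (D.S.ρ k w') j * D.ι k = D.ι k * (D.t * D.q u w' j) := by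
      rw [mul_assoc, ← ιq, ← mul_assoc, D.comm, mul_assoc]
    have e2 : D.ι k * g = D.ι k * (D.t * D.q u w' j) := by
      rw [← e1, ← h4]; group
    exact mul_left_cancel e2

theorem InR.conjt {g : G} (h : D.InR u g) : D.InR u (D.t * g * D.t) := by
  obtain ⟨⟨c, hc⟩, ⟨j, hj⟩, h3⟩ := h
  refine ⟨⟨0 + c + 0, ((Tr.of_t u).mul hc).mul (Tr.of_t u)⟩, ⟨j, ?_⟩, ?_⟩
  · calc D.t * g * D.t * (D.t * g * D.t) = D.t * g * (D.t * D.t) * g * D.t := by group
      _ = D.t * (g * g) * D.t := by rw [D.tt]; group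
      _ = _ := by rw [hj, tb, mul_assoc, D.tt, mul_one]
  · intro w j hw h4
    apply h3 w j hw
    calc g = (D.t * D.t) * g * (D.t * D.t) := by rw [D.tt]; group
      _ = D.t * (D.t * g * D.t) * D.t := by group
      _ = D.t * (D.t * (D.q u w j * D.t)) := by rw [h4]; group
      _ = (D.t * D.t) * (D.t * D.q u w j) := by rw [← tq]; group
      _ = _ := by rw [D.tt, one_mul]

/-- conjugation by an element of `K_u` -/
theorem InR.conj_fix {g : G} (h : D.InR u g) {k : X} (hk : D.S.ρ k u = u) : D.InR u (D.ι k * g * (D.ι k)⁻¹) := by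
  have := h.conjK k
  rwa [hk] at this

end Data

end Cfsg.Agent.OddHalf.SpTwo.PatS
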