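import Cfsg.Agent.OddHalf.SpTwo.PatSR

/-!
# `Sp_{2n}(2)`, pattern {short}: the elements `y_l`, their types, involutions in `R_u`
-/

set_option autoImplicit false

namespace Cfsg.Agent.OddHalf.SpTwo.PatS

open Cfsg.Agent.StandardComponent.SpTwo

variable {G X V : Type*} [Group G] [Group X] [AddCommGroup V] [Module (ZMod 2) V]

namespace Data

variable {D : Data G X V}

theorem q0 (u w : V) : D.q u w 0 = D.ι (s D.S u w) := by
  rw [q, zero_smul, D.S.τ_zero, mul_one]

theorem q_eq_b (u w : V) (j : ZMod 2) : D.q u w j = D.b u * D.b w * D.b (u + w) * D.b (j • u) := by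
  rw [q, s, map_mul, map_mul, map_mul]; rfl

theorem commq {g : G} {v e : V} (h1 : g * D.b v = D.b v * g) (h2 : g * D.b e = D.b e * g)
    (h3 : g * D.b (v + e) = D.b (v + e) * g) (j : ZMod 2) : g * D.q v e j = D.q v e j * g := by
  have h4 : g * D.b (j • v) = D.b (j • v) * g := by
    rcases z2 j with rfl | rfl
    · rw [zero_smul, b_zero, mul_one, one_mul]
    · rw [one_smul, h1]
  rw [q_eq_b]
  have : Commute g (D.b v * D.b e * D.b (v + e) * D.b (j • v)) :=
    ((Commute.mul_right (Commute.mul_right h1 h2) h3).mul_right h4)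
  exact this

variable (D)

/-- `y ∈ V_l - A_l`, `l = <u,w>`. -/
structure IsY (u w : V) (y : G) : Prop where
  sq : y * y = 1
  ht : y * D.t = D.t * D.q u w 0 * y
  comm : ∀ e, D.S.B u e = 0 → D.S.B w e = 0 → y * D.b e = D.b e * y

variable {D}

theorem exY {u w : V} (h : D.S.B u w = 0) (hu : u ≠ 0) (hw : w ≠ 0) (huw : u ≠ w) : ∃ y, D.IsY u w y := by
  obtain ⟨y, h1, h2, h3⟩ := D.ex u w h hu hw huw
  refine ⟨y, h1, ?_, h3⟩
  rw [q0, ← h2, mul_assoc, h1, mul_one]

namespace IsY

variable {u w : V} {y : G}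

theorem comm_q (hy : D.IsY u w y) {v e : V} (h1 : D.S.B u v = 0) (h2 : D.S.B u e = 0) (h3 : D.S.B w v = 0)
    (h4 : D.S.B w e = 0) (j : ZMod 2) : y * D.q v e j = D.q v e j * y :=
  commq (hy.comm v h1 h3) (hy.comm e h2 h4)
    (hy.comm _ (by rw [map_add, h1, h2, add_zero]) (by rw [map_add, h3, h4, add_zero])) j

theorem ht' (hy : D.IsY u w y) : D.t * y = y * D.t * D.q u w 0 := by
  have h1 := hy.ht
  calc D.t * y = (y * y) * D.t * y := by rw [hy.sq, one_mul]
    _ = y * (y * D.t) * y := by group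
    _ = y * (D.t * D.q u w 0 * y) * y := by rw [h1]
    _ = y * D.t * D.q u w 0 * (y * y) := by group
    _ = _ := by rw [hy.sq, mul_one]

theorem symm (h : D.S.B u w = 0) (hy : D.IsY u w y) : D.IsY w u y := by
  refine ⟨hy.sq, ?_, fun e h1 h2 => hy.comm e h2 h1⟩
  rw [hy.ht, q0, q0, s_comm h]

theorem add_self (h : D.S.B u w = 0) (hy : D.IsY u w y) : D.IsY u (w + u) y := by
  refine ⟨hy.sq, ?_, fun e h1 h2 => hy.comm e h1 ?_⟩
  · rw [q_add_self h]; exact hy.ht
  · rw [map_add, LinearMap.add_apply, h1, add_zero] at h2; exact h2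

/-- multiplication by an element of `A_l` -/
theorem mul_b (h : D.S.B u w = 0) (hy : D.IsY u w y) {p : V} (hp : p = u ∨ p = w ∨ p = u + w) :
    D.IsY u w (y * D.b p) := by
  have h1 : D.S.B u p = 0 := by
    rcases hp with rfl | rfl | rfl
    · exact D.S.alt _
    · exact h
    · rw [map_add, D.S.alt, h, add_zero]
  have h2 : D.S.B w p = 0 := by
    rcases hp with rfl | rfl | rfl
    · rw [D.S.symm]; exact h
    · exact D.S.alt _
    · rw [map_add, D.S.alt, D.S.symm w u, h, add_zero]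
  refine ⟨?_, ?_, ?_⟩
  · calc y * D.b p * (y * D.b p) = y * (D.b p * y) * D.b p := by group
      _ = (y * y) * (D.b p * D.b p) := by rw [← hy.comm p h1 h2]; group
      _ = 1 := by rw [hy.sq, b_sq, one_mul]
  · calc y * D.b p * D.t = y * (D.b p * D.t) := by group
      _ = (y * D.t) * D.b p := by rw [← tb]; group
      _ = _ := by rw [hy.ht]; group
  · intro e he1 he2
    have h3 : D.S.B p e = 0 := by
      rcases hp with rfl | rfl | rfl
      · exact he1
      · exact he2
      · rw [map_add, LinearMap.add_apply, he1, he2, add_zero]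
    calc y * D.b p * D.b e = y * (D.b p * D.b e) := by group
      _ = (y * D.b e) * D.b p := by rw [b_comm h3]; group
      _ = _ := by rw [hy.comm e he1 he2]; group

theorem typ (hu : u ≠ 0) (hw : w ≠ 0) (huw : u ≠ w) (h : D.S.B u w = 0) (hy : D.IsY u w y) {x : V}
    (hx : D.S.B u x = 0) (hwx : D.S.B w x = 1) :
    y * D.q u x 0 = D.q u x 0 * D.q u w 0 * y ∨ y * D.q u x 0 = D.q u x 1 * y := by
  have huu : D.S.B u u = 0 := D.S.alt u
  have hwu : D.S.B w u = 0 := by rw [D.S.symm]; exact h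
  have hww : D.S.B w w = 0 := D.S.alt w
  have hA : y * D.q u w 0 = D.q u w 0 * y := hy.comm_q huu h hwu hww 0
  have hAs : D.q u x 0 * D.q u w 0 = D.q u w 0 * D.q u x 0 := q_comm hx h 0 0
  obtain ⟨s', hs'⟩ : ∃ s', s' = y * D.q u x 0 * y := ⟨_, rfl⟩
  have h1 : s' * D.t = D.t * s' := by
    calc s' * D.t = y * D.q u x 0 * (y * D.t) := by rw [hs']; group
      _ = y * (D.q u x 0 * D.t) * D.q u w 0 * y := by rw [hy.ht]; group
      _ = y * D.t * (D.q u x 0 * D.q u w 0) * y := by rw [← tq]; group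
      _ = (y * D.t * D.q u w 0) * D.q u x 0 * y := by rw [hAs]; group
      _ = D.t * s' := by rw [← hy.ht', hs']; group
  have hys : y * s' = D.q u x 0 * y := by
    rw [hs']
    calc y * (y * D.q u x 0 * y) = (y * y) * D.q u x 0 * y := by group
      _ = _ := by rw [hy.sq, one_mul]
  have hys' : y * D.q u x 0 = s' * y := by
    rw [hs']
    calc y * D.q u x 0 = y * D.q u x 0 * (y * y) := by rw [hy.sq, mul_one]
      _ = _ := by group
  have hσw : D.S.ρ (s D.S u x) w = w + u := by
    rw [ρ_s hx, D.S.symm w u, h, hwx]; simp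
  have hσu : D.S.ρ (s D.S u x) u = u := ρ_self hx
  have hσ : ∀ e, D.S.B u e = 0 → D.S.B w e = 0 →
      D.S.B u (D.S.ρ (s D.S u x) e) = 0 ∧ D.S.B w (D.S.ρ (s D.S u x) e) = 0 := by
    intro e h1 h2
    rw [ρ_s hx, D.S.symm e u, h1]
    constructor
    · simp [h1, D.S.alt]
    · simp [h2, hwu]
  have h2 : ∀ e, D.S.B u e = 0 → D.S.B w e = 0 → s' * D.b e = D.b (D.S.ρ (s D.S u x) e) * s' := by
    intro e h1 h2
    calc s' * D.b e = y * D.q u x 0 * (y * D.b e) := by rw [hs']; group
      _ = y * (D.q u x 0 * D.b e) * y := by rw [hy.comm e h1 h2]; group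
      _ = (y * D.b (D.S.ρ (s D.S u x) e)) * D.q u x 0 * y := by rw [q0, ιb]; group
      _ = _ := by rw [hy.comm _ (hσ e h1 h2).1 (hσ e h1 h2).2, hs']; group
  have hss : s D.S u x * s D.S u x = 1 := s_sq hx
  obtain ⟨k, hk⟩ := D.cent s' h1
  have h3 : ∀ e, D.S.B u e = 0 → D.S.B w e = 0 → D.S.ρ k e = D.S.ρ (s D.S u x) e := by
    intro e h1 h3
    have h4 := h2 e h1 h3
    apply D.S.τ_injective
    apply D.inj
    change D.b _ = D.b _
    rcases hk with rfl | rfl
    · rw [ιb] at h4
      exact mul_right_cancel h4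
    · rw [mul_assoc, ιb, ← mul_assoc, ← mul_assoc, tb] at h4
      exact mul_right_cancel (mul_right_cancel h4)
  obtain ⟨α, β, γ, hm⟩ := dc2 (S := D.S) (k := s D.S u x * k) hu hw huw h (fun e he1 he2 => by
    rw [D.S.ρ_mul, h3 e he1 he2, ← D.S.ρ_mul, hss, D.S.ρ_one])
  obtain ⟨m, hmd⟩ : ∃ m, m = s D.S u x * k := ⟨_, rfl⟩
  rw [← hmd] at hm
  have hkm : k = s D.S u x * m := by rw [hmd, ← mul_assoc, hss, one_mul]
  have hym : y * D.ι m = D.ι m * y := by
    have e1 : ∀ (j : ZMod 2) (p : V), D.S.B u p = 0 → D.S.B w p = 0 → Commute y (D.ι (D.S.τ (j • p))) := by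
      intro j p h1 h2
      apply hy.comm
      · rw [map_smul, h1, smul_zero]
      · rw [map_smul, h2, smul_zero]
    rw [hm, map_mul, map_mul]
    exact ((e1 α u huu hwu).mul_right (e1 β w h hww)).mul_right
      (e1 γ (u + w) (by rw [map_add, huu, h, add_zero]) (by rw [map_add, hwu, hww, add_zero]))
  have hc1 : D.S.τ u * D.S.τ w = D.S.τ w * D.S.τ u := D.S.τ_commute h
  have hc2 : D.S.τ u * D.S.τ (u + w) = D.S.τ (u + w) * D.S.τ u :=
    D.S.τ_commute (by rw [map_add, huu, h, add_zero])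
  have hc3 : D.S.τ w * D.S.τ (u + w) = D.S.τ (u + w) * D.S.τ w :=
    D.S.τ_commute (by rw [map_add, hwu, hww, add_zero])
  have hmm : m * m = 1 := by
    have e1 : Commute (D.S.τ (α • u)) (D.S.τ (β • w)) :=
      D.S.τ_commute (by rw [map_smul, map_smul, LinearMap.smul_apply, h, smul_zero, smul_zero])
    have e2 : Commute (D.S.τ (α • u)) (D.S.τ (γ • (u + w))) :=
      D.S.τ_commute (by
        rw [map_smul, map_smul, LinearMap.smul_apply, map_add, huu, h, add_zero, smul_zero, smul_zero])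
    have e3 : Commute (D.S.τ (β • w)) (D.S.τ (γ • (u + w))) :=
      D.S.τ_commute (by
        rw [map_smul, map_smul, LinearMap.smul_apply, map_add, hwu, hww, add_zero, smul_zero, smul_zero])
    rw [hm]
    calc D.S.τ (α • u) * D.S.τ (β • w) * D.S.τ (γ • (u + w)) * (D.S.τ (α • u) * D.S.τ (β • w) * D.S.τ (γ • (u + w)))
        = D.S.τ (α • u) * (D.S.τ (β • w) * (D.S.τ (γ • (u + w)) * D.S.τ (α • u)) * D.S.τ (β • w)) *
            D.S.τ (γ • (u + w)) := by group
      _ = D.S.τ (α • u) * ((D.S.τ (β • w) * D.S.τ (α • u)) * (D.S.τ (γ • (u + w)) * D.S.τ (β • w))) *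
            D.S.τ (γ • (u + w)) := by rw [← e2.eq]; group
      _ = (D.S.τ (α • u) * D.S.τ (α • u)) * (D.S.τ (β • w) * D.S.τ (β • w)) *
            (D.S.τ (γ • (u + w)) * D.S.τ (γ • (u + w))) := by rw [← e1.eq, ← e3.eq]; group
      _ = 1 := by rw [D.S.τ_sq, D.S.τ_sq, D.S.τ_sq, one_mul, one_mul]
  have hss1 : s' * s' = 1 := by
    calc s' * s' = s' * (y * D.q u x 0 * y) := by rw [← hs']
      _ = (s' * y) * D.q u x 0 * y := by group
      _ = y * (D.q u x 0 * D.q u x 0) * y := by rw [← hys']; group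
      _ = 1 := by rw [q_sq hx, mul_one, hy.sq]
  rcases hk with hk | hk
  · -- `s' = sg m`
    have hs1 : s' = D.q u x 0 * D.ι m := by rw [hk, hkm, map_mul, q0]
    have e1 : s D.S u x * m * (s D.S u x * m) = 1 := by
      apply D.inj
      rw [map_mul, map_one, ← hkm, ← hk]; exact hss1
    have e2 : s D.S u x * m = D.S.τ (α • u) * D.S.τ (β • (w + u)) * D.S.τ (γ • w) * s D.S u x := by
      have f1 : s D.S u x * D.S.τ (α • u) = D.S.τ (α • u) * s D.S u x := by rw [mul_τ, map_smul, hσu]
      have f2 : s D.S u x * D.S.τ (β • w) = D.S.τ (β • (w + u)) * s D.S u x := by rw [mul_τ, map_smul, hσw]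
      have f3 : s D.S u x * D.S.τ (γ • (u + w)) = D.S.τ (γ • w) * s D.S u x := by
        rw [mul_τ, map_smul, map_add, hσu, hσw, add_comm w u, aac]
      calc s D.S u x * m = (s D.S u x * D.S.τ (α • u)) * D.S.τ (β • w) * D.S.τ (γ • (u + w)) := by rw [hm]; group
        _ = D.S.τ (α • u) * (s D.S u x * D.S.τ (β • w)) * D.S.τ (γ • (u + w)) := by rw [f1]; group
        _ = D.S.τ (α • u) * D.S.τ (β • (w + u)) * (s D.S u x * D.S.τ (γ • (u + w))) := by rw [f2]; group
        _ = _ := by rw [f3]; group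
    have e3 : D.S.τ (α • u) * D.S.τ (β • (w + u)) * D.S.τ (γ • w) * m = 1 := by
      rw [← e1]
      calc _ = D.S.τ (α • u) * D.S.τ (β • (w + u)) * D.S.τ (γ • w) * (s D.S u x * s D.S u x) * m := by
            rw [hss, mul_one]
        _ = (D.S.τ (α • u) * D.S.τ (β • (w + u)) * D.S.τ (γ • w) * s D.S u x) * (s D.S u x * m) := by group
        _ = _ := by rw [← e2]
    have f0 : D.S.τ (w + u) * D.S.τ w ≠ 1 := by
      intro f
      have f1 : D.S.τ (w + u) = D.S.τ w := by
        rw [← D.S.τ_inv w]; exact eq_inv_of_mul_eq_one_left f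
      exact hu (by have := D.S.τ_injective f1; simpa using this)
    have hβ : β = γ := by
      rcases z2 β with rfl | rfl <;> rcases z2 γ with rfl | rfl
      · rfl
      · exfalso
        apply f0
        simp only [zero_smul, one_smul, D.S.τ_zero, mul_one] at e3 hm
        rw [hm] at e3
        rw [← e3, add_comm w u]
        calc D.S.τ (u + w) * D.S.τ w = D.S.τ w * D.S.τ (u + w) := hc3.symm
          _ = (D.S.τ (α • u) * D.S.τ (α • u)) * (D.S.τ w * D.S.τ (u + w)) := by rw [D.S.τ_sq, one_mul]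
          _ = D.S.τ (α • u) * (D.S.τ (α • u) * D.S.τ w) * D.S.τ (u + w) := by group
          _ = D.S.τ (α • u) * (D.S.τ w * D.S.τ (α • u)) * D.S.τ (u + w) := by
              rw [D.S.τ_commute (by rw [map_smul, LinearMap.smul_apply, h, smul_zero] : D.S.B (α • u) w = 0)]
          _ = _ := by group
      · exfalso
        apply f0
        simp only [zero_smul, one_smul, D.S.τ_zero, mul_one] at e3 hm
        rw [hm] at e3
        rw [← e3, add_comm w u]
        calc D.S.τ (u + w) * D.S.τ w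
            = (D.S.τ (α • u) * D.S.τ (α • u)) * D.S.τ (u + w) * D.S.τ w := by rw [D.S.τ_sq, one_mul]
          _ = D.S.τ (α • u) * (D.S.τ (α • u) * D.S.τ (u + w)) * D.S.τ w := by group
          _ = D.S.τ (α • u) * (D.S.τ (u + w) * D.S.τ (α • u)) * D.S.τ w := by
              rw [D.S.τ_commute (by
                rw [map_smul, LinearMap.smul_apply, map_add, huu, h, add_zero, smul_zero] :
                D.S.B (α • u) (u + w) = 0)]
          _ = _ := by group
      · rfl
    subst hβ
    have hD : D.InD (D.t * D.q u w 0 * s') := by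
      refine (inD_q hx).of_mul (g := y) ?_
      calc y * (D.t * D.q u x 0) = (y * D.t) * D.q u x 0 := by group
        _ = D.t * D.q u w 0 * (y * D.q u x 0) := by rw [hy.ht]; group
        _ = _ := by rw [hys']; group
    have hwx' : D.S.B u (w + x) = 0 := by rw [map_add, h, hx, add_zero]
    rcases z2 α with rfl | rfl <;> rcases z2 β with rfl | rfl
    · exfalso
      simp only [zero_smul, D.S.τ_zero, mul_one] at hm
      rw [hs1, hm, map_one, mul_one, mul_assoc, q_mul h hx, hwx] at hD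
      exact not_inD hu hwx' hD
    · exfalso
      simp only [zero_smul, one_smul, D.S.τ_zero, one_mul] at hm
      have f1 : D.ι m = D.q u w 1 := by
        rw [q, s, hm, one_smul]
        congr 1
        rw [mul_assoc (D.S.τ u * D.S.τ w), ← hc2, ← mul_assoc, mul_assoc (D.S.τ u), ← hc1, ← mul_assoc,
          D.S.τ_sq, one_mul]
      rw [hs1, f1, q_mul hx h, mul_assoc, q_mul h (by rw [map_add, hx, h, add_zero]), D.S.symm x w, hwx, map_add, hwx,
        D.S.alt, add_comm w, aab] at hD
      exact not_inD hu hx hD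
    · right
      simp only [zero_smul, one_smul, D.S.τ_zero, mul_one] at hm
      rw [hys', hs1, hm, ← zero_add (1 : ZMod 2), q_one]; rfl
    · left
      simp only [one_smul] at hm
      have f1 : D.ι m = D.q u w 0 := by rw [q0, s, hm]
      rw [hys', hs1, f1]
  · -- `s' = t sg m`
    exfalso
    have hs1 : s' = D.t * D.q u x 0 * D.ι m := by rw [hk, hkm, map_mul, q0, mul_assoc]
    have e1 : y * s' = D.q u w 0 * D.q u x 0 * y := by
      calc y * s' = (y * D.t) * D.q u x 0 * D.ι m := by rw [hs1]; group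
        _ = D.t * D.q u w 0 * (y * D.q u x 0) * D.ι m := by rw [hy.ht]; group
        _ = D.t * D.q u w 0 * s' * (y * D.ι m) := by rw [hys']; group
        _ = D.t * D.q u w 0 * D.t * D.q u x 0 * D.ι m * (y * D.ι m) := by rw [hs1]; group
        _ = (D.t * D.t) * D.q u w 0 * D.q u x 0 * (D.ι m * D.ι m) * y := by
            rw [mul_assoc D.t, ← tq, hym]; group
        _ = _ := by rw [D.tt, ← map_mul, hmm, map_one]; group
    rw [hys] at e1
    have e2 := mul_right_cancel e1
    have e3 : D.q u w 0 = 1 := by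
      have : 1 * D.q u x 0 = D.q u w 0 * D.q u x 0 := by rw [one_mul]; exact e2
      exact (mul_right_cancel this).symm
    rcases (q_eq_one hu h e3).1 with h4 | h4
    · exact hw h4
    · exact huw h4.symm

/-- The type does not depend on `x`. -/
theorem typ' (hu : u ≠ 0) (hw : w ≠ 0) (huw : u ≠ w) (h : D.S.B u w = 0) (hy : D.IsY u w y) :
    (∀ x, D.S.B u x = 0 → D.S.B w x = 1 → y * D.q u x 0 = D.q u x 0 * D.q u w 0 * y) ∨
      ∀ x, D.S.B u x = 0 → D.S.B w x = 1 → y * D.q u x 0 = D.q u x 1 * y := by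
  have huu : D.S.B u u = 0 := D.S.alt u
  have hwu : D.S.B w u = 0 := by rw [D.S.symm]; exact h
  obtain ⟨x0, h1, h2⟩ := D.S.exists_sep hw huw.symm
  rw [D.S.symm] at h1 h2
  have key : ∀ x, D.S.B u x = 0 → D.S.B w x = 1 → D.q u x 0 = D.q u x0 0 * D.q u (x0 + x) (D.S.B x0 x) ∧
      y * D.q u (x0 + x) (D.S.B x0 x) = D.q u (x0 + x) (D.S.B x0 x) * y := by
    intro x hx hwx
    have e1 : D.S.B u (x0 + x) = 0 := by rw [map_add, h2, hx, add_zero]
    constructor
    · rw [q_mul h2 e1, aac, map_add, D.S.alt, zero_add, add_zero, z_add_self]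
    · exact hy.comm_q huu e1 hwu (by rw [map_add, h1, hwx]; decide) _
  rcases hy.typ hu hw huw h h2 h1 with h3 | h3
  · left
    intro x hx hwx
    obtain ⟨k1, k2⟩ := key x hx hwx
    have e1 : D.S.B u (x0 + x) = 0 := by rw [map_add, h2, hx, add_zero]
    rw [k1]
    calc y * (D.q u x0 0 * D.q u (x0 + x) (D.S.B x0 x)) = (y * D.q u x0 0) * D.q u (x0 + x) (D.S.B x0 x) := by group
      _ = D.q u x0 0 * D.q u w 0 * (y * D.q u (x0 + x) (D.S.B x0 x)) := by rw [h3]; group
      _ = D.q u x0 0 * (D.q u w 0 * D.q u (x0 + x) (D.S.B x0 x)) * y := by rw [k2]; group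
      _ = _ := by rw [q_comm h e1]; group
  · right
    intro x hx hwx
    obtain ⟨k1, k2⟩ := key x hx hwx
    have e1 : D.S.B u (x0 + x) = 0 := by rw [map_add, h2, hx, add_zero]
    have e2 : D.q u x 1 = D.q u x0 1 * D.q u (x0 + x) (D.S.B x0 x) := by
      rw [q_mul h2 e1, aac, map_add, D.S.alt, zero_add]
      congr 1
      generalize D.S.B x0 x = z
      clear * -
      revert z; decide
    rw [k1, e2]
    calc y * (D.q u x0 0 * D.q u (x0 + x) (D.S.B x0 x)) = (y * D.q u x0 0) * D.q u (x0 + x) (D.S.B x0 x) := by group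
      _ = D.q u x0 1 * (y * D.q u (x0 + x) (D.S.B x0 x)) := by rw [h3]; group
      _ = _ := by rw [k2]; group

/-- type `b` -/
theorem tr_of_b (h : D.S.B u w = 0) (hy : D.IsY u w y)
    (h1 : ∀ x, D.S.B u x = 0 → D.S.B w x = 1 → y * D.q u x 0 = D.q u x 1 * y) : D.Tr u w y := by
  refine ⟨h, hy.ht, ?_⟩
  intro x j hx
  rcases z2 (D.S.B w x) with h2 | h2
  · rw [h2, add_zero]
    exact hy.comm_q (D.S.alt u) hx (by rw [D.S.symm]; exact h) h2 j
  · have h3 := h1 x hx h2
    have h4 : y * D.b u = D.b u * y := hy.comm u (D.S.alt u) (by rw [D.S.symm]; exact h)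
    rw [h2]
    rcases z2 j with rfl | rfl
    · rw [zero_add]; exact h3
    · have e1 : D.q u x 1 = D.q u x 0 * D.b u := by rw [← q_one, zero_add]
      rw [q_one, e1, ← mul_assoc, h3, mul_assoc, mul_assoc, h4, e1]

/-- type `a` -/
theorem tr_of_a (h : D.S.B u w = 0) (hy : D.IsY u w y)
    (h1 : ∀ x, D.S.B u x = 0 → D.S.B w x = 1 → y * D.q u x 0 = D.q u x 0 * D.q u w 0 * y) :
    D.Tr u w (y * D.b w) := by
  apply (hy.mul_b h (Or.inr (Or.inl rfl))).tr_of_b h
  intro x hx hwx
  have hwu : D.S.B w u = 0 := by rw [D.S.symm]; exact h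
  have e1 : D.b w * D.q u x 0 = D.q u (x + w) 0 * D.b w := by
    have := ιq (D := D) (D.S.τ w) u x 0
    rwa [D.S.hτ, D.S.hτ, h, zero_smul, add_zero, D.S.symm x w, hwx, one_smul] at this
  have e2 : D.q u (x + w) 0 = D.q u x 0 * D.q u w 1 := by
    rw [q_mul hx h, D.S.symm x w, hwx]; rfl
  have e3 : y * D.q u w 1 = D.q u w 1 * y := hy.comm_q (D.S.alt u) h hwu (D.S.alt w) 1
  calc y * D.b w * D.q u x 0 = y * (D.b w * D.q u x 0) := by group
    _ = (y * D.q u x 0) * D.q u w 1 * D.b w := by rw [e1, e2]; group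
    _ = D.q u x 0 * D.q u w 0 * (y * D.q u w 1) * D.b w := by rw [h1 x hx hwx]; group
    _ = D.q u x 0 * (D.q u w 0 * D.q u w 1) * (y * D.b w) := by rw [e3]; group
    _ = _ := by
      rw [q_mul h h, aa, D.S.alt, zero_add, zero_add, q_zero_one, ← q_one, zero_add]

end IsY

/-- involutions inducing a translation -/
theorem exZ {u w : V} (h : D.S.B u w = 0) (hu : u ≠ 0) (hw : w ≠ 0) (huw : u ≠ w) :
    ∃ z, D.IsY u w z ∧ D.Tr u w z := by
  obtain ⟨y, hy⟩ := exY h hu hw huw
  rcases hy.typ' hu hw huw h with h1 | h1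
  · exact ⟨_, hy.mul_b h (Or.inr (Or.inl rfl)), hy.tr_of_a h h1⟩
  · exact ⟨_, hy, hy.tr_of_b h h1⟩

/-! ### Commutators of translations -/

variable {u c c' : V} {z z' : G}

theorem Tr.ne_of (hu : u ≠ 0) (h : D.Tr u c z) (hc : ¬ (c = 0 ∨ c = u)) (w : V) (j : ZMod 2) : z ≠ D.q u w j ∧ z ≠ D.t * D.q u w j := by
  have key : z * D.t = D.t * z → False := by
    intro h1
    rw [h.2.1] at h1
    have h2 : D.q u c 0 = 1 := by
      rw [mul_assoc] at h1
      have h2 := mul_left_cancel h1
      have : D.q u c 0 * z = 1 * z := by rw [one_mul]; exact h2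
      exact mul_right_cancel this
    exact hc (q_eq_one hu h.1 h2).1
  constructor
  · intro h1
    apply key
    rw [h1, tq]
  · intro h1
    apply key
    rw [h1, mul_assoc, ← tq]

/-- If `z t q` squares into `<b_u>` ... -/
theorem Tr.sq_tq (h : D.Tr u c z) (hz : z * z = 1) {w : V} (hw : D.S.B u w = 0) (j : ZMod 2) :
    z * (D.t * D.q u w j) * (z * (D.t * D.q u w j)) = D.q u c (D.S.B c w) := by
  calc z * (D.t * D.q u w j) * (z * (D.t * D.q u w j)) = (z * D.t) * D.q u w j * z * D.t * D.q u w j := by group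
    _ = D.t * D.q u c 0 * (z * D.q u w j) * z * D.t * D.q u w j := by rw [h.2.1]; group
    _ = D.t * D.q u c 0 * D.q u w (j + D.S.B c w) * (z * z) * D.t * D.q u w j := by rw [h.2.2 w j hw]; group
    _ = D.t * D.q u c 0 * (D.q u w (j + D.S.B c w) * D.t) * D.q u w j := by rw [hz]; group
    _ = (D.t * D.q u c 0 * D.t) * (D.q u w (j + D.S.B c w) * D.q u w j) := by rw [← tq]; group
    _ = _ := by
        rw [tq, mul_assoc (D.q u c 0), D.tt, mul_one, q_mul hw hw, aa, D.S.alt, zero_add, q_mul h.1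
          (map_zero _), map_zero, add_zero, zero_add, zero_add]
        congr 1
        generalize D.S.B c w = x
        clear * -
        revert x j; decide

theorem Tr.sq_q (h : D.Tr u c z) (hz : z * z = 1) {w : V} (hw : D.S.B u w = 0) (j : ZMod 2) :
    z * D.q u w j * (z * D.q u w j) = D.b (D.S.B c w • u) := by
  calc z * D.q u w j * (z * D.q u w j) = (z * D.q u w j) * z * D.q u w j := by group
    _ = D.q u w (j + D.S.B c w) * (z * z) * D.q u w j := by rw [h.2.2 w j hw]; group
    _ = _ := by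
      rw [hz, mul_one, q_mul hw hw, aa, D.S.alt, zero_add, q_zero]
      congr 2
      generalize D.S.B c w = x
      clear * -
      revert x j; decide

/-- The commutator of two involutions. -/
theorem Tr.comm (hu : u ≠ 0) (h : D.Tr u c z) (hz : z * z = 1) (h' : D.Tr u c' z') (hz' : z' * z' = 1)
    (hc : ¬ (c = 0 ∨ c = u)) :
    ∃ v j, D.S.B u v = 0 ∧ D.S.B c v = 0 ∧ D.S.B c' v = 0 ∧ z * z' * (z * z') = D.q u v j := by
  have h1 : D.Tr u 0 (z * z' * (z * z')) := by
    have := (h.mul h').mul (h.mul h')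
    rwa [aa] at this
  obtain ⟨v, j, hv, he⟩ := h1.ker hu (Or.inl rfl)
  have hinv : z * (z * z' * (z * z')) * z = (z * z' * (z * z'))⁻¹ := by
    rw [eq_inv_iff_mul_eq_one]
    calc z * (z * z' * (z * z')) * z * (z * z' * (z * z')) = (z * z) * z' * z * z' * (z * z) * z' * z * z' := by group
      _ = z' * z * (z' * z') * z * z' := by rw [hz]; group
      _ = 1 := by rw [hz', mul_one, mul_assoc z', hz, mul_one, hz']
  have hinv' : z' * (z * z' * (z * z')) * z' = (z * z' * (z * z'))⁻¹ := by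
    rw [eq_inv_iff_mul_eq_one]
    calc z' * (z * z' * (z * z')) * z' * (z * z' * (z * z'))
        = z' * z * z' * z * (z' * z') * z * z' * z * z' := by group
      _ = z' * z * z' * (z * z) * z' * z * z' := by rw [hz']; group
      _ = z' * z * (z' * z') * z * z' := by rw [hz]; group
      _ = 1 := by rw [hz', mul_one, mul_assoc z', hz, mul_one, hz']
  have hmove : ∀ {z : G} {c : V}, D.Tr u c z → z * z = 1 → z * D.q u v j * z = (D.q u v j)⁻¹ → D.S.B c v = 0 := by
    intro z c h hz h2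
    rw [h.2.2 v j hv, mul_assoc, hz, mul_one, eq_inv_iff_mul_eq_one, q_mul hv hv, aa] at h2
    have h3 := (q_eq_one hu (map_zero _) h2).2
    rw [D.S.alt] at h3
    revert h3
    generalize D.S.B c v = x
    clear * -
    revert x j; decide
  rcases he with he | he
  · exact ⟨v, j, hv, hmove h hz (by rw [← he]; exact hinv), hmove h' hz' (by rw [← he]; exact hinv'), he⟩
  · exfalso
    have e1 : (D.t * D.q u v j)⁻¹ = D.t * D.q u v j := by
      rw [inv_eq_iff_mul_eq_one]
      calc D.t * D.q u v j * (D.t * D.q u v j) = D.t * (D.q u v j * D.t) * D.q u v j := by group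
        _ = (D.t * D.t) * (D.q u v j * D.q u v j) := by rw [← tq]; group
        _ = 1 := by rw [D.tt, q_sq hv, one_mul]
    rw [he, e1] at hinv
    have e2 : z * (D.t * D.q u v j) * z = D.t * (D.q u c 0 * D.q u v (j + D.S.B c v)) := by
      calc z * (D.t * D.q u v j) * z = (z * D.t) * D.q u v j * z := by group
        _ = D.t * D.q u c 0 * (z * D.q u v j) * z := by rw [h.2.1]; group
        _ = D.t * D.q u c 0 * D.q u v (j + D.S.B c v) * (z * z) := by rw [h.2.2 v j hv]; group
        _ = _ := by rw [hz]; group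
    rw [e2, q_mul h.1 hv] at hinv
    have e3 := mul_left_cancel hinv
    rcases (q_eq hu (by rw [map_add, h.1, hv, add_zero]) hv e3).1 with e4 | e4
    · exact hc (Or.inl (by simpa using e4.symm))
    · apply hc
      right
      have : v + (c + v + u) = 0 := by rw [← e4, aa]
      apply eq_of_add
      rw [← this, ← add_assoc, add_comm v (c + v), aab]

end Data

end Cfsg.Agent.OddHalf.SpTwo.PatS
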