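import Cfsg.Agent.OddHalf.SpTwo.ShortSp

/-!
# Existence of `y_ℓ` (short roots), first part

`g` with `t ↦ t s_ℓ`, `s_ℓ ↦ s_ℓ` normalises `Q_ℓ` and `A_ℓ`, and can be chosen to centralise `A_ℓ`.
-/

set_option autoImplicit false
set_option linter.unusedSimpArgs false
set_option linter.unusedSectionVars false

open scoped commutatorElement

namespace Cfsg.Agent.OddHalf.SpTwo

open Cfsg.Agent.StandardComponent.SpTwo
open Cfsg.Agent.OddHalf.SpTwoN

section Sp

variable {X V : Type*} [Group X] [AddCommGroup V] [Module (ZMod 2) V] {D : SpData X V}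

/-- a common neighbour in `A^⊥` -/
theorem exists_neighbour' [Finite V] (D : SpData X V) {A : Submodule (ZMod 2) V} {w w' : V} (hw : w ∉ A)
    (hw' : w' ∉ A) : ∃ y ∈ perp D A, D.B w y = 1 ∧ D.B y w' = 1 := by
  obtain ⟨y1, hy1, h1⟩ := sep D hw
  obtain ⟨y2, hy2, h2⟩ := sep D hw'
  rcases z2 (D.B y1 w') with h3 | h3
  · rcases z2 (D.B y2 w) with h4 | h4
    · refine ⟨y1 + y2, add_mem hy1 hy2, ?_, ?_⟩
      · rw [D.symm, B_add, h1, h4, add_zero]
      · rw [B_add, h2, h3, zero_add]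
    · exact ⟨y2, hy2, by rw [D.symm]; exact h4, h2⟩
  · exact ⟨y1, hy1, by rw [D.symm]; exact h1, h3⟩

/-- transitivity on the vectors of `A^⊥` outside `A` -/
theorem trans_perp [Finite V] (D : SpData X V) {A : Submodule (ZMod 2) V} {w w' : V} (hw : w ∉ A)
    (hw' : w' ∉ A) (h : w ∈ perp D A) (h' : w' ∈ perp D A) :
    ∃ g ∈ TG D (perp D A : Set V), D.ρ g w = w' := by
  have key : ∀ a b : V, D.B a b = 1 → D.ρ (D.τ (a + b)) a = b := by
    intro a b h
    rw [D.hτ, map_add, D.alt, h, zero_add, one_smul, aac]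
  obtain ⟨y, hy, h1, h2⟩ := exists_neighbour' D hw hw'
  refine ⟨D.τ (y + w') * D.τ (w + y), mul_mem (τ_mem_TG D (add_mem hy h')) (τ_mem_TG D (add_mem h hy)), ?_⟩
  rw [D.ρ_mul, key _ _ h1, key _ _ h2]

namespace IsLn

variable {v w : V} (h : IsLn D v w)
include h

theorem sp_one : q D v ((1 : ZMod 2) • w) 0 = q D v w 0 := by rw [one_smul]

theorem s_ne_one [Finite V] : q D v w 0 ≠ 1 := by
  intro h1
  rw [← q_zero D v] at h1
  have := (q_inj D h.hv h.hwv (B_zero D v) h1).1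
  rw [add_zero] at this
  exact h.hw this

theorem sp_add (e e' : ZMod 2) : q D v (e • w) 0 * q D v (e' • w) 0 = q D v ((e + e') • w) 0 := by
  have h1 : ∀ f : ZMod 2, D.B (f • w) v = 0 := fun f => by
    rw [map_smul, LinearMap.smul_apply, h.hwv, smul_zero]
  rw [q_mul D (h1 e) (h1 e'), ← add_smul, map_smul, map_smul, LinearMap.smul_apply, D.alt]; simp

theorem sp_inj [Finite V] {e e' : ZMod 2} (h1 : q D v (e • w) 0 = q D v (e' • w) 0) : e = e' := by
  have h2 : ∀ f : ZMod 2, D.B (f • w) v = 0 := fun f => by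
    rw [map_smul, LinearMap.smul_apply, h.hwv, smul_zero]
  have h3 := (q_inj D h.hv (h2 e) (h2 e') h1).1
  rw [← add_smul] at h3
  rcases z2 (e + e') with h4 | h4
  · exact eq_of_add _ _ h4
  · rw [h4, one_smul] at h3; exact absurd h3 h.hw

/-- `τ a τ b = τ (a+b) s` for different nonzero vectors of the line -/
theorem ττ {a b : V} (ha : a ∈ pl v w) (hb : b ∈ pl v w) (ha0 : a ≠ 0) (hab : b ∉ ln a) :
    D.τ a * D.τ b = D.τ (a + b) * q D v w 0 := by
  have h1 := h.q_of_mem ha hb ha0 hab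
  have h2 : D.B a b = 0 := h.ti ha b hb
  have h3 : D.τ (a + b) * (D.τ a * D.τ b) = D.τ a * D.τ b * D.τ (a + b) := by
    have e1 : D.τ (a + b) * D.τ a = D.τ a * D.τ (a + b) := D.τ_commute (by
      rw [B_add, D.alt, D.symm, h2, add_zero])
    have e2 : D.τ (a + b) * D.τ b = D.τ b * D.τ (a + b) := D.τ_commute (by
      rw [B_add, D.alt, h2, add_zero])
    rw [← mul_assoc, e1, mul_assoc, e2, mul_assoc]
  rw [← h1, q, zero_smul, D.τ_zero, mul_one, ← h3, ← mul_assoc, D.τ_sq, one_mul]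

theorem τ_sp_inj [Finite V] {a b : V} (ha : a ∈ pl v w) (hb : b ∈ pl v w) (ha0 : a ≠ 0) (hb0 : b ≠ 0)
    {e e' : ZMod 2} (h1 : D.τ a * q D v (e • w) 0 = D.τ b * q D v (e' • w) 0) : a = b ∧ e = e' := by
  have hsp : ∀ f : ZMod 2, q D v (f • w) 0 * q D v (f • w) 0 = 1 := by
    intro f
    rw [h.sp_add, z2_add, zero_smul, q_zero]
  have h2 : D.τ b * D.τ a = q D v ((e' + e) • w) 0 := by
    rw [← h.sp_add]
    calc D.τ b * D.τ a = D.τ b * (D.τ a * q D v (e • w) 0) * q D v (e • w) 0 := by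
          rw [mul_assoc, mul_assoc, hsp, mul_one]
      _ = _ := by rw [h1, ← mul_assoc, D.τ_sq, one_mul]
  by_cases hab : a = b
  · refine ⟨hab, ?_⟩
    rw [hab, D.τ_sq, ← q_zero D v, ← zero_smul (ZMod 2) w] at h2
    have := h.sp_inj h2
    exact (eq_of_add _ _ this.symm).symm
  · exfalso
    have hab' : a ∉ ln b := notMem_ln ha0 hab
    have h3 := h.ττ hb ha hb0 hab'
    rw [h2] at h3
    rcases z2 (e' + e) with h4 | h4
    · rw [h4, zero_smul, q_zero] at h3
      -- `τ (b + a) = s`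
      have h5 : D.τ b * D.τ a = 1 := by rw [h2, h4, zero_smul, q_zero]
      have h6 : D.τ b = D.τ a := by rw [← D.τ_inv a]; exact eq_inv_of_mul_eq_one_left h5
      exact hab (D.τ_injective h6).symm
    · rw [h4, one_smul] at h3
      have h5 : D.τ (b + a) = 1 := by
        have := h3.symm
        exact mul_eq_right.1 this
      exact hab (eq_of_add _ _ (D.τ_eq_one h5)).symm

/-- cases for the elements of `A_ℓ` -/
theorem AU_cases [Finite V] {a : X} (ha : a ∈ AU D (pl v w)) :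
    (∃ e : ZMod 2, a = q D v (e • w) 0) ∨
      ∃ u ∈ pl v w, u ≠ 0 ∧ ∃ e : ZMod 2, a = D.τ u * q D v (e • w) 0 := by
  obtain ⟨α, b, c, rfl⟩ := h.mem_AU_pl ha
  have h1 : D.B (b • w) v = 0 := by rw [map_smul, LinearMap.smul_apply, h.hwv, smul_zero]
  have h2 : q D v (b • w) α = q D v 0 α * q D v (b • w) 0 := by
    rw [q_mul D (B_zero D v) h1, B_zero]; simp
  have hcw : q D v (b • w) 0 * D.τ w = D.τ w * q D v (b • w) 0 :=
    AU_comm D (h.sp_mem b) (QU_le_FU D (AU_le_QU D h.ti (τ_mem_AU D (right_mem_pl v w))))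
  rcases z2 α with rfl | rfl <;> rcases z2 c with rfl | rfl
  · left
    refine ⟨b, ?_⟩
    rw [q_zero, mul_one]
  · right
    refine ⟨w, right_mem_pl v w, h.hw0, b, ?_⟩
    rw [q_zero_one, hcw]
  · right
    refine ⟨v, left_mem_pl v w, h.hv, b, ?_⟩
    rw [q_zero, mul_one, h2, q_zero_one]
  · right
    refine ⟨v + w, add_mem (left_mem_pl v w) (right_mem_pl v w), h.add_ne, 1 + b, ?_⟩
    rw [h2, q_zero_one, q_zero_one, mul_assoc, hcw, ← mul_assoc,
      h.ττ (left_mem_pl v w) (right_mem_pl v w) h.hv h.hw, mul_assoc, ← h.sp_one, h.sp_add]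

/-- `q v x e` for `x` in the line -/
theorem q_mem_AU {x : V} (hx : x ∈ pl v w) (e : ZMod 2) : q D v x e ∈ AU D (pl v w) := by
  intro z hz
  rw [mem_perp_pl] at hz
  have hxv : D.B x v = 0 := h.ti hx v (left_mem_pl v w)
  have h1 : D.B z x = 0 := (mem_perp_pl D).2 hz x hx
  rw [q_apply D hxv, hz.1, h1]; simp

/-- `q v x 0` depends on `x` modulo the line, up to `A_ℓ` -/
theorem q_mod {x x' : V} (hx : x ∈ perp D (pl v w)) (hxx : x + x' ∈ pl v w) (e : ZMod 2) :
    ∃ a ∈ AU D (pl v w), q D v x' e = q D v x e * a := by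
  have hx' := (mem_perp_pl D).1 hx
  have h1 : D.B (x + x') v = 0 := h.ti hxx v (left_mem_pl v w)
  refine ⟨q D v (x + x') 0, h.q_mem_AU hxx 0, ?_⟩
  rw [q_mul D hx'.1 h1, aac, add_zero, hx (x + x') hxx, add_zero]

/-- converse -/
theorem mem_of_q_eq [Finite V] {x x' : V} (hx : x ∈ perp D (pl v w)) (hx' : x' ∈ perp D (pl v w))
    {e e' : ZMod 2} {a a' : X} (ha : a ∈ AU D (pl v w)) (ha' : a' ∈ AU D (pl v w))
    (h1 : q D v x e * a = q D v x' e' * a') : x + x' ∈ pl v w := by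
  apply mem_of_perp D
  intro z hz
  have h2 := (ρ_eq D).1 h1 z
  have hz' := (mem_perp_pl D).1 hz
  have hxv := ((mem_perp_pl D).1 hx).1
  have hxv' := ((mem_perp_pl D).1 hx').1
  rw [D.ρ_mul, D.ρ_mul, ha z hz, ha' z hz, q_apply D hxv, q_apply D hxv', hz'.1] at h2
  simp only [mul_zero, zero_smul, add_zero] at h2
  have h3 := add_left_cancel h2
  rw [map_add]
  rcases z2 (D.B z x + D.B z x') with h4 | h4
  · exact h4
  · exfalso
    have h5 : (D.B z x + D.B z x') • v = 0 := by rw [add_smul, h3, aa]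
    rw [h4, one_smul] at h5
    exact h.hv h5

/-- elements of `Q_ℓ` acting as `⟨v⟩` on `ℓ^⊥` -/
theorem XU_struct [Finite V] {p : X} (hp : p ∈ QU D (pl v w))
    (hp' : ∀ z ∈ perp D (pl v w), D.ρ p z + z ∈ ln v) :
    ∃ x ∈ perp D (pl v w), ∃ a ∈ AU D (pl v w), p = q D v x 0 * a := by
  obtain ⟨a, b, ha, hb, k, hk, rfl⟩ := h.mem_QU_pl hp
  refine ⟨a, ha, q D w b 0 * k, ?_, by rw [mul_assoc]⟩
  have hbl : b ∈ pl v w := by
    apply mem_of_perp D
    intro z hz
    have h1 := hp' z hz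
    have hz' := (mem_perp_pl D).1 hz
    have ha' := (mem_perp_pl D).1 ha
    have hb' := (mem_perp_pl D).1 hb
    have hwa : D.B w a = 0 := by rw [D.symm]; exact ha'.2
    rw [D.ρ_mul, D.ρ_mul, hk z hz, q_apply D hb'.2, q_apply D ha'.1] at h1
    simp only [map_add, LinearMap.add_apply, map_smul, LinearMap.smul_apply, hz'.1, hz'.2, hwa, h.hwv, smul_zero,
      zero_smul, mul_zero, add_zero, zero_add] at h1
    have e1 : z + D.B z b • w + D.B z a • v + z = D.B z b • w + D.B z a • v + (z + z) := by abel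
    rw [e1, aa, add_zero] at h1
    rcases z2 (D.B z b) with h2 | h2
    · exact h2
    · exfalso
      rw [h2, one_smul] at h1
      have h3 := add_mem h1 (Submodule.smul_mem _ (D.B z a) (self_mem_ln v))
      rw [aab] at h3
      exact h.hw h3
  have h2 := h.symm.q_mem_AU (by rw [h.pl_symm]; exact hbl) 0
  rw [h.pl_symm] at h2
  exact mul_mem h2 hk

end IsLn

end Sp

/-! ### contexts -/

variable {G V : Type*} [Group G] [AddCommGroup V] [Module (ZMod 2) V] {C : Ctx G V}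
variable {v w : V} {g : G}

theorem nrm_pl (h : IsLn C.S v w) (ht : g * C.t * g⁻¹ = C.t * (q C.S v w 0 : C.L))
    (hs : g * (q C.S v w 0 : C.L) * g⁻¹ = (q C.S v w 0 : C.L)) : Nrm C (pl v w) (q C.S v w 0) g := by
  have hfinV := C.finV
  exact ⟨fun x => commute_s_iff C.S h.hv h.hw h.hvw, q_sq C.S h.hwv 0, ht, hs⟩

theorem Nrm.symm_pl (h : IsLn C.S v w) (H : Nrm C (pl v w) (q C.S v w 0) g) :
    Nrm C (pl w v) (q C.S w v 0) g := by
  rw [h.pl_symm, h.q_symm]; exact H

theorem Nrm.of_mem_pl (h : IsLn C.S v w) (H : Nrm C (pl v w) (q C.S v w 0) g) {a b : V} (ha : a ∈ pl v w)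
    (hb : b ∈ pl v w) (ha0 : a ≠ 0) (hab : b ∉ ln a) : Nrm C (pl a b) (q C.S a b 0) g := by
  rw [h.pl_eq_of_mem ha hb ha0 hab, h.q_of_mem ha hb ha0 hab]; exact H

theorem triv_pl (h : IsLn C.S v w) : Nrm.Triv C (pl v w) := by
  have hfinV := C.finV
  intro N hN hNn x hx x0 hx0 hxx
  let N' : Subgroup C.L :=
    { carrier := {y | y ∈ PU C.S (pl v w) ∧ ((y : G) ∈ N ∨ C.t * (y : G) ∈ N)}
      one_mem' := ⟨one_mem _, Or.inl (one_mem _)⟩
      mul_mem' := by
        rintro a b ⟨ha, ha'⟩ ⟨hb, hb'⟩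
        refine ⟨mul_mem ha hb, ?_⟩
        rcases ha' with ha' | ha' <;> rcases hb' with hb' | hb'
        · left; exact mul_mem ha' hb'
        · right
          have := mul_mem ha' hb'
          rwa [← mul_assoc, t_comm, mul_assoc] at this
        · right
          have := mul_mem ha' hb'
          rwa [mul_assoc] at this
        · left
          have := mul_mem ha' hb'
          rwa [← t_comm, tt_mid] at this
      inv_mem' := by
        rintro a ⟨ha, ha'⟩
        refine ⟨inv_mem ha, ?_⟩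
        rcases ha' with ha' | ha'
        · left; exact inv_mem ha'
        · right
          have := inv_mem ha'
          rw [mul_inv_rev, C.t_inv] at this
          have h2 := t_comm C a⁻¹
          change C.t * ((a⁻¹ : C.L) : G) ∈ N
          rw [← h2]; exact this }
  have hN'p : IsPGroup 2 N' := by
    rintro ⟨y, hy, hy'⟩
    have hc : Commute C.t (y : G) := (t_comm C y).symm
    have : ∃ k, (y : G) ^ 2 ^ (k + 1) = 1 := by
      rcases hy' with hy' | hy'
      · obtain ⟨k, hk⟩ := hN ⟨_, hy'⟩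
        have hk' : (y : G) ^ 2 ^ k = 1 := congrArg Subtype.val hk
        exact ⟨k, by rw [pow_succ 2, pow_mul, hk', one_pow]⟩
      · obtain ⟨k, hk⟩ := hN ⟨_, hy'⟩
        have hk' : (C.t * (y : G)) ^ 2 ^ k = 1 := congrArg Subtype.val hk
        refine ⟨k, ?_⟩
        have h1 : (C.t * (y : G)) ^ 2 ^ (k + 1) = 1 := by rw [pow_succ 2, pow_mul, hk', one_pow]
        rw [hc.mul_pow] at h1
        have h2 : C.t ^ 2 ^ (k + 1) = 1 := by
          rw [pow_succ 2, mul_comm, pow_mul, pow_two, C.tt, one_pow]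
        rwa [h2, one_mul] at h1
    obtain ⟨k, hk⟩ := this
    exact ⟨k + 1, Subtype.ext (Subtype.ext hk)⟩
  obtain ⟨u, hu, hu0, hfix⟩ := exists_fixed_quot hN'p (C.S.ρ.comp N'.subtype) ⊥ (pl v w)
    (by
      rw [bot_lt_iff_ne_bot]
      intro h1
      have := left_mem_pl v w
      rw [h1, Submodule.mem_bot] at this
      exact h.hv this)
    (fun s x hx => by
      rw [Submodule.mem_bot] at hx ⊢
      rw [hx]; exact map_zero _)
    (fun s x hx => (s.2.1 x).2 hx)
  have hu0' : u ≠ 0 := fun h1 => hu0 (by rw [h1]; exact zero_mem _)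
  have hfix' : ∀ y ∈ N', C.S.ρ y u = u := by
    intro y hy
    have := hfix ⟨y, hy⟩
    rw [Submodule.mem_bot] at this
    exact eq_of_add _ _ this
  have hx0N : x0 ∈ N' := by
    refine ⟨hx0, ?_⟩
    rcases hxx with rfl | rfl
    · left; exact hx
    · right; exact hx
  intro u' hu'
  by_cases h0 : u' = 0
  · rw [h0, map_zero]
  by_cases h1 : u' = u
  · rw [h1]; exact hfix' x0 hx0N
  have hul : u' ∉ ln u := notMem_ln h0 h1
  obtain ⟨m, hm, hmu, -⟩ := exists_swap C.S hu0' hul (h.ti hu u' hu')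
  rw [h.pl_eq_of_mem hu hu' hu0' hul] at hm
  have h2 : m⁻¹ * x0 * m ∈ N' := by
    have hmi : m⁻¹ ∈ PU C.S (pl v w) := inv_mem hm
    refine ⟨mul_mem (mul_mem hmi hx0) hm, ?_⟩
    rcases hx0N.2 with h3 | h3
    · left
      have := hNn _ hmi _ h3
      change (m : G)⁻¹ * x0 * ((m : G)⁻¹)⁻¹ ∈ N at this
      rw [inv_inv] at this
      exact this
    · right
      have := hNn _ hmi _ h3
      change (m : G)⁻¹ * (C.t * x0) * ((m : G)⁻¹)⁻¹ ∈ N at this
      rw [inv_inv] at this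
      have e1 : (m : G)⁻¹ * (C.t * x0) * m = C.t * ((m : G)⁻¹ * x0 * m) := by
        have := t_comm C m⁻¹
        have h4 : (m : G)⁻¹ * C.t = C.t * (m : G)⁻¹ := this
        rw [← mul_assoc, h4]; group
      rw [e1] at this
      exact this
  have h3 := hfix' _ h2
  rw [C.S.ρ_mul, C.S.ρ_mul, hmu] at h3
  have h4 := congrArg (C.S.ρ m) h3
  rwa [C.S.ρ_apply_inv, hmu] at h4

theorem qv_mem_QF (h : IsLn C.S v w) (H : Nrm C (pl v w) (q C.S v w 0) g) {x : V} (hx : x ∈ perp C.S (pl v w))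
    (e : ZMod 2) : q C.S v x e ∈ H.QF := by
  have hfinV := C.finV
  have h256 := C.cardV
  -- vectors outside the line
  have h1 : ∀ y ∈ perp C.S (pl v w), y ∉ pl v w → q C.S v y 1 ∈ H.QF := by
    intro y hy hyl
    obtain ⟨u, hu, huy⟩ := sep C.S hyl
    have hu' := (mem_perp_pl C.S).1 hu
    have hy' := (mem_perp_pl C.S).1 hy
    have h2 := H.commutator_mem_QF h.ti (triv_pl h) (h.qv_mem hu 0) (τ_mem_PU C.S hy)
    rw [q_inv C.S hu'.1, C.S.τ_inv] at h2
    have h3 : q C.S v u 0 * (C.S.τ y * q C.S v u 0 * C.S.τ y) = q C.S v y 1 := by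
      have := q_comm_τ C.S hy'.1 hu'.1 (0 : ZMod 2)
      rw [huy, one_smul] at this
      rw [← this]; simp only [mul_assoc]
    rwa [h3] at h2
  obtain ⟨y, hy, hyl⟩ := room C.S h256 (A := pl v w) (A' := pl v w) (by
    have := finrank_pl_le v w; omega)
  obtain ⟨y', hy', hyl'⟩ := room C.S h256 (A := pl v w ⊔ ln y) (A' := pl v w ⊔ ln y) (by
    have := finrank_pl_le v w
    have := finrank_sup_ln_le (pl v w) y
    omega)
  rw [mem_perp_sup, mem_perp_ln] at hy'
  have hyl'' : y' ∉ pl v w := fun h2 => hyl' (Submodule.mem_sup_left h2)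
  have hyy : y + y' ∉ pl v w := fun h2 => hyl' (mem_sup_ln.2 (Or.inr (by rw [add_comm]; exact h2)))
  have hyv := ((mem_perp_pl C.S).1 hy).1
  have hyv' := ((mem_perp_pl C.S).1 hy'.1).1
  have h0 : q C.S v 0 1 ∈ H.QF := by
    have e1 : q C.S v 0 1 = q C.S v y 1 * q C.S v y' 1 * q C.S v (y + y') 1 := by
      rw [q_mul C.S hyv hyv', q_mul C.S (by rw [B_add, hyv, hyv', add_zero])
        (by rw [B_add, hyv, hyv', add_zero]), aa, C.S.alt, C.S.symm y y', hy'.2]
      have : (1 : ZMod 2) + 1 + 0 + 1 + 0 = 1 := by decide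
      rw [this]
    rw [e1]
    exact mul_mem (mul_mem (h1 y hy hyl) (h1 y' hy'.1 hyl'')) (h1 _ (add_mem hy hy'.1) hyy)
  have h0' : ∀ f : ZMod 2, q C.S v 0 f ∈ H.QF := by
    intro f
    rcases z2 f with rfl | rfl
    · rw [q_zero]; exact one_mem _
    · exact h0
  have h2 : ∀ y ∈ perp C.S (pl v w), y ∉ pl v w → ∀ f : ZMod 2, q C.S v y f ∈ H.QF := by
    intro y hy hyl f
    have e1 : q C.S v y f = q C.S v y 1 * q C.S v 0 (1 + f) := by
      rw [q_mul C.S ((mem_perp_pl C.S).1 hy).1 (B_zero C.S v), map_zero]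
      simp only [add_zero]
      rw [z2_add']
    rw [e1]; exact mul_mem (h1 y hy hyl) (h0' _)
  by_cases hxl : x ∈ pl v w
  · have hxv := ((mem_perp_pl C.S).1 hx).1
    have e1 : q C.S v x e = q C.S v (x + y) e * q C.S v y 0 := by
      have hyx : C.S.B x y = 0 := by rw [C.S.symm]; exact hy x hxl
      rw [q_mul C.S (by rw [B_add, hxv, hyv, add_zero]) hyv, aab, B_add, C.S.alt, hyx]; simp
    rw [e1]
    refine mul_mem (h2 _ (add_mem hx hy) (fun h3 => hyl ?_) e) (h2 y hy hyl 0)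
    have := add_mem hxl h3
    rwa [aac] at this
  · exact h2 x hx hxl e

theorem exists_QF (h : IsLn C.S v w) (H : Nrm C (pl v w) (q C.S v w 0) g) {x : C.L}
    (hx : x ∈ QU C.S (pl v w)) : ∃ y ∈ QU C.S (pl v w), g * (x : G) * g⁻¹ = (y : G) := by
  have hfinV := C.finV
  have hv : ∀ a ∈ perp C.S (pl v w), ∀ e, q C.S v a e ∈ H.QF := fun a ha e => qv_mem_QF h H ha e
  have hw : ∀ a ∈ perp C.S (pl v w), ∀ e, q C.S w a e ∈ H.QF := by
    intro a ha e
    have H' := H.symm_pl h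
    have h1 := qv_mem_QF h.symm H' (x := a) (by rw [h.pl_symm]; exact ha) e
    obtain ⟨h2, y, hy, hy'⟩ := h1
    rw [h.pl_symm] at h2 hy
    exact ⟨h2, y, hy, hy'⟩
  obtain ⟨a, b, ha, hb, k, hk, rfl⟩ := h.mem_QU_pl hx
  obtain ⟨α, b', c, rfl⟩ := h.mem_AU_pl hk
  have h1 : q C.S v a 0 * q C.S w b 0 * (q C.S v (b' • w) α * q C.S w 0 c) ∈ H.QF :=
    mul_mem (mul_mem (hv a ha 0) (hw b hb 0)) (mul_mem
      (hv _ (Submodule.smul_mem _ _ (h.ti (right_mem_pl v w))) α) (hw 0 (zero_mem _) c))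
  exact h1.2

/-- `g` normalises `A_ℓ` -/
theorem exists_AU (h : IsLn C.S v w) (H : Nrm C (pl v w) (q C.S v w 0) g) {x : C.L}
    (hx : x ∈ AU C.S (pl v w)) : ∃ y ∈ AU C.S (pl v w), g * (x : G) * g⁻¹ = (y : G) := by
  have hfinV := C.finV
  obtain ⟨y, hy, hy'⟩ := exists_QF h H (AU_le_QU C.S h.ti hx)
  refine ⟨y, ?_, hy'⟩
  have key : ∀ r ∈ QU C.S (pl v w), y * r = r * y := by
    intro r hr
    obtain ⟨r', hr', hrr⟩ := exists_QF h H.inv hr
    rw [inv_inv] at hrr
    have h1 : x * r' = r' * x := AU_comm C.S hx (QU_le_FU C.S hr')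
    have h1' : (x : G) * r' = r' * x := congrArg Subtype.val h1
    have h2 : (r : G) = g * r' * g⁻¹ := by rw [← hrr]; group
    apply Subtype.ext
    change (y : G) * r = r * y
    rw [← hy', h2]
    calc g * x * g⁻¹ * (g * r' * g⁻¹) = g * (x * r') * g⁻¹ := by group
      _ = _ := by rw [h1']; group
  apply h.mem_AU_of_commute
  · exact key _ (AU_le_QU C.S h.ti (τ_mem_AU C.S (left_mem_pl v w)))
  · exact key _ (AU_le_QU C.S h.ti (τ_mem_AU C.S (right_mem_pl v w)))
  · intro x hx; exact key _ (h.qv_mem hx 0)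
  · intro x hx; exact key _ (h.qw_mem hx 0)

end Cfsg.Agent.OddHalf.SpTwo
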