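import Cfsg.Agent.OddHalf.SpTwo.Short

/-!
# Existence of `y_ℓ` (short roots): `g` centralising `A_ℓ`
-/

set_option autoImplicit false
set_option linter.unusedSimpArgs false
set_option linter.unusedSectionVars false

open scoped commutatorElement

namespace Cfsg.Agent.OddHalf.SpTwo

open Cfsg.Agent.StandardComponent.SpTwo
open Cfsg.Agent.OddHalf.SpTwoN

variable {G V : Type*} [Group G] [AddCommGroup V] [Module (ZMod 2) V] {C : Ctx G V}
variable {v w : V} {g : G}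

theorem sp_conj (_h : IsLn C.S v w) (H : Nrm C (pl v w) (q C.S v w 0) g) (e : ZMod 2) :
    g * (q C.S v (e • w) 0 : C.L) * g⁻¹ = (q C.S v (e • w) 0 : C.L) := by
  rcases z2 e with rfl | rfl
  · rw [zero_smul, q_zero]
    change g * (1 : G) * g⁻¹ = 1
    group
  · rw [one_smul]; exact H.hz

/-- the image of `τ a` -/
theorem exists_τ_image (h : IsLn C.S v w) (H : Nrm C (pl v w) (q C.S v w 0) g) {a : V} (ha : a ∈ pl v w)
    (ha0 : a ≠ 0) : ∃ b ∈ pl v w, b ≠ 0 ∧ ∃ e : ZMod 2,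
      g * C.b a * g⁻¹ = ((C.S.τ b * q C.S v (e • w) 0 : C.L) : G) := by
  have hfinV := C.finV
  obtain ⟨y, hy, hy'⟩ := exists_AU h H (τ_mem_AU C.S ha)
  rcases h.AU_cases hy with ⟨e, rfl⟩ | ⟨b, hb, hb0, e, rfl⟩
  · exfalso
    have h1 := hy'.trans (sp_conj h H e).symm
    have h2 : ((C.S.τ a : C.L) : G) = (q C.S v (e • w) 0 : C.L) :=
      mul_left_cancel (mul_right_cancel h1)
    have h3 : C.S.τ a = q C.S v (e • w) 0 := Subtype.ext h2
    rcases z2 e with rfl | rfl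
    · rw [zero_smul, q_zero] at h3
      exact ha0 (C.S.τ_eq_one h3)
    · rw [one_smul] at h3
      -- `τ a = s`: write `s = q a b 0 = τ a τ b τ (a+b)`
      obtain ⟨b, hb, hab⟩ : ∃ b ∈ pl v w, b ∉ ln a := by
        by_cases h4 : v ∈ ln a
        · refine ⟨w, right_mem_pl v w, fun h5 => ?_⟩
          rcases mem_ln.1 h4 with h4 | h4
          · exact h.hv h4
          · rw [← h4] at h5; exact h.hw h5
        · exact ⟨v, left_mem_pl v w, h4⟩
      have h4 := h.ττ ha hb ha0 hab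
      rw [← h3] at h4
      have h5 : C.S.τ (a + b) * C.S.τ a = C.S.τ a * C.S.τ (a + b) := C.S.τ_commute (by
        rw [B_add, C.S.alt, h.ti hb a ha, add_zero])
      rw [h5] at h4
      have h6 := C.S.τ_injective (mul_left_cancel h4)
      exact ha0 (add_eq_right.1 h6.symm)
  · exact ⟨b, hb, hb0, e, hy'⟩

/-- `g` centralises `A_ℓ` -/
structure NrmA (C : Ctx G V) (v w : V) (g : G) : Prop where
  ln : IsLn C.S v w
  nrm : Nrm C (pl v w) (q C.S v w 0) g
  cv : g * C.b v * g⁻¹ = C.b v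
  cw : g * C.b w * g⁻¹ = C.b w

theorem exists_NrmA (h : IsLn C.S v w) (H : Nrm C (pl v w) (q C.S v w 0) g) : ∃ g', NrmA C v w g' := by
  have hfinV := C.finV
  obtain ⟨a, ha, ha0, e1, he1⟩ := exists_τ_image h H (left_mem_pl v w) h.hv
  obtain ⟨b, hb, hb0, e2, he2⟩ := exists_τ_image h H (right_mem_pl v w) h.hw0
  have hsq : ∀ f : ZMod 2, q C.S v (f • w) 0 * q C.S v (f • w) 0 = 1 := by
    intro f
    rw [h.sp_add, z2_add, zero_smul, q_zero]
  -- `a ≠ b`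
  have hab : b ∉ ln a := by
    apply notMem_ln hb0
    intro h1
    rw [h1] at he2
    have h2 : g * (C.S.τ v * C.S.τ w : C.L) * g⁻¹ = ((q C.S v ((e1 + e2) • w) 0 : C.L) : G) := by
      have e3 : (C.S.τ a * q C.S v (e1 • w) 0) * (C.S.τ a * q C.S v (e2 • w) 0) = q C.S v ((e1 + e2) • w) 0 := by
        have hc : q C.S v (e1 • w) 0 * C.S.τ a = C.S.τ a * q C.S v (e1 • w) 0 :=
          AU_comm C.S (h.sp_mem e1) (QU_le_FU C.S (AU_le_QU C.S h.ti (τ_mem_AU C.S ha)))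
        calc (C.S.τ a * q C.S v (e1 • w) 0) * (C.S.τ a * q C.S v (e2 • w) 0) =
            C.S.τ a * (q C.S v (e1 • w) 0 * C.S.τ a) * q C.S v (e2 • w) 0 := by simp only [mul_assoc]
          _ = (C.S.τ a * C.S.τ a) * (q C.S v (e1 • w) 0 * q C.S v (e2 • w) 0) := by
              rw [hc]; simp only [mul_assoc]
          _ = _ := by rw [C.S.τ_sq, one_mul, h.sp_add]
      rw [← e3]
      change g * (C.b v * C.b w) * g⁻¹ = ((C.S.τ a * q C.S v (e1 • w) 0 : C.L) : G) *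
        ((C.S.τ a * q C.S v (e2 • w) 0 : C.L) : G)
      rw [← he1, ← he2]; group
    rw [← sp_conj h H (e1 + e2)] at h2
    have h3 := mul_left_cancel (mul_right_cancel h2)
    have h4 : C.S.τ v * C.S.τ w = q C.S v ((e1 + e2) • w) 0 := Subtype.ext h3
    rw [h.ττ (left_mem_pl v w) (right_mem_pl v w) h.hv h.hw, ← h.sp_one] at h4
    have h5 : C.S.τ (v + w) = q C.S v ((e1 + e2 + 1) • w) 0 := by
      rw [← h.sp_add, ← h4, mul_assoc, hsq, mul_one]
    have h6 := exists_τ_image h H (add_mem (left_mem_pl v w) (right_mem_pl v w)) h.add_ne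
    obtain ⟨c, hc, hc0, e3, he3⟩ := h6
    have h7 : C.b (v + w) = (q C.S v ((e1 + e2 + 1) • w) 0 : C.L) := congrArg Subtype.val h5
    rw [h7, sp_conj h H] at he3
    have h8 : q C.S v ((e1 + e2 + 1) • w) 0 = C.S.τ c * q C.S v (e3 • w) 0 := Subtype.ext he3
    have h9 : C.S.τ c * q C.S v (e3 • w) 0 = C.S.τ (v + w) * q C.S v ((0 : ZMod 2) • w) 0 := by
      rw [← h8, h5, h.sp_add, add_zero]
    have h10 := h.τ_sp_inj hc (add_mem (left_mem_pl v w) (right_mem_pl v w)) hc0 h.add_ne h9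
    -- then `τ (v+w)` is a power of `s`
    have h11 : C.S.τ v * q C.S v ((0 : ZMod 2) • w) 0 = C.S.τ w * q C.S v ((e1 + e2) • w) 0 := by
      rw [zero_smul, q_zero, mul_one]
      have : C.S.τ v = C.S.τ w * (C.S.τ v * C.S.τ w) := by
        have hcm : C.S.τ v * C.S.τ w = C.S.τ w * C.S.τ v := C.S.τ_commute h.hvw
        rw [hcm, ← mul_assoc, C.S.τ_sq, one_mul]
      rw [this, h.ττ (left_mem_pl v w) (right_mem_pl v w) h.hv h.hw, ← h.sp_one, h4]
    have h12 := h.τ_sp_inj (left_mem_pl v w) (right_mem_pl v w) h.hv h.hw0 h11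
    exact h.hw (by rw [← h12.1]; exact self_mem_ln v)
  -- adjust
  obtain ⟨m, hmv, hmw⟩ := trans_pl C.S h.hv h.hw h.hvw ha0 hab (h.ti ha b hb)
  have hmP : m ∈ PU C.S (pl v w) := mem_PU_pl C.S (by rw [hmv]; exact ha) (by rw [hmw]; exact hb)
  have hmi : m⁻¹ ∈ PU C.S (pl v w) := inv_mem hmP
  have H1 : Nrm C (pl v w) (q C.S v w 0) ((m : G)⁻¹ * g) := H.mul_left hmi
  have hms : ∀ f : ZMod 2, m * q C.S v (f • w) 0 = q C.S v (f • w) 0 * m := by
    intro f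
    rcases z2 f with rfl | rfl
    · rw [zero_smul, q_zero, mul_one, one_mul]
    · rw [one_smul]; exact (H.cz m).2 hmP
  have himg : ∀ (x y : V) (f : ZMod 2), g * C.b x * g⁻¹ = ((C.S.τ y * q C.S v (f • w) 0 : C.L) : G) →
      C.S.ρ m x = y → ((m : G)⁻¹ * g) * C.b x * ((m : G)⁻¹ * g)⁻¹ = ((C.S.τ x * q C.S v (f • w) 0 : C.L) : G) := by
    intro x y f h1 h2
    have h3 : m⁻¹ * (C.S.τ y * q C.S v (f • w) 0) * m = C.S.τ x * q C.S v (f • w) 0 := by
      have h4 : m⁻¹ * C.S.τ y * m = C.S.τ x := by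
        rw [← h2, ← C.S.conj_τ]; group
      calc m⁻¹ * (C.S.τ y * q C.S v (f • w) 0) * m = m⁻¹ * C.S.τ y * (q C.S v (f • w) 0 * m) := by
            simp only [mul_assoc]
        _ = m⁻¹ * C.S.τ y * m * q C.S v (f • w) 0 := by rw [← hms]; simp only [mul_assoc]
        _ = _ := by rw [h4]
    rw [← h3]
    change _ = (m : G)⁻¹ * ((C.S.τ y * q C.S v (f • w) 0 : C.L) : G) * m
    rw [← h1]; group
  have i1 := himg v a e1 he1 hmv
  have i2 := himg w b e2 he2 hmw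
  -- the image of `τ (v+w)`
  have hcs : ∀ (a b : V) (f f' : ZMod 2), a ∈ pl v w → b ∈ pl v w →
      (C.S.τ a * q C.S v (f • w) 0) * (C.S.τ b * q C.S v (f' • w) 0) =
        C.S.τ a * C.S.τ b * q C.S v ((f + f') • w) 0 := by
    intro a b f f' ha hb
    have hc : q C.S v (f • w) 0 * C.S.τ b = C.S.τ b * q C.S v (f • w) 0 :=
      AU_comm C.S (h.sp_mem f) (QU_le_FU C.S (AU_le_QU C.S h.ti (τ_mem_AU C.S hb)))
    calc (C.S.τ a * q C.S v (f • w) 0) * (C.S.τ b * q C.S v (f' • w) 0) =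
        C.S.τ a * (q C.S v (f • w) 0 * C.S.τ b) * q C.S v (f' • w) 0 := by simp only [mul_assoc]
      _ = C.S.τ a * C.S.τ b * (q C.S v (f • w) 0 * q C.S v (f' • w) 0) := by rw [hc]; simp only [mul_assoc]
      _ = _ := by rw [h.sp_add]
  set k := (m : G)⁻¹ * g with hk
  have hs1 := sp_conj h H1 1
  have i3 : k * C.b (v + w) * k⁻¹ = ((C.S.τ (v + w) * q C.S v ((e1 + e2) • w) 0 : C.L) : G) := by
    have e3 : C.S.τ (v + w) = C.S.τ v * C.S.τ w * q C.S v ((1 : ZMod 2) • w) 0 := by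
      rw [h.ττ (left_mem_pl v w) (right_mem_pl v w) h.hv h.hw, h.sp_one, mul_assoc,
        q_sq C.S h.hwv, mul_one]
    have e4 : C.S.τ (v + w) * q C.S v ((e1 + e2) • w) 0 =
        (C.S.τ v * q C.S v (e1 • w) 0) * (C.S.τ w * q C.S v (e2 • w) 0) * q C.S v ((1 : ZMod 2) • w) 0 := by
      rw [hcs v w e1 e2 (left_mem_pl v w) (right_mem_pl v w), e3]
      have hc : q C.S v ((1 : ZMod 2) • w) 0 * q C.S v ((e1 + e2) • w) 0 =
          q C.S v ((e1 + e2) • w) 0 * q C.S v ((1 : ZMod 2) • w) 0 := by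
        rw [h.sp_add, h.sp_add, add_comm]
      rw [mul_assoc _ (q C.S v ((1 : ZMod 2) • w) 0), hc, ← mul_assoc]
    have e5 : C.b (v + w) = C.b v * C.b w * (q C.S v ((1 : ZMod 2) • w) 0 : C.L) := congrArg Subtype.val e3
    rw [e4, e5]
    change k * (C.b v * C.b w * (q C.S v ((1 : ZMod 2) • w) 0 : C.L)) * k⁻¹ =
      ((C.S.τ v * q C.S v (e1 • w) 0 : C.L) : G) * ((C.S.τ w * q C.S v (e2 • w) 0 : C.L) : G) *
        ((q C.S v ((1 : ZMod 2) • w) 0 : C.L) : G)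
    rw [← i1, ← i2, ← hs1]
    have : k⁻¹ * (k * ((q C.S v ((1 : ZMod 2) • w) 0 : C.L) : G) * k⁻¹) * k =
      ((q C.S v ((1 : ZMod 2) • w) 0 : C.L) : G) := by group
    rw [hs1] at this
    rw [hs1]
    calc k * (C.b v * C.b w * (q C.S v ((1 : ZMod 2) • w) 0 : C.L)) * k⁻¹ =
        k * C.b v * k⁻¹ * (k * C.b w * k⁻¹) * (k * (q C.S v ((1 : ZMod 2) • w) 0 : C.L) * k⁻¹) := by group
      _ = _ := by rw [hs1]
  -- equivariance
  have heq : ∀ b ∈ pl v w, b ∉ ln v → ∀ f : ZMod 2,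
      k * C.b b * k⁻¹ = ((C.S.τ b * q C.S v (f • w) 0 : C.L) : G) → f = e1 := by
    intro b hb hbl f hf
    obtain ⟨n, hn, hnv, hnb⟩ := exists_swap C.S h.hv hbl (h.ti (left_mem_pl v w) b hb)
    rw [h.pl_eq_of_mem (left_mem_pl v w) hb h.hv hbl] at hn
    obtain ⟨n', hn', hnn⟩ := H1.exists_PU hn
    have h1 := conj_lift C hnn (C.S.τ v * q C.S v (e1 • w) 0)
    rw [← i1] at h1
    have h2 : k * (n : G) * k⁻¹ * (k * C.b v * k⁻¹) * (k * (n : G) * k⁻¹)⁻¹ = k * C.b b * k⁻¹ := by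
      have h3 : (n : G) * C.b v * (n : G)⁻¹ = C.b b := by rw [C.b_conj, hnv]
      rw [← h3]; group
    rw [h2, hf] at h1
    have h3 : C.S.τ b * q C.S v (f • w) 0 = n' * (C.S.τ v * q C.S v (e1 • w) 0) * n'⁻¹ := Subtype.ext h1
    have h4 : n' * (C.S.τ v * q C.S v (e1 • w) 0) * n'⁻¹ = C.S.τ (C.S.ρ n' v) * q C.S v (e1 • w) 0 := by
      have h5 : n' * q C.S v (e1 • w) 0 = q C.S v (e1 • w) 0 * n' := by
        rcases z2 e1 with h6 | h6
        · rw [h6, zero_smul, q_zero, mul_one, one_mul]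
        · rw [h6, one_smul]; exact (H.cz n').2 hn'
      rw [← C.S.conj_τ]
      calc n' * (C.S.τ v * q C.S v (e1 • w) 0) * n'⁻¹ =
          n' * C.S.τ v * n'⁻¹ * (n' * q C.S v (e1 • w) 0) * n'⁻¹ := by group
        _ = _ := by rw [h5]; group
    rw [h4] at h3
    have hnv0 : C.S.ρ n' v ≠ 0 := by
      intro h5
      rw [← map_zero (C.S.ρ n')] at h5
      exact h.hv (C.S.ρ_inj n' h5)
    exact (h.τ_sp_inj hb ((hn' v).2 (left_mem_pl v w)) (ne_zero_of_notMem hbl) hnv0 h3).2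
  have f1 := heq w (right_mem_pl v w) h.hw e2 i2
  have f2 := heq (v + w) (add_mem (left_mem_pl v w) (right_mem_pl v w)) h.add_notMem (e1 + e2) i3
  have f3 : e1 = 0 := by
    rw [f1, z2_add] at f2; exact f2.symm
  rw [f1, f3] at i2
  rw [f3] at i1
  rw [zero_smul, q_zero, mul_one] at i1 i2
  exact ⟨k, h, H1, i1, i2⟩

end Cfsg.Agent.OddHalf.SpTwo
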