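import Cfsg.Agent.OddHalf.SpTwo.ShortX

/-!
# Existence of `y_ℓ` (short roots): an element `g` centralising `Q_ℓ`
-/

set_option autoImplicit false
set_option linter.unusedSimpArgs false
set_option linter.unusedSectionVars false

open scoped commutatorElement

namespace Cfsg.Agent.OddHalf.SpTwo

open Cfsg.Agent.StandardComponent.SpTwo
open Cfsg.Agent.OddHalf.SpTwoN

variable {G V : Type*} [Group G] [AddCommGroup V] [Module (ZMod 2) V] {C : Ctx G V}
variable {v w : V} {g : G}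

/-- `g` is trivial on `A_ℓ` and on `Q_ℓ / A_ℓ` -/
structure NrmB (C : Ctx G V) (v w : V) (g : G) : Prop where
  a : NrmA C v w g
  bv : ∀ x ∈ perp C.S (pl v w), ∃ a ∈ AU C.S (pl v w),
    g * (q C.S v x 0 : C.L) * g⁻¹ = ((q C.S v x 0 * a : C.L) : G)
  bw : ∀ x ∈ perp C.S (pl v w), ∃ a ∈ AU C.S (pl v w),
    g * (q C.S w x 0 : C.L) * g⁻¹ = ((q C.S w x 0 * a : C.L) : G)

theorem NrmA.exists_NrmB (hN : NrmA C v w g) : ∃ g', NrmB C v w g' := by
  obtain ⟨p, hp, hpx⟩ := hN.exists_p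
  have hpi : p⁻¹ ∈ TG C.S (perp C.S (pl v w) : Set V) := inv_mem hp
  have hcb : ∀ a ∈ pl v w, ((p : G)⁻¹ * g) * C.b a * ((p : G)⁻¹ * g)⁻¹ = C.b a := by
    intro a ha
    have h1 : (p : G)⁻¹ * C.b a * p = C.b a := by
      have h2 := C.b_conj p⁻¹ a
      rw [TG_fix C.S hpi ha] at h2
      change (p : G)⁻¹ * C.b a * ((p : G)⁻¹)⁻¹ = _ at h2
      rwa [inv_inv] at h2
    calc ((p : G)⁻¹ * g) * C.b a * ((p : G)⁻¹ * g)⁻¹ = (p : G)⁻¹ * (g * C.b a * g⁻¹) * p := by group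
      _ = _ := by rw [hN.comm_b ha, h1]
  refine ⟨(p : G)⁻¹ * g, ⟨hN.ln, hN.nrm.mul_left (TG_le_PU C.S hpi), hcb v (left_mem_pl v w),
    hcb w (right_mem_pl v w)⟩, fun x hx => (hpx x hx).1, fun x hx => (hpx x hx).2⟩

namespace NrmB

theorem symm (hB : NrmB C v w g) : NrmB C w v g := by
  refine ⟨hB.a.symm, ?_, ?_⟩
  · rw [hB.a.ln.pl_symm]; exact hB.bw
  · rw [hB.a.ln.pl_symm]; exact hB.bv

/-- the image of an element of the pointwise stabilizer of the line -/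
theorem exists_r (hB : NrmB C v w g) {m : C.L} (hm : m ∈ FU C.S (pl v w)) :
    ∃ r ∈ QU C.S (pl v w), g * (m : G) * g⁻¹ = ((r * m : C.L) : G) ∨
      g * (m : G) * g⁻¹ = C.t * ((r * m : C.L) : G) := by
  have hfinV := C.finV
  have h := hB.a.ln
  obtain ⟨k, hk, hk', hku⟩ := hB.a.exists_PU (FU_le_PU C.S hm)
  have hkF : ∀ u ∈ pl v w, C.S.ρ k u = u := fun u hu => by rw [hku u hu, hm u hu]
  have hmi : m⁻¹ ∈ FU C.S (pl v w) := inv_mem hm
  refine ⟨k * m⁻¹, ⟨fun u hu => ?_, fun z hz => ?_⟩, by rw [inv_mul_cancel_right]; exact hk'⟩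
  · rw [C.S.ρ_mul, hmi u hu, hkF u hu]
  · set z' := C.S.ρ m⁻¹ z with hz'
    have hz'P : z' ∈ perp C.S (pl v w) := PU_perp C.S (FU_le_PU C.S hmi) hz
    have hmz : C.S.ρ m z' = z := C.S.ρ_apply_inv m z
    obtain ⟨a, ha, hav⟩ := hB.bv z' hz'P
    obtain ⟨a', ha', hav'⟩ := hB.bv z hz
    have haa : a * a = 1 := AU_sq C.S h.ti ha
    have hga := hB.a.comm_AU ha
    -- `g⁻¹ q g = q a`
    have h1 : g⁻¹ * (q C.S v z' 0 : C.L) * g = ((q C.S v z' 0 * a : C.L) : G) := by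
      have h2 : g * ((q C.S v z' 0 * a : C.L) : G) * g⁻¹ = (q C.S v z' 0 : C.L) := by
        change g * (((q C.S v z' 0 : C.L) : G) * (a : G)) * g⁻¹ = _
        have haaG : (a : G) * a = 1 := congrArg Subtype.val haa
        calc g * (((q C.S v z' 0 : C.L) : G) * (a : G)) * g⁻¹ =
            g * (q C.S v z' 0 : C.L) * g⁻¹ * (g * (a : G) * g⁻¹) := by group
          _ = ((q C.S v z' 0 : C.L) : G) * (a * a) := by
              rw [hga, hav]
              change ((q C.S v z' 0 : C.L) : G) * (a : G) * (a : G) = _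
              group
          _ = _ := by rw [haaG, mul_one]
      rw [← h2]; group
    have h2 := conj_lift C hk' (q C.S v z' 0)
    have hkv : C.S.ρ k v = v := hkF v (left_mem_pl v w)
    have hmv : C.S.ρ m v = v := hm v (left_mem_pl v w)
    have h3 : k * q C.S v z' 0 * k⁻¹ = q C.S v (C.S.ρ k z') 0 := by rw [q_conj, hkv]
    rw [h3] at h2
    have h4 : m * (q C.S v z' 0 * a) * m⁻¹ = q C.S v z 0 * a := by
      have h5 : m * q C.S v z' 0 * m⁻¹ = q C.S v z 0 := by rw [q_conj, hmv, hmz]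
      have h6 : m * a * m⁻¹ = a := by rw [← AU_comm C.S ha hm, mul_inv_cancel_right]
      calc m * (q C.S v z' 0 * a) * m⁻¹ = (m * q C.S v z' 0 * m⁻¹) * (m * a * m⁻¹) := by group
        _ = _ := by rw [h5, h6]
    have h4' : (m : G) * ((q C.S v z' 0 * a : C.L) : G) * (m : G)⁻¹ = ((q C.S v z 0 * a : C.L) : G) :=
      congrArg Subtype.val h4
    have h5 : g * (m : G) * g⁻¹ * ((q C.S v z' 0 : C.L) : G) * (g * (m : G) * g⁻¹)⁻¹ =
        ((q C.S v z 0 * (a' * a) : C.L) : G) := by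
      calc g * (m : G) * g⁻¹ * ((q C.S v z' 0 : C.L) : G) * (g * (m : G) * g⁻¹)⁻¹ =
          g * ((m : G) * (g⁻¹ * (q C.S v z' 0 : C.L) * g) * (m : G)⁻¹) * g⁻¹ := by group
        _ = g * (((q C.S v z 0 : C.L) : G) * (a : G)) * g⁻¹ := by rw [h1, h4']; rfl
        _ = g * (q C.S v z 0 : C.L) * g⁻¹ * (g * (a : G) * g⁻¹) := by group
        _ = ((q C.S v z 0 * a' : C.L) : G) * (a : G) := by rw [hav', hga]
        _ = _ := by rw [← mul_assoc]; rfl
    rw [h5] at h2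
    have h6 : q C.S v z 0 * (a' * a) = q C.S v (C.S.ρ k z') 0 * 1 := by
      rw [mul_one]; exact Subtype.ext h2
    have h7 := h.mem_of_q_eq hz (PU_perp C.S hk hz'P) (mul_mem ha' ha) (one_mem _) h6
    rw [C.S.ρ_mul, add_comm]
    exact h7

/-- the elements `a` are powers of `s` -/
theorem exists_e (hB : NrmB C v w g) {x : V} (hx : x ∈ perp C.S (pl v w)) :
    ∃ e : ZMod 2, g * (q C.S v x 0 : C.L) * g⁻¹ = ((q C.S v x 0 * q C.S v (e • w) 0 : C.L) : G) := by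
  have hfinV := C.finV
  have h := hB.a.ln
  by_cases hxl : x ∈ pl v w
  · refine ⟨0, ?_⟩
    rw [zero_smul, q_zero, mul_one]
    exact hB.a.comm_AU (h.q_mem_AU hxl 0)
  obtain ⟨u, hu, hux⟩ := sep C.S hxl
  have hx' := (mem_perp_pl C.S).1 hx
  have hu' := (mem_perp_pl C.S).1 hu
  have hτF : C.S.τ x ∈ FU C.S (pl v w) := by
    intro y hy
    rw [C.S.hτ, C.S.symm, hx y hy, zero_smul, add_zero]
  obtain ⟨r, hr, hr'⟩ := hB.exists_r hτF
  obtain ⟨a, ha, hau⟩ := hB.bv u hu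
  have haa : a * a = 1 := AU_sq C.S h.ti ha
  have hq1 : q C.S v x 1 = q C.S v u 0 * (C.S.τ x * q C.S v u 0 * (C.S.τ x)⁻¹) := by
    have := q_comm_τ C.S hx'.1 hu'.1 (0 : ZMod 2)
    rw [hux, one_smul] at this
    rw [← this, C.S.τ_inv]; simp only [mul_assoc]
  have h1 := conj_lift C hr' (q C.S v u 0 * a)
  -- compute in `L`
  set μ := C.S.ρ r (u + x) + (u + x) with hμ
  have hμl : μ ∈ pl v w := hr.2 _ (add_mem hu hx)
  have hrux : C.S.ρ r (u + x) = u + x + μ := by rw [hμ, add_comm (C.S.ρ r (u + x)), aac]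
  have hrv : C.S.ρ r v = v := hr.1 v (left_mem_pl v w)
  have haF : ∀ m ∈ FU C.S (pl v w), m * a * m⁻¹ = a := by
    intro m hm
    rw [← AU_comm C.S ha hm, mul_inv_cancel_right]
  have h2 : r * C.S.τ x * (q C.S v u 0 * a) * (r * C.S.τ x)⁻¹ = q C.S v (u + x + μ) 0 * a := by
    have e1 : C.S.τ x * q C.S v u 0 * (C.S.τ x)⁻¹ = q C.S v (u + x) 0 := by
      rw [C.S.τ_inv, τ_conj_q C.S hx'.1, hux, one_smul]
    have e2 : r * q C.S v (u + x) 0 * r⁻¹ = q C.S v (u + x + μ) 0 := by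
      rw [q_conj, hrv, hrux]
    have e3 := haF (r * C.S.τ x) (mul_mem (QU_le_FU C.S hr) hτF)
    calc r * C.S.τ x * (q C.S v u 0 * a) * (r * C.S.τ x)⁻¹ =
        r * (C.S.τ x * q C.S v u 0 * (C.S.τ x)⁻¹) * r⁻¹ * (r * C.S.τ x * a * (r * C.S.τ x)⁻¹) := by group
      _ = _ := by rw [e3, e1, e2]
  rw [h2] at h1
  have hΦ1 : g * (q C.S v x 1 : C.L) * g⁻¹ =
      ((q C.S v u 0 * a * (q C.S v (u + x + μ) 0 * a) : C.L) : G) := by
    rw [hq1]
    change g * (((q C.S v u 0 : C.L) : G) * (((C.S.τ x : C.L) : G) * (q C.S v u 0 : C.L) *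
      ((C.S.τ x : C.L) : G)⁻¹)) * g⁻¹ = ((q C.S v u 0 * a : C.L) : G) *
        ((q C.S v (u + x + μ) 0 * a : C.L) : G)
    rw [← h1, ← hau]; group
  have huμ : C.S.B u μ = 0 := hu μ hμl
  have hvμ : C.S.B μ v = 0 := h.ti hμl v (left_mem_pl v w)
  have hsum : C.S.B (u + x + μ) v = 0 := by rw [B_add, B_add, hu'.1, hx'.1, hvμ, add_zero, add_zero]
  have h3 : q C.S v u 0 * a * (q C.S v (u + x + μ) 0 * a) = q C.S v x 1 * q C.S v μ 0 := by
    have e1 : a * q C.S v (u + x + μ) 0 = q C.S v (u + x + μ) 0 * a :=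
      AU_comm C.S ha (QU_le_FU C.S (h.qv_mem (add_mem (add_mem hu hx) (h.ti hμl)) 0))
    have e2 : q C.S v u 0 * q C.S v (u + x + μ) 0 = q C.S v (x + μ) 1 := by
      rw [q_mul C.S hu'.1 hsum]
      have e3 : u + (u + x + μ) = x + μ := by rw [add_assoc, aac]
      have e4 : C.S.B u (u + x + μ) = 1 := by
        rw [map_add, map_add, C.S.alt, hux, huμ, zero_add, add_zero]
      rw [e3, e4]; simp
    have e5 : q C.S v x 1 * q C.S v μ 0 = q C.S v (x + μ) 1 := by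
      rw [q_mul C.S hx'.1 hvμ, hx μ hμl]; simp
    rw [e5, ← e2]
    calc q C.S v u 0 * a * (q C.S v (u + x + μ) 0 * a) = q C.S v u 0 * (a * q C.S v (u + x + μ) 0) * a := by
          simp only [mul_assoc]
      _ = q C.S v u 0 * q C.S v (u + x + μ) 0 * (a * a) := by rw [e1]; simp only [mul_assoc]
      _ = _ := by rw [haa, mul_one]
  have h4 : ∃ e : ZMod 2, q C.S v μ 0 = q C.S v (e • w) 0 := by
    rcases mem_pl.1 hμl with h5 | h5 | h5 | h5
    · exact ⟨0, by rw [h5, zero_smul]⟩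
    · exact ⟨0, by rw [h5, zero_smul, q_self]⟩
    · exact ⟨1, by rw [h5, one_smul]⟩
    · exact ⟨1, by rw [h5, one_smul, add_comm v w, q_add_self C.S h.hwv]⟩
  obtain ⟨e, he⟩ := h4
  refine ⟨e, ?_⟩
  have h5 : q C.S v x 0 = q C.S v x 1 * q C.S v 0 1 := by
    rw [q_mul C.S hx'.1 (B_zero C.S v), map_zero, z2_add]; simp
  have h6 : g * (q C.S v 0 1 : C.L) * g⁻¹ = (q C.S v 0 1 : C.L) :=
    hB.a.comm_AU (h.q_mem_AU (zero_mem _) 1)
  have h7 : q C.S v x 0 * q C.S v (e • w) 0 = q C.S v x 1 * q C.S v μ 0 * q C.S v 0 1 := by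
    have e1 : q C.S v 0 1 * q C.S v (e • w) 0 = q C.S v (e • w) 0 * q C.S v 0 1 :=
      q_comm C.S (B_zero C.S v) (by rw [map_smul, LinearMap.smul_apply, h.hwv, smul_zero]) _ _
    rw [h5, he, mul_assoc, e1]; simp only [mul_assoc]
  rw [h7, ← h3]
  nth_rewrite 1 [h5]
  calc g * (((q C.S v x 1 : C.L) : G) * (q C.S v 0 1 : C.L)) * g⁻¹ =
      g * (q C.S v x 1 : C.L) * g⁻¹ * (g * (q C.S v 0 1 : C.L) * g⁻¹) := by group
    _ = _ := by rw [hΦ1, h6]; rfl

theorem exists_z (hB : NrmB C v w g) : ∃ z ∈ perp C.S (pl v w), ∀ x ∈ perp C.S (pl v w),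
    g * (q C.S v x 0 : C.L) * g⁻¹ = ((q C.S v x 0 * q C.S v (C.S.B x z • w) 0 : C.L) : G) := by
  have hfinV := C.finV
  have h := hB.a.ln
  have h0 : ∀ x, x ∈ perp C.S (pl v w) → ∃ e : ZMod 2,
      g * (q C.S v x 0 : C.L) * g⁻¹ = ((q C.S v x 0 * q C.S v (e • w) 0 : C.L) : G) :=
    fun x hx => hB.exists_e hx
  choose! e he using h0
  have huniq : ∀ x ∈ perp C.S (pl v w), ∀ c : ZMod 2,
      g * (q C.S v x 0 : C.L) * g⁻¹ = ((q C.S v x 0 * q C.S v (c • w) 0 : C.L) : G) → e x = c := by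
    intro x hx c hc
    have h1 : q C.S v x 0 * q C.S v (e x • w) 0 = q C.S v x 0 * q C.S v (c • w) 0 :=
      Subtype.ext ((he x hx).symm.trans hc)
    exact h.sp_inj (mul_left_cancel h1)
  have hadd : ∀ x ∈ perp C.S (pl v w), ∀ y ∈ perp C.S (pl v w), e (x + y) = e x + e y := by
    intro x hx y hy
    apply huniq _ (add_mem hx hy)
    have hx' := (mem_perp_pl C.S).1 hx
    have hy' := (mem_perp_pl C.S).1 hy
    have e1 : q C.S v (x + y) 0 = q C.S v x 0 * q C.S v y 0 * q C.S v 0 (C.S.B x y) := by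
      rw [q_mul C.S hx'.1 hy'.1, q_mul C.S (by rw [B_add, hx'.1, hy'.1, add_zero]) (B_zero C.S v), map_zero]
      simp [z2_add]
    have h0 : g * (q C.S v 0 (C.S.B x y) : C.L) * g⁻¹ = (q C.S v 0 (C.S.B x y) : C.L) :=
      hB.a.comm_AU (h.q_mem_AU (zero_mem _) _)
    have hsm : ∀ c : ZMod 2, C.S.B (c • w) v = 0 := fun c => by
      rw [map_smul, LinearMap.smul_apply, h.hwv, smul_zero]
    have e2 : q C.S v x 0 * q C.S v (e x • w) 0 * (q C.S v y 0 * q C.S v (e y • w) 0) *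
        q C.S v 0 (C.S.B x y) = q C.S v x 0 * q C.S v y 0 * q C.S v 0 (C.S.B x y) *
          q C.S v ((e x + e y) • w) 0 := by
      rw [← h.sp_add]
      have c1 : q C.S v (e x • w) 0 * q C.S v y 0 = q C.S v y 0 * q C.S v (e x • w) 0 :=
        q_comm C.S (hsm _) hy'.1 _ _
      have c2 : q C.S v (e x • w) 0 * q C.S v (e y • w) 0 * q C.S v 0 (C.S.B x y) =
          q C.S v 0 (C.S.B x y) * (q C.S v (e x • w) 0 * q C.S v (e y • w) 0) := by
        rw [h.sp_add, q_comm C.S (hsm _) (B_zero C.S v)]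
      calc q C.S v x 0 * q C.S v (e x • w) 0 * (q C.S v y 0 * q C.S v (e y • w) 0) *
          q C.S v 0 (C.S.B x y) = q C.S v x 0 * (q C.S v (e x • w) 0 * q C.S v y 0) *
            (q C.S v (e y • w) 0 * q C.S v 0 (C.S.B x y)) := by simp only [mul_assoc]
        _ = q C.S v x 0 * q C.S v y 0 * (q C.S v (e x • w) 0 * q C.S v (e y • w) 0 *
            q C.S v 0 (C.S.B x y)) := by rw [c1]; simp only [mul_assoc]
        _ = _ := by rw [c2]; simp only [mul_assoc]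
    rw [e1, ← e2]
    change g * (((q C.S v x 0 : C.L) : G) * (q C.S v y 0 : C.L) * (q C.S v 0 (C.S.B x y) : C.L)) * g⁻¹ =
      ((q C.S v x 0 * q C.S v (e x • w) 0 : C.L) : G) * ((q C.S v y 0 * q C.S v (e y • w) 0 : C.L) : G) *
        ((q C.S v 0 (C.S.B x y) : C.L) : G)
    rw [← he x hx, ← he y hy]
    calc g * (((q C.S v x 0 : C.L) : G) * (q C.S v y 0 : C.L) * (q C.S v 0 (C.S.B x y) : C.L)) * g⁻¹ =
        g * (q C.S v x 0 : C.L) * g⁻¹ * (g * (q C.S v y 0 : C.L) * g⁻¹) *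
          (g * (q C.S v 0 (C.S.B x y) : C.L) * g⁻¹) := by group
      _ = _ := by rw [h0]
  have hln : ∀ x ∈ pl v w, e x = 0 := by
    intro x hx
    apply huniq _ (h.ti hx)
    rw [zero_smul, q_zero, mul_one]
    exact hB.a.comm_AU (h.q_mem_AU hx 0)
  let f : perp C.S (pl v w) →ₗ[ZMod 2] ZMod 2 :=
    { toFun := fun x => e x
      map_add' := fun x y => hadd x x.2 y y.2
      map_smul' := by
        intro c x
        rcases z2 c with rfl | rfl
        · simp [hln 0 (zero_mem _)]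
        · simp }
  obtain ⟨z, hz⟩ := B_surj_on C.S (perp C.S (pl v w)) f
  have hzP : z ∈ perp C.S (pl v w) := by
    intro u hu
    have := hz ⟨u, h.ti hu⟩
    change C.S.B z u = e u at this
    rw [this, hln u hu]
  refine ⟨z, hzP, fun x hx => ?_⟩
  have := hz ⟨x, hx⟩
  change C.S.B z x = e x at this
  rw [C.S.symm, this]
  exact he x hx

end NrmB

/-- `g` centralises `Q_ℓ` -/
structure NrmC (C : Ctx G V) (v w : V) (g : G) : Prop where
  a : NrmA C v w g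
  c : ∀ x ∈ QU C.S (pl v w), g * (x : G) * g⁻¹ = (x : G)

theorem NrmB.exists_NrmC (hB : NrmB C v w g) : ∃ g', NrmC C v w g' := by
  have hfinV := C.finV
  have h := hB.a.ln
  obtain ⟨zv, hzv, hgv⟩ := hB.exists_z
  obtain ⟨zw, hzw, hgw⟩ := hB.symm.exists_z
  rw [h.pl_symm] at hzw hgw
  set c : C.L := q C.S w zv 0 * q C.S v zw 0 with hc
  have hcQ : c ∈ QU C.S (pl v w) := mul_mem (h.qw_mem hzv 0) (h.qv_mem hzw 0)
  have hcA : ∀ a ∈ AU C.S (pl v w), c * a * c⁻¹ = a := by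
    intro a ha
    rw [← AU_comm C.S ha (QU_le_FU C.S hcQ), mul_inv_cancel_right]
  have hsp2 : ∀ e : ZMod 2, q C.S v (e • w) 0 * q C.S v (e • w) 0 = 1 := by
    intro e
    rw [h.sp_add, z2_add, zero_smul, q_zero]
  have hspw : ∀ e : ZMod 2, q C.S w (e • v) 0 = q C.S v (e • w) 0 := by
    intro e
    rcases z2 e with rfl | rfl
    · rw [zero_smul, zero_smul, q_zero, q_zero]
    · rw [one_smul, one_smul, h.q_symm]
  -- conjugation by `c`
  have hcv : ∀ x ∈ perp C.S (pl v w), c * q C.S v x 0 * c⁻¹ = q C.S v x 0 * q C.S v (C.S.B x zv • w) 0 := by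
    intro x hx
    have hx' := (mem_perp_pl C.S).1 hx
    have e1 : q C.S v zw 0 * q C.S v x 0 * (q C.S v zw 0)⁻¹ = q C.S v x 0 := by
      rw [q_comm C.S ((mem_perp_pl C.S).1 hzw).1 hx'.1, mul_inv_cancel_right]
    have e2 := h.conj_qv hx hzv 0 0
    calc c * q C.S v x 0 * c⁻¹ = q C.S w zv 0 * (q C.S v zw 0 * q C.S v x 0 * (q C.S v zw 0)⁻¹) *
        (q C.S w zv 0)⁻¹ := by rw [hc]; group
      _ = _ := by rw [e1, e2]
  have hcw : ∀ x ∈ perp C.S (pl v w), c * q C.S w x 0 * c⁻¹ = q C.S w x 0 * q C.S w (C.S.B x zw • v) 0 := by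
    intro x hx
    have hx' := (mem_perp_pl C.S).1 hx
    have e2 := h.symm.conj_qv (x := x) (y := zw) (by rw [h.pl_symm]; exact hx) (by rw [h.pl_symm]; exact hzw) 0 0
    have e3 : q C.S w zv 0 * (q C.S w x 0 * q C.S w (C.S.B x zw • v) 0) * (q C.S w zv 0)⁻¹ =
        q C.S w x 0 * q C.S w (C.S.B x zw • v) 0 := by
      have c1 : q C.S w zv 0 * q C.S w x 0 = q C.S w x 0 * q C.S w zv 0 :=
        q_comm C.S ((mem_perp_pl C.S).1 hzv).2 hx'.2 _ _
      have c2 : q C.S w zv 0 * q C.S w (C.S.B x zw • v) 0 = q C.S w (C.S.B x zw • v) 0 * q C.S w zv 0 :=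
        q_comm C.S ((mem_perp_pl C.S).1 hzv).2 (by
          rw [map_smul, LinearMap.smul_apply, h.hvw, smul_zero]) _ _
      rw [← mul_assoc (q C.S w zv 0), c1, mul_assoc (q C.S w x 0), c2, ← mul_assoc, mul_inv_cancel_right]
    calc c * q C.S w x 0 * c⁻¹ = q C.S w zv 0 * (q C.S v zw 0 * q C.S w x 0 * (q C.S v zw 0)⁻¹) *
        (q C.S w zv 0)⁻¹ := by rw [hc]; group
      _ = _ := by rw [e2, e3]
  have hgA : ∀ a ∈ AU C.S (pl v w), ((c : G) * g) * (a : G) * ((c : G) * g)⁻¹ = (a : G) := by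
    intro a ha
    have h1 := hB.a.comm_AU ha
    have h2 : (c : G) * (a : G) * (c : G)⁻¹ = (a : G) := congrArg Subtype.val (hcA a ha)
    calc ((c : G) * g) * (a : G) * ((c : G) * g)⁻¹ = (c : G) * (g * (a : G) * g⁻¹) * (c : G)⁻¹ := by group
      _ = _ := by rw [h1, h2]
  have hkv : ∀ x ∈ perp C.S (pl v w),
      ((c : G) * g) * (q C.S v x 0 : C.L) * ((c : G) * g)⁻¹ = (q C.S v x 0 : C.L) := by
    intro x hx
    have h2 : c * (q C.S v x 0 * q C.S v (C.S.B x zv • w) 0) * c⁻¹ = q C.S v x 0 := by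
      have h3 := hcA _ (h.sp_mem (C.S.B x zv))
      calc c * (q C.S v x 0 * q C.S v (C.S.B x zv • w) 0) * c⁻¹ =
          (c * q C.S v x 0 * c⁻¹) * (c * q C.S v (C.S.B x zv • w) 0 * c⁻¹) := by group
        _ = _ := by rw [h3, hcv x hx, mul_assoc, hsp2, mul_one]
    have h2' : (c : G) * ((q C.S v x 0 * q C.S v (C.S.B x zv • w) 0 : C.L) : G) * (c : G)⁻¹ =
      (q C.S v x 0 : C.L) := congrArg Subtype.val h2
    calc ((c : G) * g) * (q C.S v x 0 : C.L) * ((c : G) * g)⁻¹ =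
        (c : G) * (g * (q C.S v x 0 : C.L) * g⁻¹) * (c : G)⁻¹ := by group
      _ = _ := by rw [hgv x hx, h2']
  have hkw : ∀ x ∈ perp C.S (pl v w),
      ((c : G) * g) * (q C.S w x 0 : C.L) * ((c : G) * g)⁻¹ = (q C.S w x 0 : C.L) := by
    intro x hx
    have h2 : c * (q C.S w x 0 * q C.S w (C.S.B x zw • v) 0) * c⁻¹ = q C.S w x 0 := by
      have h3 := hcA _ (h.sp_mem (C.S.B x zw))
      rw [← hspw] at h3
      calc c * (q C.S w x 0 * q C.S w (C.S.B x zw • v) 0) * c⁻¹ =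
          (c * q C.S w x 0 * c⁻¹) * (c * q C.S w (C.S.B x zw • v) 0 * c⁻¹) := by group
        _ = _ := by rw [h3, hcw x hx, mul_assoc, hspw, hsp2, mul_one]
    have h2' : (c : G) * ((q C.S w x 0 * q C.S w (C.S.B x zw • v) 0 : C.L) : G) * (c : G)⁻¹ =
      (q C.S w x 0 : C.L) := congrArg Subtype.val h2
    calc ((c : G) * g) * (q C.S w x 0 : C.L) * ((c : G) * g)⁻¹ =
        (c : G) * (g * (q C.S w x 0 : C.L) * g⁻¹) * (c : G)⁻¹ := by group
      _ = _ := by rw [hgw x hx, h2']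
  refine ⟨(c : G) * g, ⟨h, hB.a.nrm.mul_left (QU_le_PU C.S hcQ), hgA _ (τ_mem_AU C.S (left_mem_pl v w)),
    hgA _ (τ_mem_AU C.S (right_mem_pl v w))⟩, ?_⟩
  intro x hx
  obtain ⟨a, b, ha, hb, k, hk, rfl⟩ := h.mem_QU_pl hx
  change ((c : G) * g) * (((q C.S v a 0 : C.L) : G) * (q C.S w b 0 : C.L) * (k : G)) * ((c : G) * g)⁻¹ =
    ((q C.S v a 0 : C.L) : G) * (q C.S w b 0 : C.L) * (k : G)
  have e1 := hkv a ha
  have e2 := hkw b hb
  have e3 := hgA k hk
  generalize (c : G) * g = y at e1 e2 e3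
  calc y * (((q C.S v a 0 : C.L) : G) * (q C.S w b 0 : C.L) * (k : G)) * y⁻¹ =
      (y * (q C.S v a 0 : C.L) * y⁻¹) * (y * (q C.S w b 0 : C.L) * y⁻¹) * (y * (k : G) * y⁻¹) := by group
    _ = _ := by rw [e1, e2, e3]

end Cfsg.Agent.OddHalf.SpTwo
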