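import Cfsg.Agent.OddHalf.SpTwo.ShortB

/-!
# Existence of `y_ℓ` (short roots): an involution commuting with an element `d` of order 3
-/

set_option autoImplicit false
set_option linter.unusedSimpArgs false
set_option linter.unusedSectionVars false

open scoped commutatorElement

namespace Cfsg.Agent.OddHalf.SpTwo

open Cfsg.Agent.StandardComponent.SpTwo
open Cfsg.Agent.OddHalf.SpTwoN

section Sp

variable {X V : Type*} [Group X] [AddCommGroup V] [Module (ZMod 2) V] {D : SpData X V}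

/-- `a, b` with `(a,v) = 0`, `(a,w) = 1`, `(b,v) = 1`, `(b,w) = 0`, `(a,b) = 1`: then
`d = τ a τ b τ (v+a) τ (w+b)` has order 3 and permutes `v, w, v+w` cyclically. -/
structure Dual (D : SpData X V) (v w a b : V) : Prop where
  av : D.B a v = 0
  aw : D.B a w = 1
  bv : D.B b v = 1
  bw : D.B b w = 0
  ab : D.B a b = 1

/-- the element of order 3 -/
def dd (D : SpData X V) (v w a b : V) : X := (D.τ a * D.τ b) * (D.τ (v + a) * D.τ (w + b))

theorem IsLn.exists_Dual [Finite V] {v w : V} (h : IsLn D v w) : ∃ a b, Dual D v w a b := by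
  obtain ⟨v', w', h1, h2, h3, h4⟩ := h.exists_dual
  rcases z2 (D.B w' v') with h5 | h5
  · refine ⟨w' + v, v', ?_, ?_, h1, h2, ?_⟩
    · rw [B_add, h3, D.alt, add_zero]
    · rw [B_add, h4, h.hvw, add_zero]
    · rw [B_add, h5, D.symm v v', h1, zero_add]
  · exact ⟨w', v', h3, h4, h1, h2, h5⟩

namespace Dual

variable {v w a b : V} (h : IsLn D v w) (hd : Dual D v w a b)

include h hd

theorem B1 : D.B (v + a) (w + b) = 1 := by
  have h1 : D.B v b = 1 := by rw [D.symm]; exact hd.bv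
  rw [B_add, map_add, map_add, h.hvw, h1, hd.aw, hd.ab]; decide

theorem B2 : D.B a (v + a) = 0 := by rw [map_add, hd.av, D.alt, add_zero]

theorem B3 : D.B a (w + b) = 0 := by rw [map_add, hd.aw, hd.ab]; decide

theorem B4 : D.B b (v + a) = 0 := by rw [map_add, hd.bv, D.symm, hd.ab]; decide

theorem B5 : D.B b (w + b) = 0 := by rw [map_add, hd.bw, D.alt, add_zero]

theorem comm : (D.τ a * D.τ b) * (D.τ (v + a) * D.τ (w + b)) =
    (D.τ (v + a) * D.τ (w + b)) * (D.τ a * D.τ b) := by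
  have c1 : Commute (D.τ a) (D.τ (v + a)) := D.τ_commute (hd.B2 h)
  have c2 : Commute (D.τ a) (D.τ (w + b)) := D.τ_commute (hd.B3 h)
  have c3 : Commute (D.τ b) (D.τ (v + a)) := D.τ_commute (hd.B4 h)
  have c4 : Commute (D.τ b) (D.τ (w + b)) := D.τ_commute (hd.B5 h)
  exact (((c1.mul_right c2).mul_left (c3.mul_right c4)) : Commute _ _)

theorem dd_three : dd D v w a b * dd D v w a b * dd D v w a b = 1 := by
  have h1 := ττ_three D hd.ab
  have h2 := ττ_three D (hd.B1 h)
  have hc := hd.comm h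
  rw [dd]
  generalize D.τ a * D.τ b = x at *
  generalize D.τ (v + a) * D.τ (w + b) = y at *
  calc x * y * (x * y) * (x * y) = x * (y * x) * (y * x) * y := by simp only [mul_assoc]
    _ = x * (x * y) * (x * y) * y := by rw [← hc]
    _ = x * x * (y * x) * (y * y) := by simp only [mul_assoc]
    _ = x * x * (x * y) * (y * y) := by rw [← hc]
    _ = (x * x * x) * (y * y * y) := by simp only [mul_assoc]
    _ = 1 := by rw [h1, h2, one_mul]

theorem dd_apply (x : V) : D.ρ (dd D v w a b) x =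
    x + D.B x b • b + (D.B x a + D.B x b) • a + D.B x (w + b) • (w + b) +
      (D.B x (v + a) + D.B x (w + b)) • (v + a) := by
  have h1 := hd.B1 h
  have h2 := hd.B2 h
  have h3 := hd.B3 h
  have h4 := hd.B4 h
  have h5 := hd.B5 h
  have h1' : D.B (w + b) (v + a) = 1 := by rw [D.symm]; exact h1
  have h3' : D.B (w + b) a = 0 := by rw [D.symm]; exact h3
  have h2' : D.B (v + a) a = 0 := by rw [D.symm]; exact h2
  have h4' : D.B (v + a) b = 0 := by rw [D.symm]; exact h4
  have h5' : D.B (w + b) b = 0 := by rw [D.symm]; exact h5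
  have hba : D.B b a = 1 := by rw [D.symm]; exact hd.ab
  generalize hA : v + a = A at *
  generalize hB : w + b = B' at *
  rw [dd, hA, hB, D.ρ_mul, D.ρ_mul, D.ρ_mul, D.hτ B' x, D.hτ A, D.hτ b, D.hτ a]
  apply ext_B D
  intro z
  simp only [map_add, LinearMap.add_apply, map_smul, LinearMap.smul_apply, smul_eq_mul, D.alt, h1', h3', h2', h4',
    h5', hba]
  generalize D.B x a = x1
  generalize D.B x b = x2
  generalize D.B x A = x3
  generalize D.B x B' = x4
  generalize D.B a z = z1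
  generalize D.B b z = z2
  generalize D.B A z = z3
  generalize D.B B' z = z4
  generalize D.B x z = k
  clear h1 h2 h3 h4 h5 h1' h3' h2' h4' h5' hba
  have key : ∀ x1 x2 x3 x4 : ZMod 2, ∀ z1 z2 z3 z4 k : ZMod 2, k + x4 * z4 + (x3 + x4 * 1) * z3 +
      (x2 + x4 * 0 + (x3 + x4 * 1) * 0) * z2 + (x1 + x4 * 0 + (x3 + x4 * 1) * 0 +
        (x2 + x4 * 0 + (x3 + x4 * 1) * 0) * 1) * z1 =
      k + x2 * z2 + (x1 + x2) * z1 + x4 * z4 + (x3 + x4) * z3 := by
    intro x1 x2 x3 x4 z1 z2 z3 z4 k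
    ring
  exact key x1 x2 x3 x4 z1 z2 z3 z4 k

theorem dd_v : D.ρ (dd D v w a b) v = w := by
  have h1 : D.B v b = 1 := by rw [D.symm]; exact hd.bv
  have h2 : D.B v a = 0 := by rw [D.symm]; exact hd.av
  rw [hd.dd_apply h, map_add, map_add, h.hvw, h1, h2, D.alt]
  simp only [zero_add, add_zero, one_smul]
  have : v + b + a + (w + b) + (v + a) = w + (v + v) + (b + b) + (a + a) := by abel
  rw [this, aa, aa, aa, add_zero, add_zero, add_zero]

theorem dd_w : D.ρ (dd D v w a b) w = v + w := by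
  have h1 : D.B w b = 0 := by rw [D.symm]; exact hd.bw
  have h2 : D.B w a = 1 := by rw [D.symm]; exact hd.aw
  rw [hd.dd_apply h, map_add, map_add, h.hwv, h1, h2, D.alt]
  simp only [zero_add, add_zero, one_smul, zero_smul]
  have : w + a + (v + a) = v + w + (a + a) := by abel
  rw [this, aa, add_zero]

theorem dd_vw : D.ρ (dd D v w a b) (v + w) = v := by
  rw [map_add, hd.dd_v h, hd.dd_w h, add_comm v w, aac]

theorem dd_mem [Finite V] : dd D v w a b ∈ PU D (pl v w) := by
  apply mem_PU_pl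
  · rw [hd.dd_v h]; exact right_mem_pl v w
  · rw [hd.dd_w h]; exact add_mem (left_mem_pl v w) (right_mem_pl v w)

theorem dd_ne {u : V} (hu : u ∈ pl v w) (hu0 : u ≠ 0) : D.ρ (dd D v w a b) u ≠ u := by
  intro h1
  rcases mem_pl.1 hu with rfl | rfl | rfl | rfl
  · exact hu0 rfl
  · rw [hd.dd_v h] at h1
    exact h.hw (by rw [h1]; exact self_mem_ln _)
  · rw [hd.dd_w h] at h1
    exact h.hv (add_eq_right.1 h1)
  · rw [hd.dd_vw h] at h1
    exact h.hw0 (add_eq_left.1 h1.symm)

end Dual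

/-- elements of `A_ℓ` commuting with an element without fixed vectors on `ℓ` -/
theorem IsLn.sp_of_commute [Finite V] {v w : V} (h : IsLn D v w) {m a : X} (hm : m ∈ PU D (pl v w))
    (hm0 : ∀ u ∈ pl v w, u ≠ 0 → D.ρ m u ≠ u) (ha : a ∈ AU D (pl v w)) (hc : m * a = a * m) :
    ∃ e : ZMod 2, a = q D v (e • w) 0 := by
  rcases h.AU_cases ha with h1 | ⟨u, hu, hu0, e, rfl⟩
  · exact h1
  · exfalso
    have hms : m * q D v (e • w) 0 * m⁻¹ = q D v (e • w) 0 := by
      rcases z2 e with rfl | rfl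
      · rw [zero_smul, q_zero]; group
      · rw [one_smul, (commute_s_iff D h.hv h.hw h.hvw).2 hm, mul_inv_cancel_right]
    have h2 : m * (D.τ u * q D v (e • w) 0) * m⁻¹ = D.τ u * q D v (e • w) 0 := by
      rw [hc, mul_inv_cancel_right]
    have h3 : m * (D.τ u * q D v (e • w) 0) * m⁻¹ = D.τ (D.ρ m u) * q D v (e • w) 0 := by
      calc m * (D.τ u * q D v (e • w) 0) * m⁻¹ = (m * D.τ u * m⁻¹) * (m * q D v (e • w) 0 * m⁻¹) := by group
        _ = _ := by rw [hms, D.conj_τ]
    rw [h2] at h3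
    exact hm0 u hu hu0 (D.τ_injective (mul_right_cancel h3)).symm

end Sp

variable {G V : Type*} [Group G] [AddCommGroup V] [Module (ZMod 2) V] {C : Ctx G V}
variable {v w : V} {g : G}

/-- first version of `y_ℓ` -/
structure IsPre (C : Ctx G V) (v w : V) (y : G) : Prop where
  ln : IsLn C.S v w
  sq : y * y = 1
  conj_t : y * C.t * y = C.t * (q C.S v w 0 : C.L)
  comm : ∀ x ∈ QU C.S (pl v w), y * (x : G) = (x : G) * y

namespace NrmC

theorem comm (hC : NrmC C v w g) {x : C.L} (hx : x ∈ QU C.S (pl v w)) : g * (x : G) = (x : G) * g :=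
  mul_inv_eq_iff_eq_mul.1 (hC.c x hx)

/-- image of an element of the stabilizer of the line -/
theorem exists_a (hC : NrmC C v w g) {m : C.L} (hm : m ∈ PU C.S (pl v w)) :
    ∃ a ∈ AU C.S (pl v w), g * (m : G) * g⁻¹ = ((a * m : C.L) : G) ∨
      g * (m : G) * g⁻¹ = C.t * ((a * m : C.L) : G) := by
  have hfinV := C.finV
  have h := hC.a.ln
  obtain ⟨k, hk, hk'⟩ := hC.a.nrm.exists_PU hm
  have key : ∀ x ∈ QU C.S (pl v w), (k * m⁻¹) * x = x * (k * m⁻¹) := by
    intro x hx
    have hmi : m⁻¹ ∈ PU C.S (pl v w) := inv_mem hm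
    set x' := m⁻¹ * x * m with hx'
    have hx'Q : x' ∈ QU C.S (pl v w) := by
      have := QU_conj C.S hmi hx
      rwa [inv_inv] at this
    have h1 := conj_lift C hk' x'
    have h2 := hC.c x' hx'Q
    have h2' : g⁻¹ * (x' : G) * g = (x' : G) := by
      calc g⁻¹ * (x' : G) * g = g⁻¹ * (g * (x' : G) * g⁻¹) * g := by rw [h2]
        _ = _ := by group
    have h3 : (m : G) * (x' : G) * (m : G)⁻¹ = (x : G) := by
      rw [hx']
      change (m : G) * ((m : G)⁻¹ * x * m) * (m : G)⁻¹ = x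
      group
    have h4 : g * (m : G) * g⁻¹ * (x' : G) * (g * (m : G) * g⁻¹)⁻¹ = (x : G) := by
      calc g * (m : G) * g⁻¹ * (x' : G) * (g * (m : G) * g⁻¹)⁻¹ =
          g * ((m : G) * (g⁻¹ * (x' : G) * g) * (m : G)⁻¹) * g⁻¹ := by group
        _ = _ := by rw [h2', h3, hC.c x hx]
    rw [h4] at h1
    have h5 : x = k * x' * k⁻¹ := Subtype.ext h1
    have h6 : (k * m⁻¹) * x * (k * m⁻¹)⁻¹ = x := by
      calc (k * m⁻¹) * x * (k * m⁻¹)⁻¹ = k * (m⁻¹ * x * m) * k⁻¹ := by group
        _ = _ := by rw [← hx', ← h5]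
    exact mul_inv_eq_iff_eq_mul.1 h6
  refine ⟨k * m⁻¹, ?_, by rw [inv_mul_cancel_right]; exact hk'⟩
  apply h.mem_AU_of_commute
  · exact key _ (AU_le_QU C.S h.ti (τ_mem_AU C.S (left_mem_pl v w)))
  · exact key _ (AU_le_QU C.S h.ti (τ_mem_AU C.S (right_mem_pl v w)))
  · intro x hx; exact key _ (h.qv_mem hx 0)
  · intro x hx; exact key _ (h.qw_mem hx 0)

theorem mul_AU (hC : NrmC C v w g) {a : C.L} (ha : a ∈ AU C.S (pl v w)) : NrmC C v w ((a : G) * g) := by
  have hfinV := C.finV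
  have h := hC.a.ln
  have key : ∀ x ∈ QU C.S (pl v w), ((a : G) * g) * (x : G) * ((a : G) * g)⁻¹ = (x : G) := by
    intro x hx
    have h1 : a * x * a⁻¹ = x := by rw [AU_comm C.S ha (QU_le_FU C.S hx), mul_inv_cancel_right]
    have h1' : (a : G) * (x : G) * (a : G)⁻¹ = (x : G) := congrArg Subtype.val h1
    calc ((a : G) * g) * (x : G) * ((a : G) * g)⁻¹ = (a : G) * (g * (x : G) * g⁻¹) * (a : G)⁻¹ := by group
      _ = _ := by rw [hC.c x hx, h1']
  refine ⟨⟨h, hC.a.nrm.mul_left (QU_le_PU C.S (AU_le_QU C.S h.ti ha)), ?_, ?_⟩, key⟩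
  · exact key _ (AU_le_QU C.S h.ti (τ_mem_AU C.S (left_mem_pl v w)))
  · exact key _ (AU_le_QU C.S h.ti (τ_mem_AU C.S (right_mem_pl v w)))

end NrmC

theorem cube_t (C : Ctx G V) (x : C.L) : C.t * (x : G) * (C.t * (x : G)) * (C.t * (x : G)) =
    C.t * ((x * x * x : C.L) : G) := by
  have hX := t_comm C x
  calc C.t * (x : G) * (C.t * (x : G)) * (C.t * (x : G)) =
      C.t * ((x : G) * C.t) * ((x : G) * C.t) * x := by simp only [mul_assoc]
    _ = C.t * (C.t * (x : G)) * (C.t * (x : G)) * x := by rw [hX]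
    _ = (C.t * C.t) * ((x : G) * C.t) * ((x : G) * x) := by simp only [mul_assoc]
    _ = C.t * (x : G) * ((x : G) * x) := by rw [C.tt, one_mul, hX]
    _ = C.t * ((x : G) * x * x) := by simp only [mul_assoc]

/-- **existence of the first version of `y_ℓ`**, commuting with an element of order 3 -/
theorem exists_pre (hC : NrmC C v w g) {a b : V} (hd : Dual C.S v w a b) :
    ∃ y, IsPre C v w y ∧ y * (dd C.S v w a b : C.L) = (dd C.S v w a b : C.L) * y := by
  have hfinV := C.finV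
  have h := hC.a.ln
  set d := dd C.S v w a b with hddef
  have hdP : d ∈ PU C.S (pl v w) := hd.dd_mem h
  have hd3 : d * d * d = 1 := hd.dd_three h
  obtain ⟨k, hk, hk'⟩ := hC.exists_a hdP
  have hd3' : (d : G) * d * d = 1 := congrArg Subtype.val hd3
  have hkd : g * (d : G) * g⁻¹ = ((k * d : C.L) : G) := by
    rcases hk' with hk' | hk'
    · exact hk'
    · exfalso
      have h1 : g * (d : G) * g⁻¹ * (g * (d : G) * g⁻¹) * (g * (d : G) * g⁻¹) = 1 := by
        calc g * (d : G) * g⁻¹ * (g * (d : G) * g⁻¹) * (g * (d : G) * g⁻¹) = g * ((d : G) * d * d) * g⁻¹ := by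
              group
          _ = 1 := by rw [hd3']; group
      rw [hk'] at h1
      have h2 : C.t * ((k * d : C.L) : G) * (C.t * ((k * d : C.L) : G)) * (C.t * ((k * d : C.L) : G)) =
          C.t * (((k * d) * (k * d) * (k * d) : C.L) : G) := cube_t C (k * d)
      rw [h2] at h1
      exact ne_t_mul C 1 _ h1.symm
  -- the norm condition
  have hnorm : k * (d * k * d⁻¹) * (d * d * k * (d * d)⁻¹) = 1 := by
    have h1 : (k * d) * (k * d) * (k * d) = 1 := by
      apply Subtype.ext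
      change ((k * d : C.L) : G) * ((k * d : C.L) : G) * ((k * d : C.L) : G) = 1
      rw [← hkd]
      calc g * (d : G) * g⁻¹ * (g * (d : G) * g⁻¹) * (g * (d : G) * g⁻¹) = g * ((d : G) * d * d) * g⁻¹ := by
            group
        _ = 1 := by rw [hd3']; group
    calc k * (d * k * d⁻¹) * (d * d * k * (d * d)⁻¹) = (k * d) * (k * d) * (k * d) * (d * d * d)⁻¹ := by group
      _ = 1 := by rw [h1, hd3]; group
  set c := d * k * d⁻¹ with hcdef
  have hcA : c ∈ AU C.S (pl v w) := AU_conj C.S hdP hk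
  have hkk : k * k = 1 := AU_sq C.S h.ti hk
  have hcc : c * c = 1 := AU_sq C.S h.ti hcA
  have hcd : c * (k * d) * c⁻¹ = d := by
    -- `d c⁻¹ d⁻¹ = (k c)⁻¹ ...`
    have h1 : d * c * d⁻¹ = d * d * k * (d * d)⁻¹ := by rw [hcdef]; group
    rw [← h1] at hnorm
    have h2 : d * c * d⁻¹ = (k * c)⁻¹ := (inv_eq_of_mul_eq_one_right hnorm).symm
    have hck : c * k = k * c := AU_comm C.S hcA (QU_le_FU C.S (AU_le_QU C.S h.ti hk))
    calc c * (k * d) * c⁻¹ = c * k * (d * c * d⁻¹)⁻¹ * d := by group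
      _ = c * k * (k * c) * d := by rw [h2, inv_inv]
      _ = d := by
          rw [hck, mul_assoc k c, ← mul_assoc c k, hck, mul_assoc k c, hcc, mul_one, hkk, one_mul]
  have hC1 := hC.mul_AU hcA
  set y := (c : G) * g with hydef
  have hyd : y * (d : G) * y⁻¹ = (d : G) := by
    have h1 : (c : G) * ((k * d : C.L) : G) * (c : G)⁻¹ = (d : G) := congrArg Subtype.val hcd
    calc y * (d : G) * y⁻¹ = (c : G) * (g * (d : G) * g⁻¹) * (c : G)⁻¹ := by rw [hydef]; group
      _ = _ := by rw [hkd, h1]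
  have hydc : y * (d : G) = (d : G) * y := mul_inv_eq_iff_eq_mul.1 hyd
  -- `y²`
  have hs : ((q C.S v w 0 : C.L) : G) * (q C.S v w 0 : C.L) = 1 := congrArg Subtype.val (q_sq C.S h.hwv 0)
  have hyt := hC1.a.nrm.ht
  have hys := hC1.a.nrm.hz
  have h1 : y * y * C.t = C.t * (y * y) := by
    have : y * y * C.t * (y * y)⁻¹ = C.t := by
      calc y * y * C.t * (y * y)⁻¹ = y * (y * C.t * y⁻¹) * y⁻¹ := by group
        _ = y * (C.t * (q C.S v w 0 : C.L)) * y⁻¹ := by rw [hyt]
        _ = (y * C.t * y⁻¹) * (y * (q C.S v w 0 : C.L) * y⁻¹) := by group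
        _ = _ := by rw [hyt, hys, mul_assoc, hs, mul_one]
    exact mul_inv_eq_iff_eq_mul.1 this
  obtain ⟨r, hr⟩ := exists_lift C h1
  have hrA : r ∈ AU C.S (pl v w) := by
    have hcom : ∀ x ∈ QU C.S (pl v w), r * x = x * r := by
      intro x hx
      apply Subtype.ext
      change (r : G) * x = x * r
      have h2 : y * y * (x : G) = x * (y * y) := by
        rw [mul_assoc, hC1.comm hx, ← mul_assoc, hC1.comm hx, mul_assoc]
      rcases hr with hr | hr
      · rwa [hr] at h2
      · rw [hr] at h2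
        have h3 : C.t * ((r : G) * x) = C.t * (x * r) := by
          rw [← mul_assoc, h2, ← mul_assoc, t_comm, mul_assoc]
        exact mul_left_cancel h3
    apply h.mem_AU_of_commute
    · exact hcom _ (AU_le_QU C.S h.ti (τ_mem_AU C.S (left_mem_pl v w)))
    · exact hcom _ (AU_le_QU C.S h.ti (τ_mem_AU C.S (right_mem_pl v w)))
    · intro x hx; exact hcom _ (h.qv_mem hx 0)
    · intro x hx; exact hcom _ (h.qw_mem hx 0)
  have hyr : y * (r : G) * y⁻¹ = r := hC1.c r (AU_le_QU C.S h.ti hrA)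
  have hyy : y * y = r := by
    rcases hr with hr | hr
    · exact hr
    · exfalso
      have h2 : y * (C.t * (r : G)) * y⁻¹ = C.t * r := by rw [← hr]; group
      have h3 : y * (C.t * (r : G)) * y⁻¹ = C.t * (q C.S v w 0 : C.L) * r := by
        calc y * (C.t * (r : G)) * y⁻¹ = (y * C.t * y⁻¹) * (y * (r : G) * y⁻¹) := by group
          _ = _ := by rw [hyt, hyr]
      rw [h3] at h2
      have h4 := mul_left_cancel ((mul_right_cancel h2).trans (mul_one C.t).symm)
      exact h.s_ne_one (Subtype.ext h4)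
  have hrd : d * r = r * d := by
    apply Subtype.ext
    change (d : G) * r = r * d
    have h2 : (d : G) * (y * y) = y * y * d := by
      clear_value y
      rw [← mul_assoc, ← hydc, mul_assoc, ← hydc, mul_assoc]
    rw [hyy] at h2
    exact h2
  obtain ⟨e, he⟩ := h.sp_of_commute hdP (fun u hu hu0 => hd.dd_ne h hu hu0) hrA hrd
  have htx : ∀ x : C.L, C.t * (x : G) = x * C.t := fun x => (t_comm C x).symm
  rcases z2 e with he0 | he0
  · rw [he, he0, zero_smul, q_zero] at hyy
    have hsq : y * y = 1 := hyy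
    have hinv : y⁻¹ = y := inv_eq_of_mul_eq_one_right hsq
    rw [hinv] at hyt
    exact ⟨y, ⟨h, hsq, hyt, fun x hx => hC1.comm hx⟩, hydc⟩
  · rw [he, he0, one_smul] at hyy
    have h2 : y * C.t = C.t * (q C.S v w 0 : C.L) * y := mul_inv_eq_iff_eq_mul.1 hyt
    refine ⟨C.t * y, ⟨h, ?_, ?_, ?_⟩, ?_⟩
    · calc C.t * y * (C.t * y) = C.t * (y * C.t) * y := by group
        _ = C.t * C.t * (q C.S v w 0 : C.L) * (y * y) := by rw [h2]; group
        _ = 1 := by rw [C.tt, hyy, one_mul, hs]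
    · calc C.t * y * C.t * (C.t * y) = C.t * y * (C.t * C.t) * y := by group
        _ = C.t * (y * y) := by rw [C.tt]; group
        _ = _ := by rw [hyy]
    · intro x hx
      rw [mul_assoc, hC1.comm hx, ← mul_assoc, htx, mul_assoc]
    · rw [mul_assoc, hydc, ← mul_assoc, htx, mul_assoc]

end Cfsg.Agent.OddHalf.SpTwo
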