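import Cfsg.Agent.OddHalf.SpTwo.ShortD
import Cfsg.Agent.OddHalf.SpTwo.LongOut

/-!
# `y_ℓ` (short roots) commutes with the transvections `b_x`, `x ∈ ℓ^⊥`
-/

set_option autoImplicit false
set_option linter.unusedSimpArgs false
set_option linter.unusedSectionVars false

open scoped commutatorElement

namespace Cfsg.Agent.OddHalf.SpTwo

open Cfsg.Agent.StandardComponent.SpTwo
open Cfsg.Agent.OddHalf.SpTwoN

theorem ττ_mem_QU {X V : Type*} [Group X] [AddCommGroup V] [Module (ZMod 2) V] (D : SpData X V)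
    {U : Submodule (ZMod 2) V} (hU : U ≤ perp D U) {x μ : V} (hx : x ∈ perp D U) (hμ : μ ∈ U) :
    D.τ (x + μ) * D.τ x ∈ QU D U := by
  have hx0 : x + μ ∈ perp D U := add_mem hx (hU hμ)
  constructor
  · intro u hu
    have e1 : ∀ z ∈ perp D U, D.ρ (D.τ z) u = u := by
      intro z hz
      rw [D.hτ, D.symm, hz u hu, zero_smul, add_zero]
    rw [D.ρ_mul, e1 x hx, e1 _ hx0]
  · intro z hz
    have e2 : D.B (z + D.B z x • x) (x + μ) = D.B z x := by
      rw [B_add, map_smul, LinearMap.smul_apply, map_add, map_add, D.alt, hz μ hμ, hx μ hμ]; simp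
    rw [D.ρ_mul, D.hτ x z, D.hτ, e2]
    rcases z2 (D.B z x) with h1 | h1
    · rw [h1, zero_smul, zero_smul, add_zero, add_zero, aa]; exact zero_mem _
    · rw [h1, one_smul, one_smul]
      have : z + x + (x + μ) + z = μ + (z + z) + (x + x) := by abel
      rw [this, aa, aa, add_zero, add_zero]; exact hμ

variable {G V : Type*} [Group G] [AddCommGroup V] [Module (ZMod 2) V] {C : Ctx G V}
variable {v w : V} {g : G}

namespace IsPre

theorem comm_s {y : G} (hy : IsPre C v w y) : y * (q C.S v w 0 : C.L) = (q C.S v w 0 : C.L) * y := by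
  have := hy.comm _ (hy.ln.qv_mem (hy.ln.ti (right_mem_pl v w)) 0)
  exact this

theorem comm_sp {y : G} (hy : IsPre C v w y) (e : ZMod 2) :
    y * (q C.S v (e • w) 0 : C.L) = (q C.S v (e • w) 0 : C.L) * y :=
  hy.comm _ (AU_le_QU C.S hy.ln.ti (hy.ln.sp_mem e))

theorem inv_eq {y : G} (hy : IsPre C v w y) : y⁻¹ = y := inv_eq_of_mul_eq_one_right hy.sq

/-- two versions of `y_ℓ` differ by an element of `A_ℓ` -/
theorem unique {y y' : G} (hy : IsPre C v w y) (hy' : IsPre C v w y') :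
    ∃ a ∈ AU C.S (pl v w), y' = y * (a : G) := by
  have hfinV := C.finV
  have h := hy.ln
  have hs : ((q C.S v w 0 : C.L) : G) * (q C.S v w 0 : C.L) = 1 := congrArg Subtype.val (q_sq C.S h.hwv 0)
  have h1 : y * C.t = C.t * (q C.S v w 0 : C.L) * y := by
    calc y * C.t = y * C.t * (y * y) := by rw [hy.sq, mul_one]
      _ = (y * C.t * y) * y := by group
      _ = _ := by rw [hy.conj_t]
  have h1' : y' * C.t = C.t * (q C.S v w 0 : C.L) * y' := by
    calc y' * C.t = y' * C.t * (y' * y') := by rw [hy'.sq, mul_one]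
      _ = (y' * C.t * y') * y' := by group
      _ = _ := by rw [hy'.conj_t]
  have h2 : y * y' * C.t = C.t * (y * y') := by
    calc y * y' * C.t = y * (y' * C.t) := by group
      _ = (y * C.t) * (q C.S v w 0 : C.L) * y' := by rw [h1']; group
      _ = C.t * (q C.S v w 0 : C.L) * (y * (q C.S v w 0 : C.L)) * y' := by rw [h1]; group
      _ = C.t * ((q C.S v w 0 : C.L) * (q C.S v w 0 : C.L)) * (y * y') := by rw [hy.comm_s]; group
      _ = _ := by rw [hs, mul_one]
  obtain ⟨r, hr⟩ := exists_lift C h2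
  have hcomm : ∀ x ∈ QU C.S (pl v w), r * x = x * r := by
    intro x hx
    apply Subtype.ext
    change (r : G) * x = x * r
    have h3 : y * y' * (x : G) = x * (y * y') := by
      rw [mul_assoc, hy'.comm x hx, ← mul_assoc, hy.comm x hx, mul_assoc]
    rcases hr with hr | hr
    · rwa [hr] at h3
    · rw [hr] at h3
      have h4 : C.t * ((r : G) * x) = C.t * (x * r) := by
        rw [← mul_assoc, h3, ← mul_assoc, t_comm, mul_assoc]
      exact mul_left_cancel h4
  have hrA : r ∈ AU C.S (pl v w) := by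
    apply h.mem_AU_of_commute
    · exact hcomm _ (AU_le_QU C.S h.ti (τ_mem_AU C.S (left_mem_pl v w)))
    · exact hcomm _ (AU_le_QU C.S h.ti (τ_mem_AU C.S (right_mem_pl v w)))
    · intro x hx; exact hcomm _ (h.qv_mem hx 0)
    · intro x hx; exact hcomm _ (h.qw_mem hx 0)
  have hyy : y' = y * (y * y') := by rw [← mul_assoc, hy.sq, one_mul]
  rcases hr with hr | hr
  · exact ⟨r, hrA, by rw [← hr]; exact hyy⟩
  · exfalso
    have hrr : (r : G) * r = 1 := congrArg Subtype.val (AU_sq C.S h.ti hrA)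
    have hyr : y * (r : G) = r * y := hy.comm r (AU_le_QU C.S h.ti hrA)
    have h5 : y' = y * C.t * r := by rw [hyy, hr, mul_assoc]
    have h6 : y' * y' = (q C.S v w 0 : C.L) := by
      calc y' * y' = y * C.t * r * (y * C.t * r) := by rw [← h5]
        _ = y * C.t * ((r : G) * y) * C.t * r := by group
        _ = y * C.t * y * ((r : G) * C.t) * r := by rw [← hyr]; group
        _ = (y * C.t * y) * (C.t * r) * r := by rw [t_comm]
        _ = C.t * ((q C.S v w 0 : C.L) * C.t) * (r * r) := by rw [hy.conj_t]; group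
        _ = (C.t * C.t) * (q C.S v w 0 : C.L) * (r * r) := by rw [t_comm]; group
        _ = _ := by rw [C.tt, hrr, one_mul, mul_one]
    rw [hy'.sq] at h6
    exact h.s_ne_one (Subtype.ext h6.symm)

theorem conj_PU {y : G} (hy : IsPre C v w y) {m : C.L} (hm : m ∈ PU C.S (pl v w)) :
    IsPre C v w ((m : G) * y * (m : G)⁻¹) := by
  have hfinV := C.finV
  have h := hy.ln
  have hms : m * q C.S v w 0 * m⁻¹ = q C.S v w 0 := by
    rw [(commute_s_iff C.S h.hv h.hw h.hvw).2 hm, mul_inv_cancel_right]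
  have hms' : (m : G) * (q C.S v w 0 : C.L) * (m : G)⁻¹ = (q C.S v w 0 : C.L) := congrArg Subtype.val hms
  have hmt : (m : G)⁻¹ * C.t * m = C.t := by
    rw [mul_assoc, ← t_comm, ← mul_assoc, inv_mul_cancel, one_mul]
  refine ⟨h, ?_, ?_, ?_⟩
  · calc (m : G) * y * (m : G)⁻¹ * ((m : G) * y * (m : G)⁻¹) = m * (y * y) * (m : G)⁻¹ := by group
      _ = 1 := by rw [hy.sq]; group
  · calc (m : G) * y * (m : G)⁻¹ * C.t * ((m : G) * y * (m : G)⁻¹) =
        m * (y * ((m : G)⁻¹ * C.t * m) * y) * (m : G)⁻¹ := by group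
      _ = (m : G) * C.t * (q C.S v w 0 : C.L) * (m : G)⁻¹ := by rw [hmt, hy.conj_t]; group
      _ = C.t * ((m : G) * (q C.S v w 0 : C.L) * (m : G)⁻¹) := by rw [t_comm]; group
      _ = _ := by rw [hms']
  · intro x hx
    have hx' : m⁻¹ * x * m ∈ QU C.S (pl v w) := by
      have := QU_conj C.S (inv_mem hm) hx
      rwa [inv_inv] at this
    have h1 := hy.comm _ hx'
    have h2 : y * ((m : G)⁻¹ * x * m) = ((m : G)⁻¹ * x * m) * y := h1
    calc (m : G) * y * (m : G)⁻¹ * x = m * (y * ((m : G)⁻¹ * x * m)) * (m : G)⁻¹ := by group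
      _ = m * (((m : G)⁻¹ * x * m) * y) * (m : G)⁻¹ := by rw [h2]
      _ = _ := by group

/-- the action of the transvections `b_x`, `x ∈ ℓ^⊥` -/
theorem exists_e {y : G} (hy : IsPre C v w y) {a b : V} (hd : Dual C.S v w a b)
    (hyd : y * (dd C.S v w a b : C.L) = (dd C.S v w a b : C.L) * y) {x : V} (hx : x ∈ perp C.S (pl v w)) :
    ∃ e : ZMod 2, C.b x * y * C.b x = y * (q C.S v (e • w) 0 : C.L) := by
  have hfinV := C.finV
  have h := hy.ln
  have hdP := hd.dd_mem h
  -- vectors orthogonal to the dual basis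
  have key : ∀ x0 ∈ perp C.S (pl v w), C.S.B x0 a = 0 → C.S.B x0 b = 0 →
      ∃ e : ZMod 2, C.b x0 * y * C.b x0 = y * (q C.S v (e • w) 0 : C.L) := by
    intro x0 hx0 h1 h2
    have hx0' := (mem_perp_pl C.S).1 hx0
    have hP : C.S.τ x0 ∈ PU C.S (pl v w) := τ_mem_PU C.S hx0
    have h3 := hy.conj_PU hP
    obtain ⟨r, hr, hr'⟩ := hy.unique h3
    have e1 : ((C.S.τ x0 : C.L) : G) = C.b x0 := rfl
    have e2 : (C.b x0)⁻¹ = C.b x0 := by
      rw [← e1, ← Subgroup.coe_inv, C.S.τ_inv]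
    rw [e1, e2] at hr'
    -- `d` commutes with `b x0`
    have c1 : Commute (C.S.τ x0) (C.S.τ a) := C.S.τ_commute h1
    have c2 : Commute (C.S.τ x0) (C.S.τ b) := C.S.τ_commute h2
    have c3 : Commute (C.S.τ x0) (C.S.τ (v + a)) := C.S.τ_commute (by rw [map_add, hx0'.1, h1, add_zero])
    have c4 : Commute (C.S.τ x0) (C.S.τ (w + b)) := C.S.τ_commute (by rw [map_add, hx0'.2, h2, add_zero])
    have c5 : Commute (C.S.τ x0) (dd C.S v w a b) := (c1.mul_right c2).mul_right (c3.mul_right c4)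
    have c6 : C.b x0 * (dd C.S v w a b : C.L) = (dd C.S v w a b : C.L) * C.b x0 :=
      congrArg Subtype.val c5.eq
    have c7 : dd C.S v w a b * r = r * dd C.S v w a b := by
      apply Subtype.ext
      change ((dd C.S v w a b : C.L) : G) * r = r * (dd C.S v w a b : C.L)
      have h4 : (r : G) = y * (C.b x0 * y * C.b x0) := by
        rw [hr', ← mul_assoc, hy.sq, one_mul]
      generalize ((dd C.S v w a b : C.L) : G) = d at *
      rw [h4]
      have k1 : Commute d y := hyd.symm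
      have k2 : Commute d (C.b x0) := c6.symm
      exact (k1.mul_right ((k2.mul_right k1).mul_right k2)).eq
    obtain ⟨e, he⟩ := h.sp_of_commute hdP (fun u hu hu0 => hd.dd_ne h hu hu0) hr c7
    exact ⟨e, by rw [hr', he]⟩
  have hx' := (mem_perp_pl C.S).1 hx
  set μ := C.S.B x b • v + C.S.B x a • w with hμ
  have hμl : μ ∈ pl v w :=
    add_mem (Submodule.smul_mem _ _ (left_mem_pl v w)) (Submodule.smul_mem _ _ (right_mem_pl v w))
  have hva : C.S.B v a = 0 := by rw [C.S.symm]; exact hd.av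
  have hwa : C.S.B w a = 1 := by rw [C.S.symm]; exact hd.aw
  have hvb : C.S.B v b = 1 := by rw [C.S.symm]; exact hd.bv
  have hwb : C.S.B w b = 0 := by rw [C.S.symm]; exact hd.bw
  have hx0 : x + μ ∈ perp C.S (pl v w) := add_mem hx (h.ti hμl)
  obtain ⟨e, he⟩ := key (x + μ) hx0 (by
      rw [B_add, hμ, B_add, map_smul, map_smul, LinearMap.smul_apply, LinearMap.smul_apply, hva, hwa,
        smul_zero, zero_add, smul_eq_mul, mul_one, z2_add]) (by
      rw [B_add, hμ, B_add, map_smul, map_smul, LinearMap.smul_apply, LinearMap.smul_apply, hvb, hwb,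
        smul_zero, add_zero, smul_eq_mul, mul_one, z2_add])
  refine ⟨e, ?_⟩
  -- `τ (x + μ) τ x ∈ Q_ℓ`
  have hrQ := ττ_mem_QU C.S h.ti hx hμl
  have h1 := hy.comm _ hrQ
  have h2 : y * (C.b (x + μ) * C.b x) = (C.b (x + μ) * C.b x) * y := h1
  have hbb : ∀ u : V, C.b u * C.b u = 1 := fun u => congrArg Subtype.val (C.S.τ_sq u)
  have hpp := hbb (x + μ)
  generalize C.b (x + μ) = p at *
  calc C.b x * y * C.b x = p * (p * C.b x * y) * C.b x := by
        rw [mul_assoc p (C.b x) y, ← mul_assoc p p, hpp, one_mul]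
    _ = p * (y * (p * C.b x)) * C.b x := by rw [h2]
    _ = (p * y * p) * (C.b x * C.b x) := by group
    _ = _ := by rw [he, hbb, mul_one]

end IsPre

/-- second version of `y_ℓ` -/
structure IsPre2 (C : Ctx G V) (v w : V) (y : G) : Prop where
  pre : IsPre C v w y
  e : ∀ x ∈ perp C.S (pl v w), ∃ e : ZMod 2, C.b x * y * C.b x = y * (q C.S v (e • w) 0 : C.L)

theorem b_sq (C : Ctx G V) (u : V) : C.b u * C.b u = 1 := congrArg Subtype.val (C.S.τ_sq u)

theorem b_inv (C : Ctx G V) (u : V) : (C.b u)⁻¹ = C.b u := inv_eq_of_mul_eq_one_right (b_sq C u)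

theorem ln_le_pl {V : Type*} [AddCommGroup V] [Module (ZMod 2) V] {v w x : V} (hx : x ∈ SpTwo.ln v) :
    x ∈ pl v w := by
  rcases mem_ln.1 hx with rfl | rfl
  · exact zero_mem _
  · exact left_mem_pl _ _

/-- the product of a transvection and `s` is not a transvection -/
theorem no_τ [Finite V] {X : Type*} [Group X] (D : SpData X V) (h : IsLn D v w) {x z : V}
    (hx : x ∈ perp D (pl v w)) (hxl : x ∉ pl v w) {e2 e3 : ZMod 2}
    (h1 : D.τ x * q D v (e2 • w) 0 * q D v (e3 • (x + w)) 0 = D.τ z) : e2 = 0 := by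
  have hx' := (mem_perp_pl D).1 hx
  have hvx : D.B v x = 0 := by rw [D.symm]; exact hx'.1
  have hwx : D.B w x = 0 := by rw [D.symm]; exact hx'.2
  have hxv : x ∉ SpTwo.ln v := fun h1 => hxl (ln_le_pl h1)
  rcases z2 e2 with h2 | h2
  · exact h2
  exfalso
  have hxwv : D.B (x + w) v = 0 := by rw [B_add, hx'.1, h.hwv, add_zero]
  rcases z2 e3 with h3 | h3
  · rw [h2, h3, one_smul, zero_smul, q_zero, mul_one] at h1
    -- `τ x s_{v,w}`
    have hwpl : w ∉ pl v x := by
      intro h4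
      rcases mem_pl.1 h4 with h5 | h5 | h5 | h5
      · exact h.hw0 h5
      · exact h.hw (by rw [h5]; exact self_mem_ln _)
      · exact hxl (by rw [← h5]; exact right_mem_pl _ _)
      · refine hxl ?_
        have : x = v + w := by rw [h5, aac]
        rw [this]; exact add_mem (left_mem_pl _ _) (right_mem_pl _ _)
    obtain ⟨y, hy, hyw⟩ := sep D hwpl
    have hy' := (mem_perp_pl D).1 hy
    have e1 := (ρ_eq D).1 h1 y
    rw [D.ρ_mul, q_act D h.hwv hy'.1, hyw, one_smul, D.hτ, B_add, hy'.2, hvx, add_zero, zero_smul,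
      add_zero, D.hτ] at e1
    have e2 := add_left_cancel e1
    have hzv : z = v := by
      rcases z2 (D.B y z) with h4 | h4
      · rw [h4, zero_smul] at e2; exact absurd e2 h.hv
      · rw [h4, one_smul] at e2; exact e2.symm
    obtain ⟨y', hy', hyx⟩ := sep D hxl
    have hy'' := (mem_perp_pl D).1 hy'
    have e3 := (ρ_eq D).1 h1 y'
    rw [D.ρ_mul, q_act D h.hwv hy''.1, hy''.2, zero_smul, add_zero, D.hτ, hyx, one_smul, hzv, D.hτ,
      hy''.1, zero_smul] at e3
    exact hxl (by rw [add_left_cancel e3]; exact zero_mem _)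
  · rw [h2, h3, one_smul, one_smul, mul_assoc, q_mul D h.hwv hxwv, map_add, hwx, D.alt] at h1
    have e1 : w + (x + w) = x := by
      have : w + (x + w) = x + (w + w) := by abel
      rw [this, aa, add_zero]
    rw [e1] at h1
    have e2 : q D v x (0 + 0 + (0 + 0)) = D.τ x * (D.τ v * D.τ (v + x)) := by
      have : D.τ v * D.τ x = D.τ x * D.τ v := D.τ_commute hvx
      rw [add_zero, add_zero, q, zero_smul, D.τ_zero, mul_one, this, mul_assoc]
    rw [e2, ← mul_assoc, D.τ_sq, one_mul] at h1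
    refine ττ_ne_τ D h.hv (fun h4 => hxv ?_) (by rw [B_add, D.alt, hx'.1, add_zero]) h1
    have := add_mem (self_mem_ln v) h4
    rwa [aac] at this

/-- **`θ = 0`**: `y_ℓ` commutes with `b_x`, `x ∈ ℓ^⊥` -/
theorem IsPre2.comm_b (hall : ∀ a b : V, IsLn C.S a b → ∃ y, IsPre2 C a b y) {y : G}
    (hy : IsPre2 C v w y) {x : V} (hx : x ∈ perp C.S (pl v w)) : y * C.b x = C.b x * y := by
  have hfinV := C.finV
  have h := hy.pre.ln
  have hx' := (mem_perp_pl C.S).1 hx
  by_cases hxl : x ∈ pl v w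
  · exact hy.pre.comm _ (AU_le_QU C.S h.ti (τ_mem_AU C.S hxl))
  obtain ⟨e2, he2⟩ := hy.e x hx
  -- the three lines
  have hvx : C.S.B v x = 0 := by rw [C.S.symm]; exact hx'.1
  have hwx : C.S.B w x = 0 := by rw [C.S.symm]; exact hx'.2
  have hxv : x ∉ SpTwo.ln v := fun h1 => hxl (ln_le_pl h1)
  have hL1 : IsLn C.S v x := ⟨h.hv, hxv, hvx⟩
  have hL3 : IsLn C.S v (x + w) := by
    refine ⟨h.hv, fun h1 => hxl ?_, by rw [map_add, hvx, h.hvw, add_zero]⟩
    have h2 := add_mem (ln_le_pl (w := w) h1) (right_mem_pl v w)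
    rwa [add_assoc, aa, add_zero] at h2
  obtain ⟨y1, hy1⟩ := hall v x hL1
  obtain ⟨y3, hy3⟩ := hall v (x + w) hL3
  have hx3 : x ∈ perp C.S (pl v (x + w)) := (mem_perp_pl C.S).2 ⟨hx'.1, by
    rw [map_add, C.S.alt, hx'.2, add_zero]⟩
  obtain ⟨e3, he3⟩ := hy3.e x hx3
  have hxwv : C.S.B (x + w) v = 0 := by rw [B_add, hx'.1, h.hwv, add_zero]
  have hxww : C.S.B (x + w) w = 0 := by rw [B_add, hx'.2, C.S.alt, add_zero]
  have hxwx : C.S.B (x + w) x = 0 := by rw [B_add, hwx, C.S.alt, add_zero]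
  have hw1 : w ∈ perp C.S (pl v x) := (mem_perp_pl C.S).2 ⟨h.hwv, hwx⟩
  have hxw1 : x + w ∈ perp C.S (pl v x) := (mem_perp_pl C.S).2 ⟨hxwv, hxwx⟩
  have hxw2 : x + w ∈ perp C.S (pl v w) := (mem_perp_pl C.S).2 ⟨hxwv, hxww⟩
  -- commutations
  have c12 : ∀ f : ZMod 2, y1 * (q C.S v (f • w) 0 : C.L) = (q C.S v (f • w) 0 : C.L) * y1 := fun f =>
    hy1.pre.comm _ (hL1.qv_mem (Submodule.smul_mem _ _ hw1) 0)
  have c13 : ∀ f : ZMod 2, y1 * (q C.S v (f • (x + w)) 0 : C.L) = (q C.S v (f • (x + w)) 0 : C.L) * y1 :=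
    fun f => hy1.pre.comm _ (hL1.qv_mem (Submodule.smul_mem _ _ hxw1) 0)
  have c23 : ∀ f : ZMod 2, y * (q C.S v (f • (x + w)) 0 : C.L) = (q C.S v (f • (x + w)) 0 : C.L) * y :=
    fun f => hy.pre.comm _ (h.qv_mem (Submodule.smul_mem _ _ hxw2) 0)
  have c22 := fun f => hy.pre.comm_sp f
  have c33 := fun f => hy3.pre.comm_sp f
  have c1b : y1 * C.b x = C.b x * y1 :=
    hy1.pre.comm _ (AU_le_QU C.S hL1.ti (τ_mem_AU C.S (right_mem_pl v x)))
  have m2 : y * C.b x = C.b x * ((q C.S v (e2 • w) 0 : C.L) * y) := by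
    calc y * C.b x = C.b x * (C.b x * y * C.b x) := by
          rw [← mul_assoc, ← mul_assoc, b_sq, one_mul]
      _ = _ := by rw [he2, c22]
  have m3 : y3 * C.b x = C.b x * ((q C.S v (e3 • (x + w)) 0 : C.L) * y3) := by
    calc y3 * C.b x = C.b x * (C.b x * y3 * C.b x) := by
          rw [← mul_assoc, ← mul_assoc, b_sq, one_mul]
      _ = _ := by rw [he3, c33]
  -- the product
  have t1 : y1 * C.t = C.t * (q C.S v x 0 : C.L) * y1 := by
    calc y1 * C.t = y1 * C.t * (y1 * y1) := by rw [hy1.pre.sq, mul_one]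
      _ = (y1 * C.t * y1) * y1 := by group
      _ = _ := by rw [hy1.pre.conj_t]
  have t2 : y * C.t = C.t * (q C.S v w 0 : C.L) * y := by
    calc y * C.t = y * C.t * (y * y) := by rw [hy.pre.sq, mul_one]
      _ = (y * C.t * y) * y := by group
      _ = _ := by rw [hy.pre.conj_t]
  have t3 : y3 * C.t = C.t * (q C.S v (x + w) 0 : C.L) * y3 := by
    calc y3 * C.t = y3 * C.t * (y3 * y3) := by rw [hy3.pre.sq, mul_one]
      _ = (y3 * C.t * y3) * y3 := by group
      _ = _ := by rw [hy3.pre.conj_t]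
  have hsss : ((q C.S v x 0 : C.L) : G) * ((q C.S v w 0 : C.L) * (q C.S v (x + w) 0 : C.L)) = 1 := by
    have : q C.S v x 0 * (q C.S v w 0 * q C.S v (x + w) 0) = 1 := by
      rw [q_mul C.S h.hwv hxwv, map_add, hwx, C.S.alt, q_mul C.S hx'.1 (by
        rw [B_add, h.hwv, hxwv, add_zero])]
      have e1 : x + (w + (x + w)) = 0 := by
        have : x + (w + (x + w)) = (x + x) + (w + w) := by abel
        rw [this, aa, aa, add_zero]
      rw [e1, map_add, map_add, hx'.2, C.S.alt]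
      simp only [add_zero]
      exact q_zero C.S v
    exact congrArg Subtype.val this
  have c12' := c12 1
  have c13' := c13 1
  have c23' := c23 1
  rw [one_smul] at c12' c13' c23'
  have hπt : y1 * y * y3 * C.t = C.t * (y1 * y * y3) := by
    have hc2 := c12 e2
    have hc3 := c13 e3
    clear m2 m3 he2 he3 hc2 hc3 c1b c12 c13 c23 c22 c33
    generalize ((q C.S v x 0 : C.L) : G) = s1 at *
    generalize ((q C.S v w 0 : C.L) : G) = s2 at *
    generalize ((q C.S v (x + w) 0 : C.L) : G) = s3 at *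
    calc y1 * y * y3 * C.t = y1 * (y * (y3 * C.t)) := by group
      _ = y1 * ((y * C.t) * s3 * y3) := by rw [t3]; group
      _ = y1 * (C.t * s2 * (y * s3) * y3) := by rw [t2]; group
      _ = (y1 * C.t) * s2 * s3 * (y * y3) := by rw [c23']; group
      _ = C.t * s1 * (y1 * s2) * s3 * (y * y3) := by rw [t1]; group
      _ = C.t * s1 * s2 * (y1 * s3) * (y * y3) := by rw [c12']; group
      _ = C.t * (s1 * (s2 * s3)) * (y1 * y * y3) := by rw [c13']; group
      _ = _ := by rw [hsss, mul_one]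
  obtain ⟨r, hr⟩ := exists_lift C hπt
  have hπb : y1 * y * y3 * C.b x = (C.b x * (q C.S v (e2 • w) 0 : C.L) * (q C.S v (e3 • (x + w)) 0 : C.L)) *
      (y1 * y * y3) := by
    have hc2 := c12 e2
    have hc3 := c13 e3
    have hc4 := c23 e3
    clear c12 c13 c23 c22 c33 he2 he3
    generalize ((q C.S v (e2 • w) 0 : C.L) : G) = s2 at *
    generalize ((q C.S v (e3 • (x + w)) 0 : C.L) : G) = s3 at *
    calc y1 * y * y3 * C.b x = y1 * (y * (y3 * C.b x)) := by group
      _ = y1 * ((y * C.b x) * (s3 * y3)) := by rw [m3]; group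
      _ = (y1 * C.b x) * (s2 * (y * s3) * y3) := by rw [m2]; group
      _ = C.b x * (y1 * s2) * (s3 * y * y3) := by rw [c1b, hc4]; group
      _ = C.b x * s2 * (y1 * s3) * (y * y3) := by rw [hc2]; group
      _ = _ := by rw [hc3]; group
  have h4 := conj_lift C hr (C.S.τ x)
  have h5 : y1 * y * y3 * C.b x * (y1 * y * y3)⁻¹ = ((r * C.S.τ x * r⁻¹ : C.L) : G) := h4
  rw [hπb, mul_inv_cancel_right] at h5
  have h6 : C.S.τ x * q C.S v (e2 • w) 0 * q C.S v (e3 • (x + w)) 0 = C.S.τ (C.S.ρ r x) := by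
    rw [← C.S.conj_τ]
    exact Subtype.ext h5
  have h7 := no_τ C.S h hx hxl h6
  rw [m2, h7, zero_smul, q_zero]
  change C.b x * (1 * y) = _
  rw [one_mul]

end Cfsg.Agent.OddHalf.SpTwo
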