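import Cfsg.Agent.OddHalf.SpTwo.ShortE

/-!
# Output for short roots: `y_ℓ` for every totally isotropic line
-/

set_option autoImplicit false
set_option linter.unusedSimpArgs false
set_option linter.unusedSectionVars false

open scoped commutatorElement

namespace Cfsg.Agent.OddHalf.SpTwo

open Cfsg.Agent.StandardComponent.SpTwo
open Cfsg.Agent.OddHalf.SpTwoN

section Sp

variable {X V : Type*} [Group X] [AddCommGroup V] [Module (ZMod 2) V] {D : SpData X V}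

theorem mem_FU_pl {v w : V} {m : X} (hv : D.ρ m v = v) (hw : D.ρ m w = w) : m ∈ FU D (pl v w) := by
  intro u hu
  rcases mem_pl.1 hu with rfl | rfl | rfl | rfl
  · rw [map_zero]
  · exact hv
  · exact hw
  · rw [map_add, hv, hw]

/-- the pointwise stabiliser is generated by transvections and the unipotent radical -/
theorem exists_TG_QU [Finite V] {U : Submodule (ZMod 2) V} (hU : U ≤ perp D U) {m : X} (hm : m ∈ FU D U) :
    ∃ p ∈ TG D (perp D U : Set V), p⁻¹ * m ∈ QU D U := by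
  have hmP := FU_le_PU D hm
  obtain ⟨p, hp, hpx⟩ := gen D hU (fun x => D.ρ m x) (fun x hx => PU_perp D hmP hx)
    (fun x hx => by rw [hm x hx]; exact hx)
    (fun x _ y _ => by rw [map_add, aa]; exact zero_mem _) (fun x _ y _ => D.inv m x y)
  have hpU : ∀ u ∈ U, D.ρ p⁻¹ u = u := fun u hu => TG_fix D (inv_mem hp) hu
  refine ⟨p, hp, fun u hu => by rw [D.ρ_mul, hm u hu, hpU u hu], fun x hx => ?_⟩
  have h1 := hpx x hx
  have h2 : D.ρ (p⁻¹ * m) x + x = D.ρ p⁻¹ (D.ρ p x + D.ρ m x) := by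
    rw [map_add, D.ρ_inv_apply, D.ρ_mul, add_comm]
  rw [h2, hpU _ h1]
  exact h1

theorem IsLn.map {v w : V} (h : IsLn D v w) (m : X) : IsLn D (D.ρ m v) (D.ρ m w) := by
  refine ⟨fun h1 => h.hv (D.ρ_inj m (by rw [h1, map_zero])), fun h1 => ?_, by rw [D.inv]; exact h.hvw⟩
  rcases mem_ln.1 h1 with h2 | h2
  · exact h.hw0 (D.ρ_inj m (by rw [h2, map_zero]))
  · exact h.hw (by rw [D.ρ_inj m h2]; exact self_mem_ln v)

theorem map_pl {v w u : V} (m : X) (hu : u ∈ pl v w) : D.ρ m u ∈ pl (D.ρ m v) (D.ρ m w) := by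
  rcases mem_pl.1 hu with rfl | rfl | rfl | rfl
  · rw [map_zero]; exact zero_mem _
  · exact left_mem_pl _ _
  · exact right_mem_pl _ _
  · rw [map_add]; exact add_mem (left_mem_pl _ _) (right_mem_pl _ _)

/-- a 3-cycle on a line -/
theorem three_cases {v w : V} (hv0 : v ≠ 0) (hw0 : w ≠ 0) (hvw : v + w ≠ 0) {m : X} (hm : m ∈ PU D (pl v w))
    (hm0 : ∀ u ∈ pl v w, u ≠ 0 → D.ρ m u ≠ u) :
    (D.ρ m v = w ∧ D.ρ m w = v + w) ∨ (D.ρ m v = v + w ∧ D.ρ m w = v) := by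
  have h0 : ∀ u : V, u ≠ 0 → D.ρ m u ≠ 0 := fun u hu h1 => hu (D.ρ_inj m (by rw [h1, map_zero]))
  have e1 := mem_pl.1 ((hm v).2 (left_mem_pl v w))
  have e2 := mem_pl.1 ((hm w).2 (right_mem_pl v w))
  have e3 := hm0 v (left_mem_pl v w) hv0
  have e4 := hm0 w (right_mem_pl v w) hw0
  have e5 := hm0 (v + w) (add_mem (left_mem_pl v w) (right_mem_pl v w)) hvw
  rcases e1 with e1 | e1 | e1 | e1
  · exact absurd e1 (h0 v hv0)
  · exact absurd e1 e3
  · rcases e2 with e2 | e2 | e2 | e2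
    · exact absurd e2 (h0 w hw0)
    · exfalso
      rw [map_add, e1, e2] at e5
      exact e5 (add_comm w v)
    · exact absurd e2 e4
    · exact Or.inl ⟨e1, e2⟩
  · rcases e2 with e2 | e2 | e2 | e2
    · exact absurd e2 (h0 w hw0)
    · exact Or.inr ⟨e1, e2⟩
    · exact absurd e2 e4
    · exfalso
      have : v = w := D.ρ_inj m (by rw [e1, e2])
      exact hvw (by rw [this, aa])

end Sp

variable {G V : Type*} [Group G] [AddCommGroup V] [Module (ZMod 2) V] {C : Ctx G V}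
variable {v w : V} {g : G}

/-- **the output for short roots** -/
structure IsX (C : Ctx G V) (v w : V) (y : G) : Prop where
  ln : IsLn C.S v w
  sq : y * y = 1
  conj_t : y * C.t * y = C.t * (q C.S v w 0 : C.L)
  comm : ∀ m ∈ FU C.S (pl v w), y * (m : G) = (m : G) * y
  comm3 : ∀ m ∈ PU C.S (pl v w), (∀ u ∈ pl v w, u ≠ 0 → C.S.ρ m u ≠ u) → y * (m : G) = (m : G) * y

theorem IsPre.isX {y : G} (hy : IsPre C v w y) {a b : V} (hd : Dual C.S v w a b)
    (hyd : y * (dd C.S v w a b : C.L) = (dd C.S v w a b : C.L) * y)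
    (hb : ∀ x ∈ perp C.S (pl v w), y * C.b x = C.b x * y) : IsX C v w y := by
  have hfinV := C.finV
  have h := hy.ln
  have hTG : ∀ p ∈ TG C.S (perp C.S (pl v w) : Set V), y * (p : G) = (p : G) * y := by
    intro p hp
    induction hp using Subgroup.closure_induction with
    | mem p hp =>
      obtain ⟨x, hx, rfl⟩ := hp
      exact hb x hx
    | one =>
      change y * 1 = 1 * y
      rw [mul_one, one_mul]
    | mul p p' _ _ h1 h2 =>
      change y * ((p : G) * p') = (p * p') * y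
      rw [← mul_assoc, h1, mul_assoc, h2, mul_assoc]
    | inv p _ h1 =>
      change y * (p : G)⁻¹ = (p : G)⁻¹ * y
      have : Commute y (p : G) := h1
      exact this.inv_right.eq
  have hF : ∀ m ∈ FU C.S (pl v w), y * (m : G) = (m : G) * y := by
    intro m hm
    obtain ⟨p, hp, hpm⟩ := exists_TG_QU h.ti hm
    have h1 := hTG p hp
    have h2 := hy.comm _ hpm
    have h3 : (m : G) = p * ((p : G)⁻¹ * m) := by group
    have h4 : y * ((p : G)⁻¹ * m) = ((p : G)⁻¹ * m) * y := h2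
    calc y * (m : G) = y * p * ((p : G)⁻¹ * m) := by group
      _ = p * (y * ((p : G)⁻¹ * m)) := by rw [h1]; group
      _ = _ := by rw [h4]; group
  refine ⟨h, hy.sq, hy.conj_t, hF, ?_⟩
  intro m hm hm0
  have hdv := hd.dd_v h
  have hdw := hd.dd_w h
  have hdvw := hd.dd_vw h
  generalize dd C.S v w a b = d at *
  have c1 : Commute y (d : G) := hyd
  rcases three_cases h.hv h.hw0 h.add_ne hm hm0 with ⟨h1, h2⟩ | ⟨h1, h2⟩
  · have h3 : d⁻¹ * m ∈ FU C.S (pl v w) := by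
      apply mem_FU_pl
      · rw [C.S.ρ_mul, h1]
        apply C.S.ρ_inj d
        rw [C.S.ρ_apply_inv, hdv]
      · rw [C.S.ρ_mul, h2]
        apply C.S.ρ_inj d
        rw [C.S.ρ_apply_inv, hdw]
    have c2 : Commute y ((d⁻¹ * m : C.L) : G) := hF _ h3
    have c3 := c1.mul_right c2
    have e : (d : G) * ((d⁻¹ * m : C.L) : G) = m := by
      change (d : G) * ((d : G)⁻¹ * m) = m
      group
    rw [e] at c3
    exact c3.eq
  · have h3 : d * m ∈ FU C.S (pl v w) := by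
      apply mem_FU_pl
      · rw [C.S.ρ_mul, h1, hdvw]
      · rw [C.S.ρ_mul, h2, hdv]
    have c2 : Commute y ((d * m : C.L) : G) := hF _ h3
    have c3 := c1.inv_right.mul_right c2
    have e : (d : G)⁻¹ * ((d * m : C.L) : G) = m := by
      change (d : G)⁻¹ * ((d : G) * m) = m
      group
    rw [e] at c3
    exact c3.eq

/-- **existence of `y_ℓ`** for every totally isotropic line -/
theorem exists_x [Finite G] (C : Ctx G V)
    (hs : ∃ g v w, IsLn C.S v w ∧ g * C.t * g⁻¹ = C.t * (q C.S v w 0 : C.L)) (h : IsLn C.S v w) :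
    ∃ y, IsX C v w y := by
  have hfinV := C.finV
  obtain ⟨g, v', w', h', hg⟩ := hs
  have hpre : ∀ a b : V, IsLn C.S a b → ∃ y c d, IsPre2 C a b y ∧ Dual C.S a b c d ∧
      y * (dd C.S a b c d : C.L) = (dd C.S a b c d : C.L) * y := by
    intro a b hab
    obtain ⟨n, hn, hn'⟩ := start_short C h'.hv h'.hvw h'.hw ⟨g, hg⟩ hab.hv hab.hvw hab.hw
    obtain ⟨n1, hn1⟩ := exists_NrmA hab (nrm_pl hab hn hn')
    obtain ⟨n2, hn2⟩ := hn1.exists_NrmB
    obtain ⟨n3, hn3⟩ := hn2.exists_NrmC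
    obtain ⟨c, d, hd⟩ := hab.exists_Dual
    obtain ⟨y, hy, hyd⟩ := exists_pre hn3 hd
    exact ⟨y, c, d, ⟨hy, fun x hx => hy.exists_e hd hyd hx⟩, hd, hyd⟩
  obtain ⟨y, c, d, hy, hd, hyd⟩ := hpre v w h
  exact ⟨y, hy.pre.isX hd hyd fun x hx => hy.comm_b (fun a b hab => by
    obtain ⟨y', _, _, hy', _, _⟩ := hpre a b hab
    exact ⟨y', hy'⟩) hx⟩

namespace IsX

theorem pre {y : G} (hy : IsX C v w y) : IsPre C v w y :=
  ⟨hy.ln, hy.sq, hy.conj_t, fun x hx => hy.comm x (QU_le_FU C.S hx)⟩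

theorem comm_b {y : G} (hy : IsX C v w y) {x : V} (hx : x ∈ perp C.S (pl v w)) : y * C.b x = C.b x * y :=
  hy.comm _ fun u hu => by rw [C.S.hτ, C.S.symm, hx u hu, zero_smul, add_zero]

theorem unique {y y' : G} (hy : IsX C v w y) (hy' : IsX C v w y') :
    ∃ e : ZMod 2, y' = y * (q C.S v (e • w) 0 : C.L) := by
  have hfinV := C.finV
  have h := hy.ln
  obtain ⟨a, ha, haa⟩ := hy.pre.unique hy'.pre
  obtain ⟨c, d, hd⟩ := h.exists_Dual
  have hdP := hd.dd_mem h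
  have hd0 : ∀ u ∈ pl v w, u ≠ 0 → C.S.ρ (dd C.S v w c d) u ≠ u := fun u hu hu0 => hd.dd_ne h hu hu0
  have k1 : Commute y ((dd C.S v w c d : C.L) : G) := hy.comm3 _ hdP hd0
  have k2 : Commute y' ((dd C.S v w c d : C.L) : G) := hy'.comm3 _ hdP hd0
  have h4 : (a : G) = y * y' := by rw [haa, ← mul_assoc, hy.sq, one_mul]
  have c7 : dd C.S v w c d * a = a * dd C.S v w c d := by
    apply Subtype.ext
    change ((dd C.S v w c d : C.L) : G) * a = a * (dd C.S v w c d : C.L)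
    rw [h4]
    exact (k1.symm.mul_right k2.symm).eq
  obtain ⟨e, he⟩ := h.sp_of_commute hdP hd0 ha c7
  exact ⟨e, by rw [haa, he]⟩

theorem of_mem {y : G} (hy : IsX C v w y) {a b : V} (ha : a ∈ pl v w) (hb : b ∈ pl v w) (ha0 : a ≠ 0)
    (hab : b ∉ SpTwo.ln a) : IsX C a b y := by
  have h1 := hy.ln.pl_eq_of_mem ha hb ha0 hab
  have h2 := hy.ln.q_of_mem ha hb ha0 hab
  refine ⟨hy.ln.of_mem ha hb ha0 hab, hy.sq, by rw [h2]; exact hy.conj_t, ?_, ?_⟩
  · rw [h1]; exact hy.comm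
  · rw [h1]; exact hy.comm3

theorem mul_sp {y : G} (hy : IsX C v w y) (e : ZMod 2) : IsX C v w (y * (q C.S v (e • w) 0 : C.L)) := by
  have hfinV := C.finV
  have h := hy.ln
  rcases z2 e with rfl | rfl
  · rw [zero_smul, q_zero]
    change IsX C v w (y * 1)
    rwa [mul_one]
  rw [one_smul]
  have hs : ((q C.S v w 0 : C.L) : G) * (q C.S v w 0 : C.L) = 1 := congrArg Subtype.val (q_sq C.S h.hwv 0)
  have hys := hy.pre.comm_s
  have hst := t_comm C (q C.S v w 0)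
  have hmem : q C.S v w 0 ∈ AU C.S (pl v w) := by
    have := h.sp_mem 1
    rwa [one_smul] at this
  refine ⟨h, ?_, ?_, ?_, ?_⟩
  · calc y * (q C.S v w 0 : C.L) * (y * (q C.S v w 0 : C.L)) = y * ((q C.S v w 0 : C.L) * y) * (q C.S v w 0 : C.L) := by
          group
      _ = (y * y) * ((q C.S v w 0 : C.L) * (q C.S v w 0 : C.L)) := by rw [← hys]; group
      _ = 1 := by rw [hy.sq, hs, one_mul]
  · calc y * (q C.S v w 0 : C.L) * C.t * (y * (q C.S v w 0 : C.L)) =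
          y * ((q C.S v w 0 : C.L) * C.t) * (y * (q C.S v w 0 : C.L)) := by group
      _ = (y * C.t) * ((q C.S v w 0 : C.L) * y) * (q C.S v w 0 : C.L) := by rw [hst]; group
      _ = (y * C.t * y) * ((q C.S v w 0 : C.L) * (q C.S v w 0 : C.L)) := by rw [← hys]; group
      _ = _ := by rw [hy.conj_t, hs, mul_one]
  · intro m hm
    have h1 : ((q C.S v w 0 : C.L) : G) * m = m * (q C.S v w 0 : C.L) := congrArg Subtype.val (AU_comm C.S hmem hm)
    rw [mul_assoc, h1, ← mul_assoc, hy.comm m hm, mul_assoc]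
  · intro m hm hm0
    have h1 : (m : G) * (q C.S v w 0 : C.L) = (q C.S v w 0 : C.L) * m :=
      congrArg Subtype.val ((commute_s_iff C.S h.hv h.hw h.hvw).2 hm)
    rw [mul_assoc, ← h1, ← mul_assoc, hy.comm3 m hm hm0, mul_assoc]

theorem conj_L {y : G} (hy : IsX C v w y) (m : C.L) :
    IsX C (C.S.ρ m v) (C.S.ρ m w) ((m : G) * y * (m : G)⁻¹) := by
  have hfinV := C.finV
  have h := hy.ln
  have hms' : (m : G) * (q C.S v w 0 : C.L) * (m : G)⁻¹ = (q C.S (C.S.ρ m v) (C.S.ρ m w) 0 : C.L) :=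
    congrArg Subtype.val (q_conj C.S m 0)
  have hmt : (m : G)⁻¹ * C.t * m = C.t := by
    rw [mul_assoc, ← t_comm, ← mul_assoc, inv_mul_cancel, one_mul]
  have hcomm : ∀ x : C.L, y * ((m⁻¹ * x * m : C.L) : G) = ((m⁻¹ * x * m : C.L) : G) * y →
      (m : G) * y * (m : G)⁻¹ * (x : G) = (x : G) * ((m : G) * y * (m : G)⁻¹) := by
    intro x h2
    have h2' : y * ((m : G)⁻¹ * x * m) = ((m : G)⁻¹ * x * m) * y := h2
    calc (m : G) * y * (m : G)⁻¹ * x = m * (y * ((m : G)⁻¹ * x * m)) * (m : G)⁻¹ := by group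
      _ = m * (((m : G)⁻¹ * x * m) * y) * (m : G)⁻¹ := by rw [h2']
      _ = _ := by group
  have hmul : ∀ (x : C.L) (u : V), C.S.ρ (m⁻¹ * x * m) u = C.S.ρ m⁻¹ (C.S.ρ x (C.S.ρ m u)) := by
    intro x u
    rw [C.S.ρ_mul, C.S.ρ_mul]
  refine ⟨h.map m, ?_, ?_, ?_, ?_⟩
  · calc (m : G) * y * (m : G)⁻¹ * ((m : G) * y * (m : G)⁻¹) = m * (y * y) * (m : G)⁻¹ := by group
      _ = 1 := by rw [hy.sq]; group
  · calc (m : G) * y * (m : G)⁻¹ * C.t * ((m : G) * y * (m : G)⁻¹) =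
        m * (y * ((m : G)⁻¹ * C.t * m) * y) * (m : G)⁻¹ := by group
      _ = (m : G) * C.t * (q C.S v w 0 : C.L) * (m : G)⁻¹ := by rw [hmt, hy.conj_t]; group
      _ = C.t * ((m : G) * (q C.S v w 0 : C.L) * (m : G)⁻¹) := by rw [t_comm]; group
      _ = _ := by rw [hms']
  · intro x hx
    apply hcomm
    apply hy.comm
    apply mem_FU_pl
    · rw [hmul, hx _ (left_mem_pl _ _), C.S.ρ_inv_apply]
    · rw [hmul, hx _ (right_mem_pl _ _), C.S.ρ_inv_apply]
  · intro x hx hx0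
    apply hcomm
    have hback : ∀ u ∈ pl (C.S.ρ m v) (C.S.ρ m w), C.S.ρ m⁻¹ u ∈ pl v w := by
      intro u hu
      have := map_pl (D := C.S) m⁻¹ hu
      rwa [C.S.ρ_inv_apply, C.S.ρ_inv_apply] at this
    apply hy.comm3
    · apply mem_PU_pl
      · rw [hmul]; exact hback _ ((hx _).2 (left_mem_pl _ _))
      · rw [hmul]; exact hback _ ((hx _).2 (right_mem_pl _ _))
    · intro u hu hu0 h1
      refine hx0 _ (map_pl m hu) (fun h2 => hu0 (C.S.ρ_inj m (by rw [h2, map_zero]))) ?_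
      apply C.S.ρ_inj m⁻¹
      rw [C.S.ρ_inv_apply, ← hmul, h1]

end IsX

/-- **one `δ`**: the elements inducing a transposition on `ℓ` map `y_ℓ` to `y_ℓ s_ℓ^δ` -/
theorem exists_delta (C : Ctx G V) : ∃ δ : ZMod 2, ∀ a b y, IsX C a b y → ∀ m : C.L, C.S.ρ m a = a →
    C.S.ρ m b = a + b → (m : G) * y * (m : G)⁻¹ = y * (q C.S a (δ • b) 0 : C.L) := by
  have hfinV := C.finV
  by_cases hex : ∃ a b y, IsX C a b y
  swap
  · exact ⟨0, fun a b y hy => absurd ⟨a, b, y, hy⟩ hex⟩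
  obtain ⟨a0, b0, y0, hy0⟩ := hex
  have h0 := hy0.ln
  obtain ⟨m0, hm0, hm0'⟩ := trans_pl C.S h0.hv h0.hw h0.hvw h0.right_add.hv h0.right_add.hw h0.right_add.hvw
  have h1 := hy0.conj_L m0
  rw [hm0, hm0'] at h1
  have h2 : IsX C a0 b0 ((m0 : G) * y0 * (m0 : G)⁻¹) :=
    h1.of_mem (left_mem_pl _ _) (by
      have := add_mem (left_mem_pl a0 (a0 + b0)) (right_mem_pl a0 (a0 + b0))
      rwa [aac] at this) h0.hv h0.hw
  obtain ⟨δ, hδ⟩ := hy0.unique h2
  refine ⟨δ, fun a b y hy m hma hmb => ?_⟩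
  have h := hy.ln
  obtain ⟨g, hga, hgb⟩ := trans_pl C.S h0.hv h0.hw h0.hvw h.hv h.hw h.hvw
  have h3 := hy0.conj_L g
  rw [hga, hgb] at h3
  obtain ⟨e, he⟩ := h3.unique hy
  set m' := g * m0 * g⁻¹ with hm'
  have hm'a : C.S.ρ m' a = a := by
    rw [hm', C.S.ρ_mul, C.S.ρ_mul, ← hga, C.S.ρ_inv_apply, hm0]
  have hm'b : C.S.ρ m' b = a + b := by
    rw [hm', C.S.ρ_mul, C.S.ρ_mul, ← hgb, C.S.ρ_inv_apply, hm0', map_add, hga, hgb]
  have hm'P : m' ∈ PU C.S (pl a b) := by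
    apply mem_PU_pl
    · rw [hm'a]; exact left_mem_pl _ _
    · rw [hm'b]; exact add_mem (left_mem_pl _ _) (right_mem_pl _ _)
  have hk : m * m'⁻¹ ∈ FU C.S (pl a b) := by
    have e1 : C.S.ρ m'⁻¹ a = a := by
      apply C.S.ρ_inj m'
      rw [C.S.ρ_apply_inv, hm'a]
    have e2 : C.S.ρ m'⁻¹ b = a + b := by
      apply C.S.ρ_inj m'
      rw [C.S.ρ_apply_inv, map_add, hm'a, hm'b, aac]
    apply mem_FU_pl
    · rw [C.S.ρ_mul, e1, hma]
    · rw [C.S.ρ_mul, e2, map_add, hma, hmb, aac]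
  -- the conjugate by `m'`
  have hsp : ∀ f : ZMod 2, (m' : G) * (q C.S a (f • b) 0 : C.L) * (m' : G)⁻¹ = (q C.S a (f • b) 0 : C.L) := by
    intro f
    rcases z2 f with rfl | rfl
    · rw [zero_smul, q_zero]
      change (m' : G) * 1 * (m' : G)⁻¹ = 1
      group
    · rw [one_smul]
      have : m' * q C.S a b 0 * m'⁻¹ = q C.S a b 0 := by
        rw [(commute_s_iff C.S h.hv h.hw h.hvw).2 hm'P, mul_inv_cancel_right]
      exact congrArg Subtype.val this
  have hgs : (g : G) * (q C.S a0 (δ • b0) 0 : C.L) * (g : G)⁻¹ = (q C.S a (δ • b) 0 : C.L) := by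
    have : g * q C.S a0 (δ • b0) 0 * g⁻¹ = q C.S a (δ • b) 0 := by
      rw [q_conj, hga, map_smul, hgb]
    exact congrArg Subtype.val this
  have h4 : (m' : G) * y * (m' : G)⁻¹ = y * (q C.S a (δ • b) 0 : C.L) := by
    have e1 : (m' : G) = g * m0 * (g : G)⁻¹ := rfl
    calc (m' : G) * y * (m' : G)⁻¹ = (m' : G) * ((g : G) * y0 * (g : G)⁻¹) * (m' : G)⁻¹ *
          ((m' : G) * (q C.S a (e • b) 0 : C.L) * (m' : G)⁻¹) := by rw [he]; group
      _ = (g : G) * ((m0 : G) * y0 * (m0 : G)⁻¹) * (g : G)⁻¹ * (q C.S a (e • b) 0 : C.L) := by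
          rw [hsp, e1]; group
      _ = (g : G) * y0 * (g : G)⁻¹ * ((g : G) * (q C.S a0 (δ • b0) 0 : C.L) * (g : G)⁻¹) *
          (q C.S a (e • b) 0 : C.L) := by rw [hδ]; group
      _ = (g : G) * y0 * (g : G)⁻¹ * ((q C.S a (δ • b) 0 : C.L) * (q C.S a (e • b) 0 : C.L)) := by
          rw [hgs]; group
      _ = (g : G) * y0 * (g : G)⁻¹ * ((q C.S a (e • b) 0 : C.L) * (q C.S a (δ • b) 0 : C.L)) := by
          have : q C.S a (δ • b) 0 * q C.S a (e • b) 0 = q C.S a (e • b) 0 * q C.S a (δ • b) 0 := by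
            rw [h.sp_add, h.sp_add, add_comm]
          have this' : ((q C.S a (δ • b) 0 : C.L) : G) * (q C.S a (e • b) 0 : C.L) =
            (q C.S a (e • b) 0 : C.L) * (q C.S a (δ • b) 0 : C.L) := congrArg Subtype.val this
          rw [this']
      _ = _ := by rw [he]; group
  have h5 : Commute ((m * m'⁻¹ : C.L) : G) y := (hy.comm _ hk).symm
  have h6 : Commute ((m * m'⁻¹ : C.L) : G) ((q C.S a (δ • b) 0 : C.L) : G) := by
    have := AU_comm C.S (h.sp_mem δ) hk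
    exact (congrArg Subtype.val this.symm)
  have h7 := (h5.mul_right h6).eq
  have e1 : ((m * m'⁻¹ : C.L) : G) = m * (m' : G)⁻¹ := rfl
  rw [e1] at h7
  calc (m : G) * y * (m : G)⁻¹ = (m * (m' : G)⁻¹) * ((m' : G) * y * (m' : G)⁻¹) * (m * (m' : G)⁻¹)⁻¹ := by group
    _ = (m * (m' : G)⁻¹) * (y * (q C.S a (δ • b) 0 : C.L)) * (m * (m' : G)⁻¹)⁻¹ := by rw [h4]
    _ = _ := by rw [h7]; group

end Cfsg.Agent.OddHalf.SpTwo
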