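import Cfsg.Agent.OddHalf.SpTwo.LongOut

/-!
# The unipotent radical of the stabilizer of a totally isotropic line

`AU D U` : pointwise stabilizer of `U^⊥`; `FU D U` : pointwise stabilizer of `U`.
-/

set_option autoImplicit false
set_option linter.unusedSimpArgs false
set_option linter.unusedSectionVars false

open scoped commutatorElement

namespace Cfsg.Agent.OddHalf.SpTwo

open Cfsg.Agent.StandardComponent.SpTwo

variable {X V : Type*} [Group X] [AddCommGroup V] [Module (ZMod 2) V] (D : SpData X V)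

/-- pointwise stabilizer of `U` -/
def FU (U : Submodule (ZMod 2) V) : Subgroup X where
  carrier := {g | ∀ u ∈ U, D.ρ g u = u}
  one_mem' := fun u _ => D.ρ_one u
  mul_mem' := fun {a b} ha hb u hu => by rw [D.ρ_mul, hb u hu, ha u hu]
  inv_mem' := fun {a} ha u hu => by
    have := D.ρ_inv_apply a u
    rwa [ha u hu] at this

/-- pointwise stabilizer of `U^⊥` -/
def AU (U : Submodule (ZMod 2) V) : Subgroup X := FU D (perp D U)

theorem mem_FU {U : Submodule (ZMod 2) V} {g : X} : g ∈ FU D U ↔ ∀ u ∈ U, D.ρ g u = u := Iff.rfl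

theorem mem_AU {U : Submodule (ZMod 2) V} {g : X} : g ∈ AU D U ↔ ∀ u ∈ perp D U, D.ρ g u = u := Iff.rfl

theorem FU_le_PU {U : Submodule (ZMod 2) V} : FU D U ≤ PU D U := by
  intro g hg u
  refine ⟨fun hu => ?_, fun hu => by rw [hg u hu]; exact hu⟩
  have h1 := (inv_mem hg : g⁻¹ ∈ FU D U) _ hu
  rw [D.ρ_inv_apply] at h1
  rw [h1]; exact hu

theorem QU_le_FU {U : Submodule (ZMod 2) V} : QU D U ≤ FU D U := fun _ hg => hg.1

theorem AU_le_QU {U : Submodule (ZMod 2) V} (hU : U ≤ perp D U) : AU D U ≤ QU D U := by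
  intro g hg
  refine ⟨fun u hu => hg u (hU hu), fun x hx => ?_⟩
  rw [hg x hx, aa]; exact zero_mem _

theorem AU_apply [Finite V] {U : Submodule (ZMod 2) V} {g : X} (hg : g ∈ AU D U) (x : V) :
    D.ρ g x + x ∈ U := by
  apply mem_of_perp D
  intro z hz
  have h1 := D.inv g z x
  rw [hg z hz] at h1
  rw [map_add, h1, z2_add]

theorem FU_apply {U : Submodule (ZMod 2) V} {g : X} (hg : g ∈ FU D U) (x : V) :
    D.ρ g x + x ∈ perp D U := by
  intro u hu
  have h1 := D.inv g x u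
  rw [hg u hu] at h1
  rw [B_add, h1, z2_add]

/-- `A_U` commutes with the pointwise stabilizer of `U` -/
theorem AU_comm [Finite V] {U : Submodule (ZMod 2) V} {a m : X} (ha : a ∈ AU D U) (hm : m ∈ FU D U) :
    a * m = m * a := by
  apply D.ext_iff
  intro x
  rw [D.ρ_mul, D.ρ_mul]
  have h1 : D.ρ a x = x + (D.ρ a x + x) := by rw [add_comm (D.ρ a x), aac]
  have h2 : D.ρ m x = x + (D.ρ m x + x) := by rw [add_comm (D.ρ m x), aac]
  have h3 : D.ρ a (D.ρ m x) = D.ρ a x + (D.ρ m x + x) := by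
    nth_rewrite 1 [h2]
    rw [map_add, ha _ (FU_apply D hm x)]
  have h4 : D.ρ m (D.ρ a x) = D.ρ m x + (D.ρ a x + x) := by
    nth_rewrite 1 [h1]
    rw [map_add, hm _ (AU_apply D ha x)]
  rw [h3, h4]
  abel

theorem AU_sq [Finite V] {U : Submodule (ZMod 2) V} (hU : U ≤ perp D U) {a : X} (ha : a ∈ AU D U) :
    a * a = 1 := by
  apply D.ext_iff
  intro x
  have h1 : D.ρ a x = x + (D.ρ a x + x) := by rw [add_comm (D.ρ a x), aac]
  rw [D.ρ_mul, D.ρ_one]
  nth_rewrite 1 [h1]
  rw [map_add, ha _ (hU (AU_apply D ha x)), add_comm (D.ρ a x) x, ← add_assoc, add_comm (D.ρ a x) x,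
    aab]

theorem AU_conj {U : Submodule (ZMod 2) V} {g x : X} (hg : g ∈ PU D U) (hx : x ∈ AU D U) :
    g * x * g⁻¹ ∈ AU D U := by
  intro y hy
  rw [D.ρ_mul, D.ρ_mul, hx _ (PU_perp D (inv_mem hg) hy), D.ρ_apply_inv]

theorem τ_mem_AU {U : Submodule (ZMod 2) V} {u : V} (hu : u ∈ U) : D.τ u ∈ AU D U := by
  intro x hx
  rw [D.hτ, hx u hu, zero_smul, add_zero]

/-! ### lines -/

variable {D}

/-- basis of a t.i. line -/
structure IsLn (D : SpData X V) (v w : V) : Prop where
  hv : v ≠ 0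
  hw : w ∉ ln v
  hvw : D.B v w = 0

namespace IsLn

variable {v w : V} (h : IsLn D v w)
include h

theorem hwv : D.B w v = 0 := by rw [D.symm]; exact h.hvw

theorem hv' : v ∉ ln w := by
  rw [mem_ln]
  rintro (h1 | h1)
  · exact h.hv h1
  · exact h.hw (by rw [h1]; exact self_mem_ln _)

theorem hw0 : w ≠ 0 := ne_zero_of_notMem h.hw

theorem symm : IsLn D w v := ⟨h.hw0, h.hv', h.hwv⟩

theorem ti : pl v w ≤ perp D (pl v w) := pl_ti D h.hvw

theorem pl_symm : pl w v = pl v w := pl_comm w v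

theorem add_ne : v + w ≠ 0 := fun h1 => h.hw (by rw [← eq_of_add _ _ h1]; exact self_mem_ln v)

theorem add_notMem : v + w ∉ ln v := fun h1 => h.hw (by
  have := add_mem (self_mem_ln v) h1
  rwa [aac] at this)

theorem right_add : IsLn D v (v + w) := ⟨h.hv, h.add_notMem, by rw [map_add, D.alt, h.hvw, add_zero]⟩

theorem of_mem {a b : V} (ha : a ∈ pl v w) (hb : b ∈ pl v w) (ha0 : a ≠ 0) (hab : b ∉ ln a) :
    IsLn D a b := ⟨ha0, hab, h.ti ha b hb⟩

theorem pl_eq_of_mem {a b : V} (ha : a ∈ pl v w) (hb : b ∈ pl v w) (ha0 : a ≠ 0) (hab : b ∉ ln a) :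
    pl a b = pl v w := by
  apply le_antisymm
  · intro x hx
    rcases mem_pl.1 hx with rfl | rfl | rfl | rfl
    · exact zero_mem _
    · exact ha
    · exact hb
    · exact add_mem ha hb
  · intro x hx
    have hb0 : b ≠ 0 := ne_zero_of_notMem hab
    have hne : b ≠ a := fun h => hab (by rw [h]; exact self_mem_ln a)
    rw [mem_pl] at hx ha hb ⊢
    rcases hx with hx | hx | hx | hx <;> rcases ha with ha | ha | ha | ha <;>
      rcases hb with hb | hb | hb | hb <;>
      first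
      | exact absurd ha ha0
      | exact absurd hb hb0
      | exact absurd (hb.trans ha.symm) hne
      | (rw [hx, ha, hb]; left; rfl)
      | (rw [hx, ha, hb]; right; left; rfl)
      | (rw [hx, ha, hb]; right; right; left; rfl)
      | (rw [hx, ha, hb]; right; right; right; rfl)
      | (rw [hx, ha, hb]; right; right; right; exact (aac _ _).symm)
      | (rw [hx, ha, hb]; right; right; right; exact add_comm _ _)
      | (rw [hx, ha, hb]; right; right; right; rw [add_comm v w, aac])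
      | (rw [hx, ha, hb]; right; right; right; rw [add_comm v w, aab])
      | (rw [hx, ha, hb]; right; right; right; rw [aab])

theorem q_symm : q D w v 0 = q D v w 0 := by
  apply q_pl D h.hvw (right_mem_pl v w) (left_mem_pl v w) h.hw0 h.hv'

theorem q_of_mem {a b : V} (ha : a ∈ pl v w) (hb : b ∈ pl v w) (ha0 : a ≠ 0) (hab : b ∉ ln a) :
    q D a b 0 = q D v w 0 := q_pl D h.hvw ha hb ha0 hab

/-- dual basis -/
theorem exists_dual [Finite V] : ∃ v' w' : V, D.B v' v = 1 ∧ D.B v' w = 0 ∧ D.B w' v = 0 ∧ D.B w' w = 1 := by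
  obtain ⟨w', hw', hww⟩ := sep D h.hw
  obtain ⟨v', hv', hvv⟩ := sep D h.hv'
  exact ⟨v', w', hvv, (mem_perp_ln D).1 hv', (mem_perp_ln D).1 hw', hww⟩

theorem ext_dual {v' w' : V} (h1 : D.B v' v = 1) (h2 : D.B v' w = 0) (h3 : D.B w' v = 0) (h4 : D.B w' w = 1)
    {g k : X} (h0 : ∀ z ∈ perp D (pl v w), D.ρ g z = D.ρ k z) (hv : D.ρ g v' = D.ρ k v')
    (hw : D.ρ g w' = D.ρ k w') : g = k := by
  apply D.ext_iff
  intro x
  have hz : x + D.B x v • v' + D.B x w • w' ∈ perp D (pl v w) := by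
    rw [mem_perp_pl]
    constructor
    · rw [B_add, B_add, map_smul, LinearMap.smul_apply, map_smul, LinearMap.smul_apply, h1, h3, smul_zero,
        add_zero, smul_eq_mul, mul_one, z2_add]
    · rw [B_add, B_add, map_smul, LinearMap.smul_apply, map_smul, LinearMap.smul_apply, h2, h4, smul_zero,
        add_zero, smul_eq_mul, mul_one, z2_add]
  have h5 := h0 _ hz
  rw [map_add, map_add, map_add, map_add, map_smul, map_smul, map_smul, map_smul, hv, hw] at h5
  exact add_right_cancel (add_right_cancel h5)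

/-- `q v x e ∈ Q_ℓ` -/
theorem qv_mem {x : V} (hx : x ∈ perp D (pl v w)) (e : ZMod 2) : q D v x e ∈ QU D (pl v w) :=
  q_left_mem_QU_pl D h.hw h.hvw hx e

theorem qw_mem {x : V} (hx : x ∈ perp D (pl v w)) (e : ZMod 2) : q D w x e ∈ QU D (pl v w) :=
  q_mem_QU_pl D h.hw h.hvw hx e

/-- powers of `s` -/
theorem sp_mem (f : ZMod 2) : q D v (f • w) 0 ∈ AU D (pl v w) := by
  intro x hx
  rw [mem_perp_pl] at hx
  have h1 : D.B (f • w) v = 0 := by rw [map_smul, LinearMap.smul_apply, h.hwv, smul_zero]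
  rw [q_apply D h1, hx.1, map_smul, hx.2]; simp

theorem ac_mem (a b c : ZMod 2) : q D v (b • w) a * q D w 0 c ∈ AU D (pl v w) := by
  have hz : ∀ (u : V) (c : ZMod 2), u ∈ pl v w → q D u 0 c ∈ AU D (pl v w) := by
    intro u c hu
    rcases z2 c with rfl | rfl
    · rw [q_zero]; exact one_mem _
    · rw [q_zero_one]; exact τ_mem_AU D hu
  have h1 : D.B (b • w) v = 0 := by rw [map_smul, LinearMap.smul_apply, h.hwv, smul_zero]
  have h2 : q D v (b • w) a = q D v (b • w) 0 * q D v 0 a := by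
    rw [q_mul D h1 (B_zero D v), map_zero]; simp
  rw [h2]
  exact mul_mem (mul_mem (h.sp_mem b) (hz v a (left_mem_pl v w))) (hz w c (right_mem_pl v w))

/-- the elements of `A_ℓ` -/
theorem mem_AU_pl [Finite V] {g : X} (hg : g ∈ AU D (pl v w)) :
    ∃ a b c : ZMod 2, g = q D v (b • w) a * q D w 0 c := by
  obtain ⟨v', w', h1, h2, h3, h4⟩ := h.exists_dual
  have hvv' : D.B v v' = 1 := by rw [D.symm]; exact h1
  have hwv' : D.B w v' = 0 := by rw [D.symm]; exact h2
  have hvw' : D.B v w' = 0 := by rw [D.symm]; exact h3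
  have hww' : D.B w w' = 1 := by rw [D.symm]; exact h4
  have key : ∀ x ∈ pl v w, ∃ a b : ZMod 2, x = a • v + b • w := by
    intro x hx
    rcases mem_pl.1 hx with rfl | rfl | rfl | rfl
    · exact ⟨0, 0, by simp⟩
    · exact ⟨1, 0, by simp⟩
    · exact ⟨0, 1, by simp⟩
    · exact ⟨1, 1, by simp⟩
  obtain ⟨a, b, hab⟩ := key _ (AU_apply D hg v')
  obtain ⟨b', c, hbc⟩ := key _ (AU_apply D hg w')
  have e1 : D.ρ g v' = v' + (a • v + b • w) := by rw [← hab, add_comm (D.ρ g v'), aac]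
  have e2 : D.ρ g w' = w' + (b' • v + c • w) := by rw [← hbc, add_comm (D.ρ g w'), aac]
  have hbb : b' = b := by
    have h5 := D.inv g v' w'
    rw [e1, e2] at h5
    simp only [map_add, LinearMap.add_apply, map_smul, LinearMap.smul_apply, smul_eq_mul, D.alt, h1, h2, h3, h4,
      hvv', hwv', hvw', hww', h.hvw, h.hwv, mul_zero, add_zero, zero_add, mul_one] at h5
    have fin : ∀ k b b' : ZMod 2, k + b + b' = k → b' = b := by decide
    exact fin _ _ _ h5
  subst hbb
  refine ⟨a, b', c, ?_⟩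
  have hbv : D.B (b' • w) v = 0 := by rw [map_smul, LinearMap.smul_apply, h.hwv, smul_zero]
  apply h.ext_dual h1 h2 h3 h4
  · intro z hz
    rw [hg z hz, h.ac_mem a b' c z hz]
  · rw [e1, D.ρ_mul, q_apply D (B_zero D w), q_apply D hbv, h2]
    simp only [map_zero, zero_smul, mul_zero, add_zero, map_smul, h2, h1, smul_eq_mul, mul_one, one_smul, zero_add]
    abel
  · rw [e2, D.ρ_mul, q_apply D (B_zero D w), q_apply D hbv, h4]
    simp only [map_zero, zero_smul, mul_zero, add_zero, map_smul, h4, h3, smul_eq_mul, mul_one, one_smul, zero_add,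
      B_add, LinearMap.smul_apply, LinearMap.add_apply, h.hwv, D.alt, map_add]
    abel

/-- the elements of `Q_ℓ` -/
theorem mem_QU_pl [Finite V] {g : X} (hg : g ∈ QU D (pl v w)) :
    ∃ a b, a ∈ perp D (pl v w) ∧ b ∈ perp D (pl v w) ∧ ∃ k ∈ AU D (pl v w), g = q D v a 0 * q D w b 0 * k := by
  obtain ⟨v', w', h1, h2, h3, h4⟩ := h.exists_dual
  have hmem : ∀ u, D.ρ g⁻¹ u + u ∈ perp D (pl v w) := fun u =>
    FU_apply D (inv_mem (QU_le_FU D hg)) u
  refine ⟨D.ρ g⁻¹ v' + v', D.ρ g⁻¹ w' + w', hmem v', hmem w', _, ?_,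
    (mul_inv_cancel_left (q D v (D.ρ g⁻¹ v' + v') 0 * q D w (D.ρ g⁻¹ w' + w') 0) g).symm⟩
  set a := D.ρ g⁻¹ v' + v' with ha
  set b := D.ρ g⁻¹ w' + w' with hb
  have hva : D.B a v = 0 := ((mem_perp_pl D).1 (hmem v')).1
  have hvb : D.B b w = 0 := ((mem_perp_pl D).1 (hmem w')).2
  -- coefficients of `ρ g z + z`
  have key : ∀ x ∈ pl v w, x = D.B x v' • v + D.B x w' • w := by
    intro x hx
    have hvv' : D.B v v' = 1 := by rw [D.symm]; exact h1
    have hwv' : D.B w v' = 0 := by rw [D.symm]; exact h2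
    have hvw' : D.B v w' = 0 := by rw [D.symm]; exact h3
    have hww' : D.B w w' = 1 := by rw [D.symm]; exact h4
    rcases mem_pl.1 hx with rfl | rfl | rfl | rfl
    · rw [B_zero, B_zero]; simp
    · rw [hvv', hvw']; simp
    · rw [hwv', hww']; simp
    · rw [B_add, B_add, hvv', hvw', hwv', hww']; simp
  have hB : ∀ z u, D.B (D.ρ g z + z) u = D.B z (D.ρ g⁻¹ u + u) := by
    intro z u
    rw [B_add, D.inv_left, map_add]
  intro z hz
  have hgz : D.ρ g z = z + (D.B z a • v + D.B z b • w) := by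
    have h5 := key _ (hg.2 z hz)
    rw [hB, hB] at h5
    rw [← h5, add_comm (D.ρ g z), aac]
  have hz' := (mem_perp_pl D).1 hz
  have hk : D.ρ (q D v a 0 * q D w b 0) z = z + (D.B z a • v + D.B z b • w) := by
    rw [D.ρ_mul, q_apply D hvb, q_apply D hva]
    have hwa : D.B w a = 0 := by rw [D.symm]; exact ((mem_perp_pl D).1 (hmem v')).2
    simp only [map_add, LinearMap.add_apply, map_smul, LinearMap.smul_apply, hz'.1, hz'.2, hwa, h.hwv, smul_zero,
      zero_smul, mul_zero, add_zero, zero_add]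
    abel
  rw [D.ρ_mul, hgz, ← hk, D.ρ_inv_apply]

/-- commutators in `Q_ℓ` -/
theorem conj_qv {x y : V} (hx : x ∈ perp D (pl v w)) (hy : y ∈ perp D (pl v w)) (e e' : ZMod 2) :
    q D w y e' * q D v x e * (q D w y e')⁻¹ = q D v x e * q D v (D.B x y • w) 0 := by
  have hx' := (mem_perp_pl D).1 hx
  have hy' := (mem_perp_pl D).1 hy
  have hvy : D.B v y = 0 := by rw [D.symm]; exact hy'.1
  have h1 : D.ρ (q D w y e') v = v := by rw [q_apply D hy'.2, hvy, h.hvw]; simp
  have h2 : D.ρ (q D w y e') x = x + D.B x y • w := by rw [q_apply D hy'.2, hx'.2]; simp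
  have h3 : D.B (D.B x y • w) v = 0 := by rw [map_smul, LinearMap.smul_apply, h.hwv, smul_zero]
  rw [q_conj, h1, h2, q_mul D hx'.1 h3, map_smul, hx'.2]; simp

/-- the centralizer of `Q_ℓ` -/
theorem mem_AU_of_commute [Finite V] {g : X} (hgv : g * D.τ v = D.τ v * g) (hgw : g * D.τ w = D.τ w * g)
    (h1 : ∀ x ∈ perp D (pl v w), g * q D v x 0 = q D v x 0 * g)
    (h2 : ∀ x ∈ perp D (pl v w), g * q D w x 0 = q D w x 0 * g) : g ∈ AU D (pl v w) := by
  intro x hx
  have hx' := (mem_perp_pl D).1 hx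
  have e1 := (commute_τ_iff D).1 hgv
  have e2 := (commute_τ_iff D).1 hgw
  have h3 : D.ρ g x + x ∈ ln v := by
    have h4 := q_conj D g (v := v) (u := x) 0
    rw [h1 x hx, mul_inv_cancel_right, e1] at h4
    have h5 : D.B (D.ρ g x) v = 0 := by rw [← e1, D.inv, hx'.1]
    exact (q_inj D h.hv h5 hx'.1 h4.symm).1
  have h3' : D.ρ g x + x ∈ ln w := by
    have h4 := q_conj D g (v := w) (u := x) 0
    rw [h2 x hx, mul_inv_cancel_right, e2] at h4
    have h5 : D.B (D.ρ g x) w = 0 := by rw [← e2, D.inv, hx'.2]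
    exact (q_inj D h.hw0 h5 hx'.2 h4.symm).1
  rcases mem_ln.1 h3 with h4 | h4
  · exact eq_of_add _ _ h4
  · rw [h4] at h3'
    exact absurd h3' h.hv'

/-- `s_{v+w,x} = s_{v,x} s_{w,x}` -/
theorem q_add {x : V} (hx : x ∈ perp D (pl v w)) : q D (v + w) x 0 = q D v x 0 * q D w x 0 := by
  have hx' := (mem_perp_pl D).1 hx
  have h1 : D.B x (v + w) = 0 := by rw [map_add, hx'.1, hx'.2, add_zero]
  have hwx : D.B w x = 0 := by rw [D.symm]; exact hx'.2
  apply D.ext_iff
  intro z
  apply ext_B D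
  intro y
  rw [D.ρ_mul, q_apply D h1, q_apply D hx'.2, q_apply D hx'.1]
  simp only [map_add, LinearMap.add_apply, map_smul, LinearMap.smul_apply, smul_eq_mul, D.alt, h.hwv, hwx, hx'.1]
  generalize D.B z x = a1
  generalize D.B z v = a2
  generalize D.B z w = a3
  generalize D.B z y = a4
  generalize D.B v y = a5
  generalize D.B w y = a6
  generalize D.B x y = a7
  revert a1 a2 a3 a4 a5 a6 a7
  decide

end IsLn

end Cfsg.Agent.OddHalf.SpTwo
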