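import Cfsg.Agent.OddHalf.SpTwo.ShortA

/-!
# Existence of `y_ℓ` (short roots): the action on `Q_ℓ / A_ℓ`

If `g` centralises `A_ℓ` then `g s_{λ,x} g⁻¹ ∈ s_{λ,f x} A_ℓ` with an isometry `f` of `ℓ^⊥/ℓ`.
-/

set_option autoImplicit false
set_option linter.unusedSimpArgs false
set_option linter.unusedSectionVars false

open scoped commutatorElement

namespace Cfsg.Agent.OddHalf.SpTwo

open Cfsg.Agent.StandardComponent.SpTwo
open Cfsg.Agent.OddHalf.SpTwoN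

theorem q_act {X V : Type*} [Group X] [AddCommGroup V] [Module (ZMod 2) V] (D : SpData X V) {v x z : V}
    (hx : D.B x v = 0) (hz : D.B z v = 0) (e : ZMod 2) : D.ρ (q D v x e) z = z + D.B z x • v := by
  rw [q_apply D hx, hz]; simp

variable {G V : Type*} [Group G] [AddCommGroup V] [Module (ZMod 2) V] {C : Ctx G V}
variable {v w : V} {g : G}

namespace NrmA

theorem comm_AU (hN : NrmA C v w g) {a : C.L} (ha : a ∈ AU C.S (pl v w)) : g * (a : G) * g⁻¹ = a := by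
  have hfinV := C.finV
  obtain ⟨α, b, c, rfl⟩ := hN.ln.mem_AU_pl ha
  have h1 : C.S.B (b • w) v = 0 := by rw [map_smul, LinearMap.smul_apply, hN.ln.hwv, smul_zero]
  have h2 : q C.S v (b • w) α = q C.S v 0 α * q C.S v (b • w) 0 := by
    rw [q_mul C.S (B_zero C.S v) h1, B_zero]; simp
  have e1 : g * (q C.S v 0 α : C.L) * g⁻¹ = (q C.S v 0 α : C.L) := by
    rcases z2 α with rfl | rfl
    · rw [q_zero]
      change g * (1 : G) * g⁻¹ = 1
      group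
    · rw [q_zero_one]; exact hN.cv
  have e2 : g * (q C.S w 0 c : C.L) * g⁻¹ = (q C.S w 0 c : C.L) := by
    rcases z2 c with rfl | rfl
    · rw [q_zero]
      change g * (1 : G) * g⁻¹ = 1
      group
    · rw [q_zero_one]; exact hN.cw
  have e3 := sp_conj hN.ln hN.nrm b
  rw [h2]
  change g * (((q C.S v 0 α : C.L) : G) * (q C.S v (b • w) 0 : C.L) * (q C.S w 0 c : C.L)) * g⁻¹ =
    ((q C.S v 0 α : C.L) : G) * (q C.S v (b • w) 0 : C.L) * (q C.S w 0 c : C.L)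
  calc g * (((q C.S v 0 α : C.L) : G) * (q C.S v (b • w) 0 : C.L) * (q C.S w 0 c : C.L)) * g⁻¹ =
      (g * (q C.S v 0 α : C.L) * g⁻¹) * (g * (q C.S v (b • w) 0 : C.L) * g⁻¹) *
        (g * (q C.S w 0 c : C.L) * g⁻¹) := by group
    _ = _ := by rw [e1, e2, e3]

theorem comm_b (hN : NrmA C v w g) {a : V} (ha : a ∈ pl v w) : g * C.b a * g⁻¹ = C.b a :=
  hN.comm_AU (τ_mem_AU C.S ha)

theorem symm (hN : NrmA C v w g) : NrmA C w v g :=
  ⟨hN.ln.symm, hN.nrm.symm_pl hN.ln, hN.cw, hN.cv⟩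

theorem of_mem (hN : NrmA C v w g) {a b : V} (ha : a ∈ pl v w) (hb : b ∈ pl v w) (ha0 : a ≠ 0)
    (hab : b ∉ SpTwo.ln a) : NrmA C a b g :=
  ⟨hN.ln.of_mem ha hb ha0 hab, hN.nrm.of_mem_pl hN.ln ha hb ha0 hab, hN.comm_b ha, hN.comm_b hb⟩

theorem inv (hN : NrmA C v w g) : NrmA C v w g⁻¹ := by
  refine ⟨hN.ln, hN.nrm.inv, ?_, ?_⟩
  · rw [inv_inv]
    calc g⁻¹ * C.b v * g = g⁻¹ * (g * C.b v * g⁻¹) * g := by rw [hN.cv]
      _ = _ := by group
  · rw [inv_inv]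
    calc g⁻¹ * C.b w * g = g⁻¹ * (g * C.b w * g⁻¹) * g := by rw [hN.cw]
      _ = _ := by group

/-- the image of an element of the stabilizer acts on the line in the same way -/
theorem exists_PU (hN : NrmA C v w g) {m : C.L} (hm : m ∈ PU C.S (pl v w)) :
    ∃ k ∈ PU C.S (pl v w), (g * (m : G) * g⁻¹ = (k : G) ∨ g * (m : G) * g⁻¹ = C.t * (k : G)) ∧
      ∀ u ∈ pl v w, C.S.ρ k u = C.S.ρ m u := by
  obtain ⟨k, hk, hk'⟩ := hN.nrm.exists_PU hm
  refine ⟨k, hk, hk', fun u hu => ?_⟩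
  have h1 := conj_lift C hk' (C.S.τ u)
  have h2 : g * (m : G) * g⁻¹ * ((C.S.τ u : C.L) : G) * (g * (m : G) * g⁻¹)⁻¹ = (C.S.τ (C.S.ρ m u) : C.L) := by
    have e1 := hN.inv.comm_b hu
    rw [inv_inv] at e1
    have e2 := hN.comm_b ((hm u).2 hu)
    have e3 := C.b_conj m u
    calc g * (m : G) * g⁻¹ * C.b u * (g * (m : G) * g⁻¹)⁻¹ = g * (m * (g⁻¹ * C.b u * g) * (m : G)⁻¹) * g⁻¹ := by
          group
      _ = _ := by rw [e1, e3, e2]; rfl
  rw [h2, C.S.conj_τ] at h1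
  exact (C.S.τ_injective (Subtype.ext h1)).symm

/-- `g` normalises `X_v = {q v x e} A_ℓ` -/
theorem exists_X (hN : NrmA C v w g) {x : V} (hx : x ∈ perp C.S (pl v w)) :
    ∃ x' ∈ perp C.S (pl v w), ∃ a ∈ AU C.S (pl v w),
      g * (q C.S v x 0 : C.L) * g⁻¹ = ((q C.S v x' 0 * a : C.L) : G) := by
  have hfinV := C.finV
  have h := hN.ln
  have hx' := (mem_perp_pl C.S).1 hx
  obtain ⟨p, hp, hp'⟩ := exists_QF h hN.nrm (h.qv_mem hx 0)
  by_cases hX : ∀ z ∈ perp C.S (pl v w), C.S.ρ p z + z ∈ SpTwo.ln v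
  · obtain ⟨x', hx', a, ha, rfl⟩ := h.XU_struct hp hX
    exact ⟨x', hx', a, ha, hp'⟩
  exfalso
  have hX' := hX
  push Not at hX'
  obtain ⟨z0, hz0, hz0'⟩ := hX'
  have hxl : x ∉ pl v w := by
    intro hxl
    have h1 := hN.comm_AU (h.q_mem_AU hxl 0)
    have h2 : p = q C.S v x 0 := Subtype.ext (hp'.symm.trans h1)
    rw [h2, h.q_mem_AU hxl 0 z0 hz0, aa] at hz0'
    exact hz0' (zero_mem _)
  -- the element `m`
  obtain ⟨u, hu, huw⟩ := sep C.S h.hw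
  rw [mem_perp_ln] at hu
  have hvu : C.S.B v u = 0 := by rw [C.S.symm]; exact hu
  set m : C.L := q C.S v u 0 with hmdef
  have hmv : C.S.ρ m v = v := by rw [hmdef, q_apply C.S hu, hvu, C.S.alt]; simp
  have hmw : C.S.ρ m w = w + v := by rw [hmdef, q_apply C.S hu, h.hwv, C.S.symm w u, huw]; simp
  have hmm : m * m = 1 := q_sq C.S hu 0
  have hminv : m⁻¹ = m := q_inv C.S hu 0
  have hmP : m ∈ PU C.S (pl v w) := mem_PU_pl C.S (by rw [hmv]; exact left_mem_pl v w)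
    (by rw [hmw]; exact add_mem (right_mem_pl v w) (left_mem_pl v w))
  have hmz : ∀ z ∈ perp C.S (pl v w), C.S.ρ m z + z ∈ SpTwo.ln v := by
    intro z hz
    rw [hmdef, q_act C.S hu ((mem_perp_pl C.S).1 hz).1]
    have : z + C.S.B z u • v + z = C.S.B z u • v + (z + z) := by abel
    rw [this, aa, add_zero]
    exact Submodule.smul_mem _ _ (self_mem_ln v)
  obtain ⟨m0, hm0, hm0', hm0u⟩ := hN.inv.exists_PU hmP
  rw [inv_inv] at hm0'
  have hm0v : C.S.ρ m0 v = v := by rw [hm0u v (left_mem_pl v w), hmv]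
  set p1 := p * (m * p⁻¹ * m⁻¹) with hp1def
  have hp1 : p1 ∈ QU C.S (pl v w) := mul_mem hp (QU_conj C.S hmP (inv_mem hp))
  set x1 := x + C.S.ρ m0 x with hx1def
  have hm0x : C.S.ρ m0 x ∈ perp C.S (pl v w) := PU_perp C.S hm0 hx
  have hx1 : x1 ∈ perp C.S (pl v w) := add_mem hx hm0x
  have hx1' := (mem_perp_pl C.S).1 hx1
  set e1 := C.S.B x (C.S.ρ m0 x) with he1
  have hr : q C.S v x 0 * (m0 * (q C.S v x 0)⁻¹ * m0⁻¹) = q C.S v x1 e1 := by
    rw [q_inv C.S hx'.1, q_conj, hm0v, q_mul C.S hx'.1 ((mem_perp_pl C.S).1 hm0x).1]; simp [hx1def, he1]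
  have hΦr : g * (q C.S v x1 e1 : C.L) * g⁻¹ = (p1 : G) := by
    rw [← hr]
    have h1 := conj_lift C hm0' (q C.S v x 0)⁻¹
    change g * (((q C.S v x 0 : C.L) : G) * ((m0 * (q C.S v x 0)⁻¹ * m0⁻¹ : C.L) : G)) * g⁻¹ =
      (p : G) * ((m : G) * (p : G)⁻¹ * (m : G)⁻¹)
    rw [← h1, ← hp']
    change g * (((q C.S v x 0 : C.L) : G) * (g⁻¹ * (m : G) * g * ((q C.S v x 0 : C.L) : G)⁻¹ *
      (g⁻¹ * (m : G) * g)⁻¹)) * g⁻¹ = _
    group
  have hact : ∀ z ∈ perp C.S (pl v w), C.S.ρ p1 z + z = (C.S.ρ p z + z) + C.S.ρ m (C.S.ρ p z + z) := by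
    intro z hz
    set l := C.S.ρ p z + z with hl
    have hll : l ∈ pl v w := hp.2 z hz
    have hpz : C.S.ρ p z = z + l := by rw [hl, add_comm (C.S.ρ p z), aac]
    have hpiz : C.S.ρ p⁻¹ z = z + l := by
      have h1 : C.S.ρ p (z + l) = z := by
        rw [map_add, hpz, hp.1 l hll, aab]
      have h2 := congrArg (C.S.ρ p⁻¹) h1
      rw [C.S.ρ_inv_apply] at h2
      exact h2.symm
    set μ := C.S.ρ m z + z with hμ
    have hμl : μ ∈ pl v w := by rw [pl_eq]; exact Submodule.mem_sup_left (hmz z hz)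
    have hmz' : C.S.ρ m z = z + μ := by rw [hμ, add_comm (C.S.ρ m z), aac]
    have hmμ : C.S.ρ m μ = μ := by
      rcases mem_ln.1 (hmz z hz) with h1 | h1 <;> rw [← hμ] at h1
      · rw [h1]; exact map_zero _
      · rw [h1, hmv]
    have hpi := inv_mem hp
    have hpim : C.S.ρ p⁻¹ μ = μ := hpi.1 μ hμl
    have hml : C.S.ρ m l ∈ pl v w := (hmP l).2 hll
    have s1 : C.S.ρ p⁻¹ (C.S.ρ m z) = z + l + μ := by rw [hmz', map_add, hpiz, hpim]
    have s2 : C.S.ρ m (z + l + μ) = z + C.S.ρ m l := by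
      rw [map_add, map_add, hmz', hmμ]
      have : z + μ + C.S.ρ m l + μ = z + C.S.ρ m l + (μ + μ) := by abel
      rw [this, aa, add_zero]
    have s3 : C.S.ρ p (z + C.S.ρ m l) = z + l + C.S.ρ m l := by rw [map_add, hpz, hp.1 _ hml]
    rw [hp1def, hminv, C.S.ρ_mul, C.S.ρ_mul, C.S.ρ_mul, s1, s2, s3]
    have e0 : z + l + C.S.ρ m l + z = l + C.S.ρ m l + (z + z) := by abel
    rw [e0, aa, add_zero]
  have hlm : ∀ l ∈ pl v w, l + C.S.ρ m l ∈ SpTwo.ln v ∧ (l ∉ SpTwo.ln v → l + C.S.ρ m l = v) := by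
    intro l hl
    rcases mem_pl.1 hl with rfl | rfl | rfl | rfl
    · rw [map_zero, add_zero]
      exact ⟨zero_mem _, fun h1 => absurd (zero_mem _) h1⟩
    · rw [hmv, aa]
      exact ⟨zero_mem _, fun h1 => absurd (self_mem_ln _) h1⟩
    · rw [hmw, aac]
      exact ⟨self_mem_ln v, fun _ => rfl⟩
    · rw [map_add, hmv, hmw]
      have : v + w + (v + (w + v)) = v + (v + v) + (w + w) := by abel
      rw [this, aa, aa, add_zero, add_zero]
      exact ⟨self_mem_ln v, fun _ => rfl⟩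
  have hp1z0 : C.S.ρ p1 z0 + z0 = v := by
    rw [hact z0 hz0]
    exact (hlm _ (hp.2 z0 hz0)).2 hz0'
  have hx1l : x1 ∉ pl v w := by
    intro hx1l
    have h1 := hN.comm_AU (h.q_mem_AU hx1l e1)
    have h2 : p1 = q C.S v x1 e1 := Subtype.ext (hΦr.symm.trans h1)
    rw [h2, h.q_mem_AU hx1l e1 z0 hz0, aa] at hp1z0
    exact h.hv hp1z0.symm
  obtain ⟨k, hk, hkx⟩ := trans_perp C.S hx1l hxl hx1 hx
  have hkP : k ∈ PU C.S (pl v w) := TG_le_PU C.S hk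
  have hkv : C.S.ρ k v = v := TG_fix C.S hk (left_mem_pl v w)
  obtain ⟨k0, hk0, hk0', hk0u⟩ := hN.exists_PU hkP
  have hk0v : C.S.ρ k0 v = v := by rw [hk0u v (left_mem_pl v w), hkv]
  have h0 : g * (q C.S v 0 e1 : C.L) * g⁻¹ = (q C.S v 0 e1 : C.L) :=
    hN.comm_AU (h.q_mem_AU (zero_mem _) e1)
  have hqx : k * (q C.S v x1 e1 * q C.S v 0 e1) * k⁻¹ = q C.S v x 0 := by
    have e0 : q C.S v x1 e1 * q C.S v 0 e1 = q C.S v x1 0 := by
      rw [q_mul C.S hx1'.1 (B_zero C.S v), map_zero, add_zero, z2_add]; simp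
    rw [e0, q_conj, hkv, hkx]
  have hpk : p = k0 * (p1 * q C.S v 0 e1) * k0⁻¹ := by
    apply Subtype.ext
    rw [← hp', ← hqx]
    have h1 := conj_lift C hk0' (p1 * q C.S v 0 e1)
    rw [← h1]
    change g * ((k : G) * (((q C.S v x1 e1 : C.L) : G) * (q C.S v 0 e1 : C.L)) * (k : G)⁻¹) * g⁻¹ =
      g * (k : G) * g⁻¹ * ((p1 : G) * (q C.S v 0 e1 : C.L)) * (g * (k : G) * g⁻¹)⁻¹
    rw [← hΦr]
    calc g * ((k : G) * (((q C.S v x1 e1 : C.L) : G) * (q C.S v 0 e1 : C.L)) * (k : G)⁻¹) * g⁻¹ =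
        g * (k : G) * g⁻¹ * ((g * (q C.S v x1 e1 : C.L) * g⁻¹) * (g * (q C.S v 0 e1 : C.L) * g⁻¹)) *
          (g * (k : G) * g⁻¹)⁻¹ := by group
      _ = _ := by rw [h0]
  apply hX
  intro z hz
  have hk0i : k0⁻¹ ∈ PU C.S (pl v w) := inv_mem hk0
  set z' := C.S.ρ k0⁻¹ z with hz'
  have hz'P : z' ∈ perp C.S (pl v w) := PU_perp C.S hk0i hz
  have h1 : C.S.ρ p1 z' + z' ∈ SpTwo.ln v := by
    rw [hact z' hz'P]
    exact (hlm _ (hp.2 z' hz'P)).1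
  have h2 : C.S.ρ p1 z' = z' + (C.S.ρ p1 z' + z') := by rw [add_comm (C.S.ρ p1 z'), aac]
  have h3 : C.S.ρ k0 (C.S.ρ p1 z' + z') = C.S.ρ p1 z' + z' := by
    rcases mem_ln.1 h1 with h4 | h4
    · rw [h4]; exact map_zero _
    · rw [h4, hk0v]
  have h4 : C.S.ρ k0 z' = z := C.S.ρ_apply_inv k0 z
  have hq0 : C.S.ρ (q C.S v 0 e1) z' = z' := by
    rw [q_act C.S (B_zero C.S v) ((mem_perp_pl C.S).1 hz'P).1, map_zero, zero_smul, add_zero]
  rw [hpk, C.S.ρ_mul, C.S.ρ_mul, C.S.ρ_mul, ← hz', hq0, h2, map_add, h4, h3]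
  have e0 : z + (C.S.ρ p1 z' + z') + z = (C.S.ρ p1 z' + z') + (z + z) := by abel
  rw [e0, aa, add_zero]
  exact h1

/-- the common isometry -/
theorem exists_fx (hN : NrmA C v w g) {x : V} (hx : x ∈ perp C.S (pl v w)) :
    ∃ x' ∈ perp C.S (pl v w), (∃ a ∈ AU C.S (pl v w),
      g * (q C.S v x 0 : C.L) * g⁻¹ = ((q C.S v x' 0 * a : C.L) : G)) ∧
      ∃ a ∈ AU C.S (pl v w), g * (q C.S w x 0 : C.L) * g⁻¹ = ((q C.S w x' 0 * a : C.L) : G) := by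
  have hfinV := C.finV
  have h := hN.ln
  obtain ⟨x1, hx1, a1, ha1, he1⟩ := hN.exists_X hx
  have hxs : x ∈ perp C.S (pl w v) := by rw [h.pl_symm]; exact hx
  obtain ⟨x2, hx2, a2, ha2, he2⟩ := hN.symm.exists_X hxs
  rw [h.pl_symm] at hx2 ha2
  have hvwm : v + w ∈ pl v w := add_mem (left_mem_pl v w) (right_mem_pl v w)
  have hw3 : w ∉ SpTwo.ln (v + w) := by
    intro h1
    rcases mem_ln.1 h1 with h1 | h1
    · exact h.hw0 h1
    · exact h.hv (add_eq_right.1 h1.symm)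
  have hpl3 := h.pl_eq_of_mem hvwm (right_mem_pl v w) h.add_ne hw3
  obtain ⟨x3, hx3, a3, ha3, he3⟩ := (hN.of_mem hvwm (right_mem_pl v w) h.add_ne hw3).exists_X
    (x := x) (by rw [hpl3]; exact hx)
  rw [hpl3] at hx3 ha3
  rw [h.q_add hx] at he3
  have he : q C.S v x1 0 * a1 * (q C.S w x2 0 * a2) = q C.S v x3 0 * q C.S w x3 0 * a3 := by
    rw [← h.q_add hx3]
    apply Subtype.ext
    rw [← he3]
    change ((q C.S v x1 0 * a1 : C.L) : G) * ((q C.S w x2 0 * a2 : C.L) : G) =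
      g * (((q C.S v x 0 : C.L) : G) * (q C.S w x 0 : C.L)) * g⁻¹
    rw [← he1, ← he2]; group
  have hx1' := (mem_perp_pl C.S).1 hx1
  have hx2' := (mem_perp_pl C.S).1 hx2
  have hx3' := (mem_perp_pl C.S).1 hx3
  have hwx1 : C.S.B w x1 = 0 := by rw [C.S.symm]; exact hx1'.2
  have hwx3 : C.S.B w x3 = 0 := by rw [C.S.symm]; exact hx3'.2
  have key : ∀ z ∈ perp C.S (pl v w), C.S.B z x1 • v + C.S.B z x2 • w = C.S.B z x3 • v + C.S.B z x3 • w := by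
    intro z hz
    have hz' := (mem_perp_pl C.S).1 hz
    have h1 := (ρ_eq C.S).1 he z
    have e1 : C.S.ρ a1 (z + C.S.B z x2 • w) = z + C.S.B z x2 • w :=
      ha1 _ (add_mem hz (Submodule.smul_mem _ _ (h.ti (right_mem_pl v w))))
    rw [C.S.ρ_mul, C.S.ρ_mul, C.S.ρ_mul, C.S.ρ_mul, C.S.ρ_mul, ha2 z hz, ha3 z hz, q_act C.S hx2'.2 hz'.2,
      q_act C.S hx3'.2 hz'.2, e1, q_act C.S hx1'.1 (by rw [B_add, hz'.1, map_smul, LinearMap.smul_apply,
        h.hwv, smul_zero, add_zero]), q_act C.S hx3'.1 (by rw [B_add, hz'.1, map_smul, LinearMap.smul_apply,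
        h.hwv, smul_zero, add_zero])] at h1
    simp only [B_add, map_smul, LinearMap.smul_apply, hwx1, hwx3, smul_zero, add_zero] at h1
    rw [add_assoc, add_assoc] at h1
    have h2 := add_left_cancel h1
    rw [add_comm, h2, add_comm]
  have hind : ∀ a b c d : ZMod 2, a • v + b • w = c • v + d • w → a = c ∧ b = d := by
    intro a b c d h1
    obtain ⟨v', w', d1, d2, d3, d4⟩ := h.exists_dual
    have k1 := congrArg (fun z => C.S.B v' z) h1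
    have k2 := congrArg (fun z => C.S.B w' z) h1
    simp only [map_add, map_smul, d1, d2, d3, d4, smul_eq_mul, mul_one, mul_zero, add_zero, zero_add] at k1 k2
    exact ⟨k1, k2⟩
  have h12 : x2 + x1 ∈ pl v w := by
    apply mem_of_perp C.S
    intro z hz
    obtain ⟨h1, h2⟩ := hind _ _ _ _ (key z hz)
    rw [map_add, h1, h2, z2_add]
  have h12' : x2 + x1 ∈ pl w v := by rw [h.pl_symm]; exact h12
  obtain ⟨a, ha, hax⟩ := h.symm.q_mod (x := x1) (x' := x2) (by rw [h.pl_symm]; exact hx1)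
    (by rw [add_comm]; exact h12') 0
  rw [h.pl_symm] at ha
  refine ⟨x1, hx1, ⟨a1, ha1, he1⟩, a * a2, mul_mem ha ha2, ?_⟩
  rw [he2, hax, mul_assoc]

theorem exists_p (hN : NrmA C v w g) : ∃ p ∈ TG C.S (perp C.S (pl v w) : Set V),
    ∀ x ∈ perp C.S (pl v w), (∃ a ∈ AU C.S (pl v w),
      ((p : G)⁻¹ * g) * (q C.S v x 0 : C.L) * ((p : G)⁻¹ * g)⁻¹ = ((q C.S v x 0 * a : C.L) : G)) ∧
      ∃ a ∈ AU C.S (pl v w),
        ((p : G)⁻¹ * g) * (q C.S w x 0 : C.L) * ((p : G)⁻¹ * g)⁻¹ = ((q C.S w x 0 * a : C.L) : G) := by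
  have hfinV := C.finV
  have h := hN.ln
  have h0 : ∀ x, x ∈ perp C.S (pl v w) → ∃ x', x' ∈ perp C.S (pl v w) ∧ (∃ a ∈ AU C.S (pl v w),
      g * (q C.S v x 0 : C.L) * g⁻¹ = ((q C.S v x' 0 * a : C.L) : G)) ∧
      ∃ a ∈ AU C.S (pl v w), g * (q C.S w x 0 : C.L) * g⁻¹ = ((q C.S w x' 0 * a : C.L) : G) := by
    intro x hx
    obtain ⟨x', hx', h1⟩ := hN.exists_fx hx
    exact ⟨x', hx', h1⟩
  choose! f hfP hfv hfw using h0
  have hAF : ∀ a ∈ AU C.S (pl v w), ∀ y ∈ QU C.S (pl v w), a * y = y * a :=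
    fun a ha y hy => AU_comm C.S ha (QU_le_FU C.S hy)
  -- additivity
  have hadd : ∀ x ∈ perp C.S (pl v w), ∀ y ∈ perp C.S (pl v w), f (x + y) + (f x + f y) ∈ pl v w := by
    intro x hx y hy
    obtain ⟨a1, ha1, h1⟩ := hfv x hx
    obtain ⟨a2, ha2, h2⟩ := hfv y hy
    obtain ⟨a3, ha3, h3⟩ := hfv (x + y) (add_mem hx hy)
    have hx' := (mem_perp_pl C.S).1 hx
    have hy' := (mem_perp_pl C.S).1 hy
    have hfx := (mem_perp_pl C.S).1 (hfP x hx)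
    have hfy := (mem_perp_pl C.S).1 (hfP y hy)
    have e1 : q C.S v (x + y) 0 = q C.S v x 0 * q C.S v y 0 * q C.S v 0 (C.S.B x y) := by
      rw [q_mul C.S hx'.1 hy'.1, q_mul C.S (by rw [B_add, hx'.1, hy'.1, add_zero]) (B_zero C.S v), map_zero]
      simp [z2_add]
    have h0 : g * (q C.S v 0 (C.S.B x y) : C.L) * g⁻¹ = (q C.S v 0 (C.S.B x y) : C.L) :=
      hN.comm_AU (h.q_mem_AU (zero_mem _) _)
    have e2 : q C.S v (f (x + y)) 0 * a3 =
        (q C.S v (f x) 0 * a1) * (q C.S v (f y) 0 * a2) * q C.S v 0 (C.S.B x y) := by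
      apply Subtype.ext
      rw [← h3, e1]
      change g * (((q C.S v x 0 : C.L) : G) * (q C.S v y 0 : C.L) * (q C.S v 0 (C.S.B x y) : C.L)) * g⁻¹ =
        ((q C.S v (f x) 0 * a1 : C.L) : G) * ((q C.S v (f y) 0 * a2 : C.L) : G) *
          ((q C.S v 0 (C.S.B x y) : C.L) : G)
      rw [← h1, ← h2]
      calc g * (((q C.S v x 0 : C.L) : G) * (q C.S v y 0 : C.L) * (q C.S v 0 (C.S.B x y) : C.L)) * g⁻¹ =
          g * (q C.S v x 0 : C.L) * g⁻¹ * (g * (q C.S v y 0 : C.L) * g⁻¹) *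
            (g * (q C.S v 0 (C.S.B x y) : C.L) * g⁻¹) := by group
        _ = _ := by rw [h0]
    have e3 : (q C.S v (f x) 0 * a1) * (q C.S v (f y) 0 * a2) * q C.S v 0 (C.S.B x y) =
        q C.S v (f x + f y) (C.S.B (f x) (f y)) * (a1 * a2 * q C.S v 0 (C.S.B x y)) := by
      have : a1 * q C.S v (f y) 0 = q C.S v (f y) 0 * a1 := hAF a1 ha1 _ (h.qv_mem (hfP y hy) 0)
      calc (q C.S v (f x) 0 * a1) * (q C.S v (f y) 0 * a2) * q C.S v 0 (C.S.B x y) =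
          q C.S v (f x) 0 * (a1 * q C.S v (f y) 0) * a2 * q C.S v 0 (C.S.B x y) := by simp only [mul_assoc]
        _ = q C.S v (f x) 0 * q C.S v (f y) 0 * (a1 * a2 * q C.S v 0 (C.S.B x y)) := by
            rw [this]; simp only [mul_assoc]
        _ = _ := by rw [q_mul C.S hfx.1 hfy.1]; simp
    rw [e3] at e2
    exact h.mem_of_q_eq (hfP _ (add_mem hx hy)) (add_mem (hfP x hx) (hfP y hy)) ha3
      (mul_mem (mul_mem ha1 ha2) (h.q_mem_AU (zero_mem _) _)) e2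
  have hln : ∀ x ∈ pl v w, f x ∈ pl v w := by
    intro x hx
    obtain ⟨a1, ha1, h1⟩ := hfv x (h.ti hx)
    rw [hN.comm_AU (h.q_mem_AU hx 0)] at h1
    have h2 : q C.S v x 0 * 1 = q C.S v (f x) 0 * a1 := by rw [mul_one]; exact Subtype.ext h1
    have h3 := h.mem_of_q_eq (h.ti hx) (hfP x (h.ti hx)) (one_mem _) ha1 h2
    have := add_mem hx h3
    rwa [aac] at this
  have hiso : ∀ x ∈ perp C.S (pl v w), ∀ y ∈ perp C.S (pl v w), C.S.B (f x) (f y) = C.S.B x y := by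
    intro x hx y hy
    obtain ⟨a1, ha1, h1⟩ := hfv x hx
    obtain ⟨a2, ha2, h2⟩ := hfw y hy
    have c1 := h.conj_qv hx hy 0 0
    have c2 := h.conj_qv (hfP x hx) (hfP y hy) 0 0
    have h0 := sp_conj h hN.nrm (C.S.B x y)
    -- conjugate the first relation
    have e1 : (q C.S w (f y) 0 * a2) * (q C.S v (f x) 0 * a1) * (q C.S w (f y) 0 * a2)⁻¹ =
        (q C.S v (f x) 0 * a1) * q C.S v (C.S.B x y • w) 0 := by
      apply Subtype.ext
      change ((q C.S w (f y) 0 * a2 : C.L) : G) * ((q C.S v (f x) 0 * a1 : C.L) : G) *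
        ((q C.S w (f y) 0 * a2 : C.L) : G)⁻¹ = ((q C.S v (f x) 0 * a1 : C.L) : G) *
          ((q C.S v (C.S.B x y • w) 0 : C.L) : G)
      rw [← h1, ← h2]
      have c1' : ((q C.S w y 0 : C.L) : G) * (q C.S v x 0 : C.L) * ((q C.S w y 0 : C.L) : G)⁻¹ =
        ((q C.S v x 0 : C.L) : G) * (q C.S v (C.S.B x y • w) 0 : C.L) := congrArg Subtype.val c1
      calc g * (q C.S w y 0 : C.L) * g⁻¹ * (g * (q C.S v x 0 : C.L) * g⁻¹) * (g * (q C.S w y 0 : C.L) * g⁻¹)⁻¹ =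
          g * (((q C.S w y 0 : C.L) : G) * (q C.S v x 0 : C.L) * ((q C.S w y 0 : C.L) : G)⁻¹) * g⁻¹ := by group
        _ = g * (q C.S v x 0 : C.L) * g⁻¹ * (g * (q C.S v (C.S.B x y • w) 0 : C.L) * g⁻¹) := by
            rw [c1']; group
        _ = _ := by rw [h0]
    have ha2c : ∀ r ∈ QU C.S (pl v w), a2 * r = r * a2 := fun r hr => hAF a2 ha2 r hr
    have e2 : (q C.S w (f y) 0 * a2) * (q C.S v (f x) 0 * a1) * (q C.S w (f y) 0 * a2)⁻¹ =
        q C.S w (f y) 0 * q C.S v (f x) 0 * (q C.S w (f y) 0)⁻¹ * a1 := by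
      have k1 : a2 * (q C.S v (f x) 0 * a1) * a2⁻¹ = q C.S v (f x) 0 * a1 := by
        rw [ha2c _ (mul_mem (h.qv_mem (hfP x hx) 0) (AU_le_QU C.S h.ti ha1)), mul_inv_cancel_right]
      have k2 : a1 * (q C.S w (f y) 0)⁻¹ = (q C.S w (f y) 0)⁻¹ * a1 :=
        hAF a1 ha1 _ (inv_mem (h.qw_mem (hfP y hy) 0))
      calc (q C.S w (f y) 0 * a2) * (q C.S v (f x) 0 * a1) * (q C.S w (f y) 0 * a2)⁻¹ =
          q C.S w (f y) 0 * (a2 * (q C.S v (f x) 0 * a1) * a2⁻¹) * (q C.S w (f y) 0)⁻¹ := by group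
        _ = q C.S w (f y) 0 * q C.S v (f x) 0 * (a1 * (q C.S w (f y) 0)⁻¹) := by
            rw [k1]; simp only [mul_assoc]
        _ = _ := by rw [k2]; simp only [mul_assoc]
    rw [e2, c2] at e1
    have k3 : a1 * q C.S v (C.S.B x y • w) 0 = q C.S v (C.S.B x y • w) 0 * a1 :=
      hAF a1 ha1 _ (AU_le_QU C.S h.ti (h.sp_mem _))
    rw [mul_assoc, mul_assoc, mul_left_cancel_iff, k3] at e1
    exact h.sp_inj (mul_right_cancel e1)
  obtain ⟨p, hp, hpf⟩ := gen C.S h.ti f hfP hln hadd hiso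
  refine ⟨p, hp, fun x hx => ?_⟩
  have hpi : p⁻¹ ∈ TG C.S (perp C.S (pl v w) : Set V) := inv_mem hp
  have hpP := TG_le_PU C.S hpi
  have hpv : C.S.ρ p⁻¹ v = v := TG_fix C.S hpi (left_mem_pl v w)
  have hpw : C.S.ρ p⁻¹ w = w := TG_fix C.S hpi (right_mem_pl v w)
  have h3 : x + C.S.ρ p⁻¹ (f x) ∈ pl v w := by
    have h5 := (hpP _).2 (hpf x hx)
    rwa [map_add, C.S.ρ_inv_apply] at h5
  constructor
  · obtain ⟨a, ha, h1⟩ := hfv x hx
    obtain ⟨a', ha', h2⟩ := h.q_mod hx h3 0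
    refine ⟨a' * (p⁻¹ * a * p⁻¹⁻¹), mul_mem ha' (AU_conj C.S hpP ha), ?_⟩
    have e1 : ((p : G)⁻¹ * g) * (q C.S v x 0 : C.L) * ((p : G)⁻¹ * g)⁻¹ =
        (p : G)⁻¹ * (g * (q C.S v x 0 : C.L) * g⁻¹) * p := by group
    rw [e1, h1]
    have e2 : p⁻¹ * (q C.S v (f x) 0 * a) * p = q C.S v x 0 * (a' * (p⁻¹ * a * p⁻¹⁻¹)) := by
      rw [← mul_assoc (q C.S v x 0), ← h2]
      have := q_conj C.S p⁻¹ (v := v) (u := f x) 0
      rw [hpv] at this
      rw [← this]; group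
    exact congrArg Subtype.val e2
  · obtain ⟨a, ha, h1⟩ := hfw x hx
    obtain ⟨a', ha', h2⟩ := h.symm.q_mod (x := x) (by rw [h.pl_symm]; exact hx)
      (by rw [h.pl_symm]; exact h3) 0
    rw [h.pl_symm] at ha'
    refine ⟨a' * (p⁻¹ * a * p⁻¹⁻¹), mul_mem ha' (AU_conj C.S hpP ha), ?_⟩
    have e1 : ((p : G)⁻¹ * g) * (q C.S w x 0 : C.L) * ((p : G)⁻¹ * g)⁻¹ =
        (p : G)⁻¹ * (g * (q C.S w x 0 : C.L) * g⁻¹) * p := by group
    rw [e1, h1]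
    have e2 : p⁻¹ * (q C.S w (f x) 0 * a) * p = q C.S w x 0 * (a' * (p⁻¹ * a * p⁻¹⁻¹)) := by
      rw [← mul_assoc (q C.S w x 0), ← h2]
      have := q_conj C.S p⁻¹ (v := w) (u := f x) 0
      rw [hpw] at this
      rw [← this]; group
    exact congrArg Subtype.val e2

end NrmA

end Cfsg.Agent.OddHalf.SpTwo
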