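import Cfsg.Agent.OddHalf.SpTwo.Gen

/-!
# The group `Q_v` of a vector and the unipotent radicals of the stabilizers of totally isotropic subspaces

`q D v u e = τ v * τ u * τ (v+u) * τ (e • v)` for `u ∈ v^⊥`, `e ∈ F₂` are the elements of `Q_v = QU D (ln v)`.
-/

set_option autoImplicit false
set_option linter.unusedSimpArgs false

namespace Cfsg.Agent.OddHalf.SpTwo

open Cfsg.Agent.StandardComponent.SpTwo

variable {X V : Type*} [Group X] [AddCommGroup V] [Module (ZMod 2) V] (D : SpData X V)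

theorem B_add (x y z : V) : D.B (x + y) z = D.B x z + D.B y z := by rw [map_add]; rfl

theorem B_zero (z : V) : D.B 0 z = 0 := by rw [map_zero]; rfl

/-! ### lines and planes -/

/-- the subspace `{0, v}` -/
def ln (v : V) : Submodule (ZMod 2) V := Submodule.span (ZMod 2) {v}

/-- the subspace `{0, v, w, v + w}` -/
def pl (v w : V) : Submodule (ZMod 2) V := Submodule.span (ZMod 2) {v, w}

theorem mem_ln {v x : V} : x ∈ ln v ↔ x = 0 ∨ x = v := by
  rw [ln, Submodule.mem_span_singleton]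
  constructor
  · rintro ⟨c, rfl⟩
    rcases z2 c with h | h
    · left; rw [h, zero_smul]
    · right; rw [h, one_smul]
  · rintro (rfl | rfl)
    · exact ⟨0, zero_smul _ _⟩
    · exact ⟨1, one_smul _ _⟩

theorem mem_sup_ln {A : Submodule (ZMod 2) V} {v x : V} : x ∈ A ⊔ ln v ↔ x ∈ A ∨ x + v ∈ A := by
  rw [Submodule.mem_sup]
  constructor
  · rintro ⟨y, hy, z, hz, rfl⟩
    rcases mem_ln.1 hz with rfl | rfl
    · left; rwa [add_zero]
    · right; rwa [aab]
  · rintro (h | h)
    · exact ⟨x, h, 0, zero_mem _, add_zero _⟩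
    · exact ⟨x + v, h, v, mem_ln.2 (Or.inr rfl), aab _ _⟩

theorem pl_eq (v w : V) : pl v w = ln v ⊔ ln w := by
  rw [pl, ln, ln, ← Submodule.span_union]; rfl

theorem mem_pl {v w x : V} : x ∈ pl v w ↔ x = 0 ∨ x = v ∨ x = w ∨ x = v + w := by
  rw [pl_eq, mem_sup_ln, mem_ln, mem_ln]
  constructor
  · rintro ((h | h) | (h | h))
    · exact Or.inl h
    · exact Or.inr (Or.inl h)
    · exact Or.inr (Or.inr (Or.inl (eq_of_add _ _ h)))
    · refine Or.inr (Or.inr (Or.inr ?_))
      rw [← h, aab]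
  · rintro (rfl | rfl | rfl | rfl)
    · exact Or.inl (Or.inl rfl)
    · exact Or.inl (Or.inr rfl)
    · exact Or.inr (Or.inl (aa _))
    · exact Or.inr (Or.inr (aab _ _))

theorem mem_perp_ln {v x : V} : x ∈ perp D (ln v) ↔ D.B x v = 0 := by
  rw [mem_perp]
  constructor
  · intro h; exact h v (mem_ln.2 (Or.inr rfl))
  · intro h u hu
    rcases mem_ln.1 hu with rfl | rfl
    · exact map_zero _
    · exact h

theorem mem_perp_sup {A A' : Submodule (ZMod 2) V} {x : V} :
    x ∈ perp D (A ⊔ A') ↔ x ∈ perp D A ∧ x ∈ perp D A' := by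
  constructor
  · intro h
    exact ⟨perp_anti D le_sup_left h, perp_anti D le_sup_right h⟩
  · rintro ⟨h1, h2⟩ u hu
    obtain ⟨a, ha, b, hb, rfl⟩ := Submodule.mem_sup.1 hu
    rw [map_add, h1 a ha, h2 b hb, add_zero]

theorem mem_perp_pl {v w x : V} : x ∈ perp D (pl v w) ↔ D.B x v = 0 ∧ D.B x w = 0 := by
  rw [pl_eq, mem_perp_sup, mem_perp_ln, mem_perp_ln]

theorem ln_ti (v : V) : ln v ≤ perp D (ln v) := by
  intro x hx
  rw [mem_perp_ln]
  rcases mem_ln.1 hx with rfl | rfl
  · rw [map_zero]; rfl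
  · exact D.alt _

theorem pl_ti {v w : V} (h : D.B v w = 0) : pl v w ≤ perp D (pl v w) := by
  intro x hx
  rw [mem_perp_pl]
  have h' : D.B w v = 0 := by rw [D.symm]; exact h
  rcases mem_pl.1 hx with rfl | rfl | rfl | rfl
  · rw [map_zero]; exact ⟨rfl, rfl⟩
  · exact ⟨D.alt _, h⟩
  · exact ⟨h', D.alt _⟩
  · rw [map_add, LinearMap.add_apply, LinearMap.add_apply, D.alt, D.alt, h, h']
    exact ⟨rfl, rfl⟩

theorem left_mem_pl (v w : V) : v ∈ pl v w := mem_pl.2 (Or.inr (Or.inl rfl))

theorem right_mem_pl (v w : V) : w ∈ pl v w := mem_pl.2 (Or.inr (Or.inr (Or.inl rfl)))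

theorem self_mem_ln (v : V) : v ∈ ln v := mem_ln.2 (Or.inr rfl)

theorem ne_zero_of_notMem {A : Submodule (ZMod 2) V} {x : V} (h : x ∉ A) : x ≠ 0 := by
  rintro rfl; exact h (zero_mem _)

theorem notMem_ln {v w : V} (h0 : w ≠ 0) (h1 : w ≠ v) : w ∉ ln v := by
  rw [mem_ln]; tauto

/-! ### identities over the field with two elements -/

theorem ext_B {x y : V} (h : ∀ z, D.B x z = D.B y z) : x = y := by
  apply eq_of_add
  apply D.nondeg
  intro z
  rw [map_add, LinearMap.add_apply, h]
  exact CharTwo.add_self_eq_zero _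

theorem z2_add (a : ZMod 2) : a + a = 0 := CharTwo.add_self_eq_zero a

theorem z2_mul (a : ZMod 2) : a * a = a := by revert a; decide

theorem z2_mul' (a b : ZMod 2) : a * (a * b) = a * b := by rw [← mul_assoc, z2_mul]

theorem z2_add' (a b : ZMod 2) : a + (a + b) = b := by rw [← add_assoc, z2_add, zero_add]

theorem z2_ne {a : ZMod 2} : a ≠ 0 ↔ a = 1 := by revert a; decide

/-- the identities -/
macro "z2simp" : tactic =>
  `(tactic| (simp only [map_add, LinearMap.add_apply, map_smul, LinearMap.smul_apply, smul_eq_mul, map_zero,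
    LinearMap.zero_apply, SpData.alt, mul_zero, zero_mul, add_zero, zero_add, mul_one, one_mul, mul_add, add_mul,
    z2_mul, z2_add, z2_mul', z2_add', mul_left_comm, mul_comm, mul_assoc, add_left_comm, add_comm, add_assoc]))

/-- element of `Q_v` -/
def q (v u : V) (e : ZMod 2) : X := D.τ v * D.τ u * D.τ (v + u) * D.τ (e • v)

theorem q_apply {v u : V} (h : D.B u v = 0) (e : ZMod 2) (x : V) :
    D.ρ (q D v u e) x = x + D.B x u • v + D.B x v • u + (e * D.B x v) • v := by
  have h' : D.B v u = 0 := by rw [D.symm]; exact h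
  apply ext_B D
  intro z
  rw [q]
  simp only [D.ρ_mul, D.hτ, map_add, LinearMap.add_apply, map_smul, LinearMap.smul_apply, smul_eq_mul, D.alt, h,
    h', mul_zero, zero_add, add_zero]
  generalize D.B x v = a
  generalize D.B x u = b
  generalize D.B v z = c
  generalize D.B u z = d
  generalize D.B x z = k
  revert a b c d k e
  decide

theorem ρ_eq {g h : X} : g = h ↔ ∀ x, D.ρ g x = D.ρ h x :=
  ⟨fun e x => by rw [e], D.ext_iff⟩

theorem q_conj (g : X) {v u : V} (e : ZMod 2) : g * q D v u e * g⁻¹ = q D (D.ρ g v) (D.ρ g u) e := by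
  rw [q, q, ← D.conj_τ, ← D.conj_τ, ← map_add, ← D.conj_τ, ← map_smul, ← D.conj_τ]
  group

theorem q_mul {v u u' : V} (h : D.B u v = 0) (h' : D.B u' v = 0) (e e' : ZMod 2) :
    q D v u e * q D v u' e' = q D v (u + u') (e + e' + D.B u u') := by
  apply D.ext_iff
  intro x
  have h1 : D.B (u + u') v = 0 := by rw [map_add, LinearMap.add_apply, h, h', add_zero]
  apply ext_B D
  intro z
  rw [D.ρ_mul, q_apply D h', q_apply D h, q_apply D h1]
  have h2 : D.B v u = 0 := by rw [D.symm]; exact h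
  have h3 : D.B u' u = D.B u u' := D.symm _ _
  simp only [map_add, LinearMap.add_apply, map_smul, LinearMap.smul_apply, smul_eq_mul, D.alt, h, h', h2, h3]
  generalize D.B x v = a
  generalize D.B x u = b
  generalize D.B x u' = b'
  generalize D.B u u' = g
  generalize D.B v z = c
  generalize D.B u z = d
  generalize D.B u' z = d'
  generalize D.B x z = k
  revert a b b' c d d' e e' k g
  decide

theorem q_zero (v : V) : q D v 0 0 = 1 := by
  rw [q, D.τ_zero, add_zero, zero_smul, D.τ_zero, mul_one, mul_one, D.τ_sq]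

theorem q_zero_one (v : V) : q D v 0 1 = D.τ v := by
  rw [q, D.τ_zero, add_zero, one_smul, mul_one, D.τ_sq, one_mul]

theorem q_self (v : V) (e : ZMod 2) : q D v v e = q D v 0 e := by
  rw [q, q, D.τ_zero, add_zero, aa, D.τ_zero, D.τ_sq, mul_one, mul_one, D.τ_sq]

theorem q_sq {v u : V} (h : D.B u v = 0) (e : ZMod 2) : q D v u e * q D v u e = 1 := by
  rw [q_mul D h h, aa, D.alt, add_zero, z2_add, q_zero]

theorem q_inv {v u : V} (h : D.B u v = 0) (e : ZMod 2) : (q D v u e)⁻¹ = q D v u e := by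
  rw [inv_eq_iff_mul_eq_one, q_sq D h]

theorem q_comm {v u u' : V} (h : D.B u v = 0) (h' : D.B u' v = 0) (e e' : ZMod 2) :
    q D v u e * q D v u' e' = q D v u' e' * q D v u e := by
  rw [q_mul D h h', q_mul D h' h, add_comm u u', add_comm e e', D.symm u u']

theorem q_add_self {v u : V} (h : D.B u v = 0) (e : ZMod 2) : q D v (u + v) e = q D v u e := by
  have h1 : D.B (u + v) v = 0 := by rw [map_add, LinearMap.add_apply, h, D.alt, add_zero]
  apply D.ext_iff
  intro x
  apply ext_B D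
  intro z
  rw [q_apply D h1, q_apply D h]
  simp only [map_add, LinearMap.add_apply, map_smul, LinearMap.smul_apply, smul_eq_mul]
  generalize D.B x v = a
  generalize D.B x u = b
  generalize D.B v z = c
  generalize D.B u z = d
  generalize D.B x z = k
  revert a b c d e k
  decide

theorem q_inj [Finite V] {v u u' : V} (hv : v ≠ 0) (h : D.B u v = 0) (h' : D.B u' v = 0) {e e' : ZMod 2}
    (H : q D v u e = q D v u' e') : u + u' ∈ ln v ∧ e = e' := by
  have h1 : u + u' ∈ ln v := by
    apply mem_of_perp D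
    intro y hy
    rw [mem_perp_ln] at hy
    have := (ρ_eq D).1 H y
    rw [q_apply D h, q_apply D h', hy] at this
    simp only [mul_zero, zero_smul, add_zero] at this
    have h2 := add_left_cancel this
    have h3 : (D.B y u + D.B y u') • v = 0 := by rw [add_smul, h2]; exact aa _
    rw [map_add]
    rcases z2 (D.B y u + D.B y u') with h4 | h4
    · exact h4
    · rw [h4, one_smul] at h3; exact absurd h3 hv
  refine ⟨h1, ?_⟩
  have h5 : q D v u' e = q D v u e := by
    rcases mem_ln.1 h1 with h6 | h6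
    · rw [eq_of_add _ _ h6]
    · have : u' = u + v := by rw [← h6, aac]
      rw [this, q_add_self D h]
  rw [← h5] at H
  have h6 : q D v u' e * q D v u' e' = 1 := by rw [H, q_sq D h']
  rw [q_mul D h' h', aa, D.alt, add_zero] at h6
  rcases z2 (e + e') with h7 | h7
  · exact eq_of_add _ _ h7
  · rw [h7, q_zero_one] at h6
    exact absurd (D.τ_eq_one h6) hv

theorem τ_conj_q {v w u : V} (hw : D.B w v = 0) (e : ZMod 2) :
    D.τ w * q D v u e * D.τ w = q D v (u + D.B u w • w) e := by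
  have h := q_conj D (D.τ w) (v := v) (u := u) e
  rw [D.τ_inv, D.hτ, D.hτ, D.symm v w, hw, zero_smul, add_zero] at h
  exact h

/-- the commutator of an element of `Q_v` with a transvection -/
theorem q_comm_τ {v w u : V} (hw : D.B w v = 0) (hu : D.B u v = 0) (e : ZMod 2) :
    q D v u e * D.τ w * q D v u e * D.τ w = q D v (D.B u w • w) (D.B u w) := by
  have h1 : q D v u e * D.τ w * q D v u e * D.τ w = q D v u e * (D.τ w * q D v u e * D.τ w) := by
    simp only [mul_assoc]
  have h2 : D.B (u + D.B u w • w) v = 0 := by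
    rw [map_add, LinearMap.add_apply, hu, map_smul, LinearMap.smul_apply, hw, smul_zero, add_zero]
  rw [h1, τ_conj_q D hw, q_mul D hu h2, aac, z2_add, zero_add, map_add, D.alt, zero_add, map_smul, smul_eq_mul,
    z2_mul]

/-- `τ w τ (w+v) = q(v; w, 1)` -/
theorem τ_mul_τ_add {v w : V} (hw : D.B w v = 0) : D.τ w * D.τ (w + v) = q D v w 1 := by
  have hv : D.B v w = 0 := by rw [D.symm]; exact hw
  rw [q, one_smul]
  have h1 : D.τ v * D.τ w = D.τ w * D.τ v := D.τ_commute hv
  have h2 : D.τ v * D.τ (v + w) = D.τ (v + w) * D.τ v := D.τ_commute (by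
    rw [map_add, D.alt, hv, add_zero])
  rw [mul_assoc, ← h2, ← mul_assoc, h1, mul_assoc (D.τ w), D.τ_sq, mul_one, add_comm v w]

/-! ### the unipotent radical -/

/-- the elements acting trivially on `U` and on `U^⊥ / U` -/
def QU (U : Submodule (ZMod 2) V) : Subgroup X where
  carrier := {g | (∀ u ∈ U, D.ρ g u = u) ∧ ∀ x ∈ perp D U, D.ρ g x + x ∈ U}
  one_mem' := by
    refine ⟨fun u _ => D.ρ_one u, fun x _ => ?_⟩
    rw [D.ρ_one, aa]; exact zero_mem _
  mul_mem' := by
    rintro a b ⟨ha1, ha2⟩ ⟨hb1, hb2⟩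
    refine ⟨fun u hu => by rw [D.ρ_mul, hb1 u hu, ha1 u hu], fun x hx => ?_⟩
    have h1 : D.ρ b x = x + (D.ρ b x + x) := by rw [add_comm (D.ρ b x), aac]
    rw [D.ρ_mul, h1, map_add, ha1 _ (hb2 x hx)]
    have : D.ρ a x + (D.ρ b x + x) + x = (D.ρ a x + x) + (D.ρ b x + x) := by abel
    rw [this]
    exact add_mem (ha2 x hx) (hb2 x hx)
  inv_mem' := by
    rintro a ⟨ha1, ha2⟩
    have h1 : ∀ u ∈ U, D.ρ a⁻¹ u = u := by
      intro u hu
      have := D.ρ_inv_apply a u
      rwa [ha1 u hu] at this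
    refine ⟨h1, fun x hx => ?_⟩
    have h2 := h1 _ (ha2 x hx)
    rw [map_add, D.ρ_inv_apply] at h2
    rw [add_comm, h2]
    exact ha2 x hx

theorem mem_QU {U : Submodule (ZMod 2) V} {g : X} :
    g ∈ QU D U ↔ (∀ u ∈ U, D.ρ g u = u) ∧ ∀ x ∈ perp D U, D.ρ g x + x ∈ U := Iff.rfl

/-- the stabilizer of `U` -/
def PU (U : Submodule (ZMod 2) V) : Subgroup X where
  carrier := {g | ∀ u, D.ρ g u ∈ U ↔ u ∈ U}
  one_mem' := fun u => by rw [D.ρ_one]
  mul_mem' := fun {a b} ha hb u => by rw [D.ρ_mul, ha, hb]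
  inv_mem' := fun {a} ha u => by rw [← ha, D.ρ_apply_inv]

theorem mem_PU {U : Submodule (ZMod 2) V} {g : X} : g ∈ PU D U ↔ ∀ u, D.ρ g u ∈ U ↔ u ∈ U := Iff.rfl

theorem mem_PU_of [Finite V] {U : Submodule (ZMod 2) V} {g : X} (h : ∀ u ∈ U, D.ρ g u ∈ U) : g ∈ PU D U := by
  intro u
  refine ⟨fun hu => ?_, h u⟩
  have hinj : Function.Injective (fun x : U => (⟨D.ρ g x, h x x.2⟩ : U)) := by
    intro x y hxy
    exact Subtype.ext (D.ρ_inj g (congrArg Subtype.val hxy))
  obtain ⟨x, hx⟩ := (Finite.injective_iff_surjective.1 hinj) ⟨_, hu⟩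
  have := D.ρ_inj g (congrArg Subtype.val hx)
  rw [← this]; exact x.2

theorem QU_le_PU {U : Submodule (ZMod 2) V} : QU D U ≤ PU D U := by
  intro g hg u
  refine ⟨fun hu => ?_, fun hu => by rw [hg.1 u hu]; exact hu⟩
  have h1 := (inv_mem hg).1 _ hu
  rw [D.ρ_inv_apply] at h1
  rw [h1]; exact hu

theorem PU_perp {U : Submodule (ZMod 2) V} {g : X} (hg : g ∈ PU D U) {x : V} (hx : x ∈ perp D U) :
    D.ρ g x ∈ perp D U := by
  intro u hu
  rw [D.inv_left]
  apply hx
  exact ((inv_mem hg : g⁻¹ ∈ PU D U) u).2 hu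

/-- transvections with centre in `U^⊥` -/
theorem τ_mem_PU {U : Submodule (ZMod 2) V} {w : V} (hw : w ∈ perp D U) : D.τ w ∈ PU D U := by
  have h : ∀ u ∈ U, D.ρ (D.τ w) u = u := fun u hu => by
    rw [D.hτ, D.symm, hw u hu, zero_smul, add_zero]
  intro u
  refine ⟨fun hu => ?_, fun hu => by rw [h u hu]; exact hu⟩
  have h1 := h _ hu
  have h2 := D.ρ_inj _ h1
  rwa [h2] at hu

theorem TG_le_PU {U : Submodule (ZMod 2) V} : TG D (perp D U : Set V) ≤ PU D U := by
  rw [TG, Subgroup.closure_le]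
  rintro g ⟨w, hw, rfl⟩
  exact τ_mem_PU D hw

theorem QU_conj {U : Submodule (ZMod 2) V} {g x : X} (hg : g ∈ PU D U) (hx : x ∈ QU D U) :
    g * x * g⁻¹ ∈ QU D U := by
  have hgi : g⁻¹ ∈ PU D U := inv_mem hg
  constructor
  · intro u hu
    rw [D.ρ_mul, D.ρ_mul, hx.1 _ ((hgi u).2 hu), D.ρ_apply_inv]
  · intro y hy
    have h1 := hx.2 _ (PU_perp D hgi hy)
    have h2 := (hg _).2 h1
    rwa [map_add, D.ρ_apply_inv, ← D.ρ_mul, ← D.ρ_mul] at h2

theorem QU_pow_four {U : Submodule (ZMod 2) V} (_hU : U ≤ perp D U) {g : X} (hg : g ∈ QU D U) : g ^ 4 = 1 := by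
  apply D.ext_iff
  intro x
  have h1 : D.ρ g x + x ∈ perp D U := by
    intro u hu
    have := D.inv g x u
    rw [hg.1 u hu] at this
    rw [map_add, LinearMap.add_apply, this, z2_add]
  set a := D.ρ g x + x with ha
  have h2 := hg.2 _ h1
  set u := D.ρ g a + a with hu
  have h3 : D.ρ g u = u := hg.1 _ h2
  have e1 : D.ρ g x = x + a := by rw [ha, add_comm (D.ρ g x), aac]
  have e2 : D.ρ g a = a + u := by rw [hu, add_comm (D.ρ g a), aac]
  have e3 : D.ρ (g * g) x = x + u := by
    rw [D.ρ_mul, e1, map_add, e1, e2]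
    have : x + a + (a + u) = x + u + (a + a) := by abel
    rw [this, aa, add_zero]
  have e4 : D.ρ (g * g) u = u := by rw [D.ρ_mul, h3, h3]
  have : g ^ 4 = g * g * (g * g) := by rw [show (4 : ℕ) = 2 + 2 from rfl, pow_add, pow_two]
  rw [this, D.ρ_mul, e3, map_add, e3, e4, aab, D.ρ_one]

/-- elements of `Q_v` -/
theorem q_mem_QU {v u : V} (hv : v ≠ 0) (h : D.B u v = 0) (e : ZMod 2) : q D v u e ∈ QU D (ln v) := by
  constructor
  · intro x hx
    have h2 : D.B v u = 0 := by rw [D.symm]; exact h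
    rcases mem_ln.1 hx with rfl | rfl
    · exact map_zero _
    · rw [q_apply D h, h2, D.alt]; simp
  · intro x hx
    rw [mem_perp_ln] at hx
    rw [q_apply D h, hx]
    simp only [mul_zero, zero_smul, add_zero]
    have : x + D.B x u • v + x = D.B x u • v + (x + x) := by abel
    rw [this, aa, add_zero]
    exact Submodule.smul_mem _ _ (self_mem_ln v)

theorem mem_QU_ln [Finite V] {v : V} (hv : v ≠ 0) {g : X} (hg : g ∈ QU D (ln v)) :
    ∃ u e, D.B u v = 0 ∧ g = q D v u e := by
  classical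
  -- the linear form
  have hmem : ∀ x : perp D (ln v), D.ρ g x + x ∈ ln v := fun x => hg.2 x x.2
  let f : perp D (ln v) →ₗ[ZMod 2] ZMod 2 :=
    { toFun := fun x => if D.ρ g x + x = 0 then 0 else 1
      map_add' := by
        intro x y
        have h1 := hmem x
        have h2 := hmem y
        have h3 : D.ρ g ((x + y : perp D (ln v)) : V) + ((x + y : perp D (ln v)) : V) =
            (D.ρ g x + x) + (D.ρ g y + y) := by
          rw [Submodule.coe_add, map_add]; abel
        rw [h3]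
        rcases mem_ln.1 h1 with e1 | e1 <;> rcases mem_ln.1 h2 with e2 | e2 <;> rw [e1, e2]
        · simp
        · simp [hv]
        · simp [hv]
        · rw [aa]; simp [hv]; decide
      map_smul' := by
        intro c x
        rcases z2 c with hc | hc
        · rw [hc, zero_smul]; simp
        · rw [hc, one_smul]; simp }
  have hf : ∀ x : perp D (ln v), D.ρ g x + x = f x • v := by
    intro x
    change _ = (if D.ρ g x + x = 0 then (0 : ZMod 2) else 1) • v
    rcases mem_ln.1 (hmem x) with e1 | e1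
    · rw [e1, if_pos rfl, zero_smul]
    · rw [e1, if_neg hv, one_smul]
  obtain ⟨u, hu⟩ := B_surj_on D (perp D (ln v)) f
  have huv : D.B u v = 0 := by
    have hvv : v ∈ perp D (ln v) := ln_ti D v (self_mem_ln v)
    have h1 := hu ⟨v, hvv⟩
    have h2 := hf ⟨v, hvv⟩
    change D.ρ g v + v = _ at h2
    rw [hg.1 v (self_mem_ln v), aa] at h2
    rw [h1]
    rcases z2 (f ⟨v, hvv⟩) with h3 | h3
    · exact h3
    · rw [h3, one_smul] at h2; exact absurd h2.symm hv
  -- `q * g` is trivial on the orthogonal space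
  have h1 : ∀ x ∈ perp D (ln v), D.ρ (q D v u 0 * g) x = x := by
    intro x hx
    have h2 := hf ⟨x, hx⟩
    have h3 : D.ρ g x = x + f ⟨x, hx⟩ • v := by
      rw [← h2]; change _ = x + (D.ρ g x + x); rw [add_comm (D.ρ g x), aac]
    have h4 := hu ⟨x, hx⟩
    change D.B u x = _ at h4
    have hvu : D.B v u = 0 := by rw [D.symm]; exact huv
    rw [mem_perp_ln] at hx
    rw [D.ρ_mul, h3, ← h4, q_apply D huv]
    simp only [map_add, LinearMap.add_apply, map_smul, LinearMap.smul_apply, smul_eq_mul, D.alt, hvu, hx, mul_zero,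
      add_zero, zero_smul, zero_mul]
    rw [D.symm x u]
    have : x + D.B u x • v + D.B u x • v = x := aab _ _
    exact this
  obtain ⟨y, -, hy⟩ := sep D (A := ⊥) (x := v) (by simpa using hv)
  have hdec : ∀ x, ∃ p ∈ perp D (ln v), x = p ∨ x = p + y := by
    intro x
    rcases z2 (D.B x v) with h | h
    · exact ⟨x, (mem_perp_ln D).2 h, Or.inl rfl⟩
    · refine ⟨x + y, (mem_perp_ln D).2 ?_, Or.inr (aab _ _).symm⟩
      rw [map_add, LinearMap.add_apply, h, hy]; decide
  set g' := q D v u 0 * g with hg'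
  have h5 : D.ρ g' y + y ∈ ln v := by
    apply mem_of_perp D
    intro z hz
    have h6 := D.inv g' z y
    rw [h1 z hz] at h6
    rw [map_add, h6, z2_add]
  have h7 : g' = q D v 0 0 ∨ g' = q D v 0 1 := by
    rcases mem_ln.1 h5 with h8 | h8
    · left
      apply D.ext_iff
      intro x
      rw [q_zero, D.ρ_one]
      obtain ⟨p, hp, rfl | rfl⟩ := hdec x
      · exact h1 _ hp
      · rw [map_add, h1 _ hp, eq_of_add _ _ h8]
    · right
      apply D.ext_iff
      intro x
      rw [q_zero_one, D.hτ]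
      obtain ⟨p, hp, rfl | rfl⟩ := hdec x
      · rw [h1 _ hp, (mem_perp_ln D).1 hp, zero_smul, add_zero]
      · rw [map_add, h1 _ hp, map_add, LinearMap.add_apply, (mem_perp_ln D).1 hp, hy, zero_add, one_smul, ← h8,
          add_comm (D.ρ g' y) y, add_assoc, aac]
  have h8 : g = q D v u 0 * g' := by rw [hg', ← mul_assoc, q_sq D huv, one_mul]
  have hz : D.B 0 v = 0 := by rw [map_zero]; rfl
  rcases h7 with h9 | h9
  · exact ⟨u, 0, huv, by rw [h8, h9, q_mul D huv hz]; simp⟩
  · exact ⟨u, 1, huv, by rw [h8, h9, q_mul D huv hz]; simp⟩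

/-! ### centralizers -/

theorem commute_τ_iff {g : X} {v : V} : g * D.τ v = D.τ v * g ↔ D.ρ g v = v := by
  constructor
  · intro h
    apply D.τ_injective
    rw [← D.conj_τ, h, mul_inv_cancel_right]
  · intro h
    have := D.conj_τ g v
    rw [h] at this
    exact mul_inv_eq_iff_eq_mul.1 this

theorem mem_PU_ln {g : X} {v : V} (hv : v ≠ 0) : g ∈ PU D (ln v) ↔ D.ρ g v = v := by
  constructor
  · intro h
    rcases mem_ln.1 ((h v).2 (self_mem_ln v)) with h1 | h1
    · rw [← map_zero (D.ρ g)] at h1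
      exact absurd (D.ρ_inj g h1) hv
    · exact h1
  · intro h u
    rw [mem_ln, mem_ln]
    constructor
    · rintro (h1 | h1)
      · left; rw [← map_zero (D.ρ g)] at h1; exact D.ρ_inj g h1
      · right; rw [← h] at h1; exact D.ρ_inj g h1
    · rintro (rfl | rfl)
      · left; exact map_zero _
      · right; exact h

/-- the centralizer of `Q_v` -/
theorem mem_QU_of_commute [Finite V] {g : X} {v : V} (hv : v ≠ 0) (h0 : g * D.τ v = D.τ v * g)
    (h : ∀ u, D.B u v = 0 → g * q D v u 0 = q D v u 0 * g) : g ∈ QU D (ln v) := by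
  have hgv := (commute_τ_iff D).1 h0
  constructor
  · intro u hu
    rcases mem_ln.1 hu with rfl | rfl
    · exact map_zero _
    · exact hgv
  · intro x hx
    rw [mem_perp_ln] at hx
    have h1 := q_conj D g (v := v) (u := x) 0
    rw [h x hx, mul_inv_cancel_right, hgv] at h1
    have h2 : D.B (D.ρ g x) v = 0 := by rw [← hgv, D.inv, hx]
    exact (q_inj D hv h2 hx h1.symm).1

end Cfsg.Agent.OddHalf.SpTwo
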