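import Cfsg.Agent.OddHalf.SpTwo.Sp

/-!
# The Sylow 2-subgroup of the symplectic group over the field with two elements, and its flag
-/

set_option autoImplicit false
set_option linter.unusedSimpArgs false

open scoped commutatorElement

namespace Cfsg.Agent.OddHalf.SpTwo

open Cfsg.Agent.StandardComponent.SpTwo

/-- a 2-group acting on `W / A` fixes a nonzero vector -/
theorem exists_fixed_quot {S V : Type*} [Group S] [AddCommGroup V] [Module (ZMod 2) V] [Finite V]
    (hS : IsPGroup 2 S) (ρ : S →* Module.End (ZMod 2) V) (A W : Submodule (ZMod 2) V) (hAW : A < W)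
    (hA : ∀ s, ∀ x ∈ A, ρ s x ∈ A) (hW : ∀ s, ∀ x ∈ W, ρ s x ∈ W) :
    ∃ w ∈ W, w ∉ A ∧ ∀ s, ρ s w + w ∈ A := by
  classical
  let K : Submodule (ZMod 2) W := A.comap W.subtype
  let f : S → (W ⧸ K) →ₗ[ZMod 2] (W ⧸ K) := fun s =>
    Submodule.mapQ K K ((ρ s).restrict (hW s)) (fun x hx => hA s x hx)
  have hf : ∀ s (x : W), f s (Submodule.Quotient.mk x) = Submodule.Quotient.mk ⟨ρ s x, hW s x x.2⟩ := by
    intro s x
    rfl
  let _ : MulAction S (W ⧸ K) :=
    { smul := fun s a => f s a
      one_smul := by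
        intro a
        obtain ⟨x, rfl⟩ := Submodule.Quotient.mk_surjective K a
        change f 1 _ = _
        rw [hf]
        congr 1
        apply Subtype.ext
        change ρ 1 (x : V) = x
        rw [map_one]; rfl
      mul_smul := by
        intro s s' a
        obtain ⟨x, rfl⟩ := Submodule.Quotient.mk_surjective K a
        change f (s * s') _ = f s (f s' _)
        rw [hf, hf, hf]
        congr 1
        apply Subtype.ext
        change ρ (s * s') (x : V) = ρ s (ρ s' x)
        rw [map_mul]; rfl }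
  have hsm : ∀ (s : S) (a : W ⧸ K), s • a = f s a := fun _ _ => rfl
  obtain ⟨w0, hw0, hw0A⟩ := SetLike.exists_of_lt hAW
  have hne : (Submodule.Quotient.mk ⟨w0, hw0⟩ : W ⧸ K) ≠ 0 := by
    rw [Ne, Submodule.Quotient.mk_eq_zero]
    exact hw0A
  have hfin : Finite (W ⧸ K) := Finite.of_surjective _ (Submodule.Quotient.mk_surjective K)
  have hdvd : 2 ∣ Nat.card (W ⧸ K) := by
    have h1 : addOrderOf (Submodule.Quotient.mk ⟨w0, hw0⟩ : W ⧸ K) = 2 := by
      apply addOrderOf_eq_prime _ hne
      rw [two_smul, ← Submodule.Quotient.mk_add]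
      have : (⟨w0, hw0⟩ : W) + ⟨w0, hw0⟩ = 0 := aa _
      rw [this, Submodule.Quotient.mk_zero]
    have h2 := addOrderOf_dvd_natCard (Submodule.Quotient.mk ⟨w0, hw0⟩ : W ⧸ K)
    rw [h1] at h2
    exact h2
  obtain ⟨b, hb, hb0⟩ := hS.exists_fixed_point_of_prime_dvd_card_of_fixed_point (W ⧸ K) hdvd (a := 0)
    (fun s => by rw [hsm]; exact map_zero _)
  obtain ⟨x, rfl⟩ := Submodule.Quotient.mk_surjective K b
  refine ⟨x, x.2, ?_, ?_⟩
  · intro h
    apply hb0
    symm
    rw [Submodule.Quotient.mk_eq_zero]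
    exact h
  · intro s
    have h1 := hb s
    rw [hsm, hf, Submodule.Quotient.eq] at h1
    have h2 : ρ s (x : V) - x ∈ A := h1
    have h3 : ρ s (x : V) + x = ρ s (x : V) - x := by
      rw [sub_eq_add_neg]
      congr 1
      exact eq_neg_of_add_eq_zero_left (aa _)
    rw [h3]; exact h2

variable {X V : Type*} [Group X] [AddCommGroup V] [Module (ZMod 2) V] (D : SpData X V)

/-! ### room -/

theorem finrank_ge [Finite V] (h : 256 ≤ Nat.card V) : 8 ≤ Module.finrank (ZMod 2) V := by
  have hfin : Module.Finite (ZMod 2) V := Module.Finite.of_finite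
  have h1 := Module.natCard_eq_pow_finrank (K := ZMod 2) (V := V)
  rw [h1, Nat.card_zmod] at h
  by_contra h2
  push Not at h2
  have h3 : 2 ^ Module.finrank (ZMod 2) V ≤ 2 ^ 7 := Nat.pow_le_pow_right (by norm_num) (by omega)
  omega

theorem finrank_perp [Finite V] (A : Submodule (ZMod 2) V) :
    Module.finrank (ZMod 2) (perp D A) + Module.finrank (ZMod 2) A = Module.finrank (ZMod 2) V := by
  have hfin : Module.Finite (ZMod 2) V := Module.Finite.of_finite
  -- the restriction map
  let φ : V →ₗ[ZMod 2] (A →ₗ[ZMod 2] ZMod 2) :=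
    { toFun := fun x => (D.B x).domRestrict A
      map_add' := fun x y => by ext a; simp
      map_smul' := fun c x => by ext a; simp }
  have hker : LinearMap.ker φ = perp D A := by
    ext x
    rw [LinearMap.mem_ker, mem_perp]
    constructor
    · intro h u hu
      have := LinearMap.congr_fun h ⟨u, hu⟩
      exact this
    · intro h
      ext ⟨u, hu⟩
      exact h u hu
  have hsurj : LinearMap.range φ = ⊤ := by
    rw [LinearMap.range_eq_top]
    intro f
    obtain ⟨y, hy⟩ := B_surj_on D A f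
    exact ⟨y, LinearMap.ext hy⟩
  have h1 := LinearMap.finrank_range_add_finrank_ker φ
  rw [hker, hsurj, finrank_top] at h1
  have h2 : Module.finrank (ZMod 2) (A →ₗ[ZMod 2] ZMod 2) = Module.finrank (ZMod 2) A :=
    Subspace.dual_finrank_eq
  omega

theorem finrank_ln_le [Finite V] (v : V) : Module.finrank (ZMod 2) (ln v) ≤ 1 := by
  have h := finrank_span_le_card (R := ZMod 2) ({v} : Set V)
  exact h.trans (by simp)

theorem finrank_sup_ln_le [Finite V] (A : Submodule (ZMod 2) V) (v : V) :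
    Module.finrank (ZMod 2) (A ⊔ ln v : Submodule (ZMod 2) V) ≤ Module.finrank (ZMod 2) A + 1 := by
  have hfin : Module.Finite (ZMod 2) V := Module.Finite.of_finite
  have h1 := Submodule.finrank_sup_add_finrank_inf_eq A (ln v)
  have h2 := finrank_ln_le v
  omega

/-- enough room: a vector of `A^⊥` outside `A'` -/
theorem room [Finite V] (h : 256 ≤ Nat.card V) {A A' : Submodule (ZMod 2) V}
    (hA : Module.finrank (ZMod 2) A + Module.finrank (ZMod 2) A' < 8) : ∃ x ∈ perp D A, x ∉ A' := by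
  have hfin : Module.Finite (ZMod 2) V := Module.Finite.of_finite
  have h1 := finrank_ge h
  have h2 := finrank_perp D A
  by_contra hcon
  push Not at hcon
  have h3 : perp D A ≤ A' := hcon
  have h4 := Submodule.finrank_mono h3
  omega

theorem finrank_pl_le [Finite V] (v w : V) : Module.finrank (ZMod 2) (pl v w) ≤ 2 := by
  rw [pl_eq]
  have h1 := finrank_sup_ln_le (ln v) w
  have h2 := finrank_ln_le v
  omega

/-! ### elements of `Q_ℓ` -/

theorem q_mem_QU_pl {v w y : V} (hw : w ∉ ln v) (hvw : D.B v w = 0) (hy : y ∈ perp D (pl v w)) (e : ZMod 2) :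
    q D w y e ∈ QU D (pl v w) := by
  rw [mem_perp_pl] at hy
  have hwv : D.B w v = 0 := by rw [D.symm]; exact hvw
  have hvy : D.B v y = 0 := by rw [D.symm]; exact hy.1
  have hwy : D.B w y = 0 := by rw [D.symm]; exact hy.2
  constructor
  · intro u hu
    rw [q_apply D hy.2]
    rcases mem_pl.1 hu with rfl | rfl | rfl | rfl <;>
      simp [D.alt, hvw, hwv, hvy, hwy, map_add, LinearMap.add_apply]
  · intro x hx
    rw [mem_perp_pl] at hx
    rw [q_apply D hy.2, hx.2]
    simp only [mul_zero, zero_smul, add_zero]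
    have : x + D.B x y • w + x = D.B x y • w + (x + x) := by abel
    rw [this, aa, add_zero]
    exact Submodule.smul_mem _ _ (right_mem_pl v w)

theorem q_left_mem_QU_pl {v w y : V} (hw : w ∉ ln v) (hvw : D.B v w = 0) (hy : y ∈ perp D (pl v w))
    (e : ZMod 2) : q D v y e ∈ QU D (pl v w) := by
  rw [mem_perp_pl] at hy
  have hwv : D.B w v = 0 := by rw [D.symm]; exact hvw
  have hvy : D.B v y = 0 := by rw [D.symm]; exact hy.1
  have hwy : D.B w y = 0 := by rw [D.symm]; exact hy.2
  constructor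
  · intro u hu
    rw [q_apply D hy.1]
    rcases mem_pl.1 hu with rfl | rfl | rfl | rfl <;>
      simp [D.alt, hvw, hwv, hvy, hwy, map_add, LinearMap.add_apply]
  · intro x hx
    rw [mem_perp_pl] at hx
    rw [q_apply D hy.1, hx.1]
    simp only [mul_zero, zero_smul, add_zero]
    have : x + D.B x y • v + x = D.B x y • v + (x + x) := by abel
    rw [this, aa, add_zero]
    exact Submodule.smul_mem _ _ (left_mem_pl v w)

theorem τ_mem_QU {U : Submodule (ZMod 2) V} (hU : U ≤ perp D U) {u : V} (hu : u ∈ U) : D.τ u ∈ QU D U := by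
  constructor
  · intro x hx
    rw [D.hτ, hU hx u hu, zero_smul, add_zero]
  · intro x hx
    rw [D.hτ, hx u hu, zero_smul, add_zero, aa]
    exact zero_mem _

/-! ### the flag -/

theorem QU_le_of_sylow [Finite X] (S : Sylow 2 X) {U : Submodule (ZMod 2) V} (hU : U ≤ perp D U)
    (h : (S : Subgroup X) ≤ PU D U) : QU D U ≤ S := by
  have h1 : IsPGroup 2 (QU D U) := by
    intro g
    refine ⟨2, ?_⟩
    apply Subtype.ext
    exact QU_pow_four D hU g.2
  have h2 : (S : Subgroup X) ≤ Subgroup.normalizer (QU D U : Set X) := by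
    intro s hs
    rw [Subgroup.mem_normalizer_iff]
    intro x
    constructor
    · intro hx; exact QU_conj D (h hs) hx
    · intro hx
      have := QU_conj D (inv_mem (h hs)) hx
      have e : s⁻¹ * (s * x * s⁻¹) * s⁻¹⁻¹ = x := by group
      rwa [e] at this
  have h3 := IsPGroup.to_sup_of_normal_right' S.isPGroup' h1 h2
  have h4 := S.is_maximal' h3 le_sup_left
  rw [← h4]
  exact le_sup_right

theorem exists_flag [Finite X] [Finite V] (h256 : 256 ≤ Nat.card V) (S : Sylow 2 X) :
    ∃ v w, v ≠ 0 ∧ D.B v w = 0 ∧ w ∉ ln v ∧ (S : Subgroup X) ≤ PU D (ln v) ∧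
      (S : Subgroup X) ≤ PU D (pl v w) := by
  have hS : IsPGroup 2 (S : Subgroup X) := S.isPGroup'
  obtain ⟨x0, -, hx0⟩ := room D h256 (A := ⊥) (A' := ⊥) (by simp)
  have hlt : (⊥ : Submodule (ZMod 2) V) < ⊤ := by
    rw [bot_lt_iff_ne_bot]
    intro h
    apply hx0
    rw [← h]; exact Submodule.mem_top
  obtain ⟨v, -, hv, hv2⟩ := exists_fixed_quot hS (D.ρ.comp (S : Subgroup X).subtype) ⊥ ⊤ hlt
    (fun s x hx => by
      rw [Submodule.mem_bot] at hx ⊢
      rw [hx]; exact map_zero _)
    (fun _ _ _ => Submodule.mem_top)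
  have hv0 : v ≠ 0 := fun h => hv (by rw [h]; exact zero_mem _)
  have hvfix : ∀ s ∈ (S : Subgroup X), D.ρ s v = v := by
    intro s hs
    have := hv2 ⟨s, hs⟩
    rw [Submodule.mem_bot] at this
    exact eq_of_add _ _ this
  have hP1 : (S : Subgroup X) ≤ PU D (ln v) := fun s hs => (mem_PU_ln D hv0).2 (hvfix s hs)
  obtain ⟨x1, hx1, hx1'⟩ := room D h256 (A := ln v) (A' := ln v) (by
    have := finrank_ln_le v; omega)
  have hlt2 : ln v < perp D (ln v) := by
    refine lt_of_le_of_ne (ln_ti D v) ?_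
    intro h
    rw [← h] at hx1
    exact hx1' hx1
  obtain ⟨w, hw, hwv, hw2⟩ := exists_fixed_quot hS (D.ρ.comp (S : Subgroup X).subtype) (ln v) (perp D (ln v))
    hlt2 (fun s x hx => (hP1 s.2 x).2 hx) (fun s x hx => PU_perp D (hP1 s.2) hx)
  have hBvw : D.B v w = 0 := by rw [D.symm]; exact (mem_perp_ln D).1 hw
  refine ⟨v, w, hv0, hBvw, hwv, hP1, ?_⟩
  intro s hs
  apply mem_PU_of
  have h1 : D.ρ s w + w ∈ ln v := hw2 ⟨s, hs⟩
  have h2 : D.ρ s w ∈ pl v w := by
    have : D.ρ s w = (D.ρ s w + w) + w := (aab _ _).symm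
    rw [this]
    refine add_mem ?_ (right_mem_pl v w)
    rw [pl_eq]
    exact Submodule.mem_sup_left h1
  intro u hu
  rcases mem_pl.1 hu with rfl | rfl | rfl | rfl
  · rw [map_zero]; exact zero_mem _
  · rw [hvfix s hs]; exact left_mem_pl _ _
  · exact h2
  · rw [map_add, hvfix s hs]; exact add_mem (left_mem_pl _ _) h2

/-- the elements of `[S, S]` that we need -/
theorem mem_commutator [Finite V] (h256 : 256 ≤ Nat.card V) {S : Subgroup X} {v w : V} (hv : v ≠ 0)
    (hvw : D.B v w = 0) (hw : w ∉ ln v) (h1 : QU D (ln v) ≤ S) (h2 : QU D (pl v w) ≤ S) (f e : ZMod 2) :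
    q D v (f • w) e ∈ ⁅S, S⁆ := by
  have hwv : D.B w v = 0 := by rw [D.symm]; exact hvw
  -- `q v y 0` for `y ∈ ℓ^⊥`
  have key : ∀ y ∈ perp D (pl v w), y ∉ pl v w → q D v y 0 ∈ ⁅S, S⁆ := by
    intro y hy hyn
    have hwy : w ∉ pl v y := by
      intro h
      rcases mem_pl.1 h with h | h | h | h
      · exact ne_zero_of_notMem hw h
      · exact hw (by rw [h]; exact self_mem_ln v)
      · exact hyn (by rw [← h]; exact right_mem_pl v w)
      · apply hyn
        have : y = v + w := by rw [h, aac]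
        rw [this]; exact add_mem (left_mem_pl _ _) (right_mem_pl _ _)
    obtain ⟨u, hu, huw⟩ := sep D hwy
    rw [mem_perp_pl] at hu hy
    have hm : D.ρ (q D w y 0) u = u + y := by
      rw [q_apply D hy.2, hu.2, huw]; simp
    have hmv : D.ρ (q D w y 0) v = v := by
      rw [q_apply D hy.2, hvw, D.symm v y, hy.1]; simp
    have h3 : q D w y 0 * q D v u 0 * (q D w y 0)⁻¹ = q D v (u + y) 0 := by
      rw [q_conj, hmv, hm]
    have h4 : ⁅q D w y 0, q D v u 0⁆ = q D v y 0 := by
      rw [commutatorElement_def, h3, q_inv D hu.1, q_mul D (by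
        rw [map_add, LinearMap.add_apply, hu.1, hy.1, add_zero]) hu.1]
      have e1 : u + y + u = y := by rw [add_comm u y, aab]
      rw [e1, map_add, LinearMap.add_apply, D.alt, D.symm y u, hu.2]
      simp
    rw [← h4]
    exact Subgroup.commutator_mem_commutator (h2 (q_mem_QU_pl D hw hvw ((mem_perp_pl D).2 hy) 0))
      (h1 (q_mem_QU D hv hu.1 0))
  -- `τ v`
  obtain ⟨y, hy, hyn⟩ := room D h256 (A := pl v w) (A' := pl v w) (by
    have := finrank_pl_le v w; omega)
  obtain ⟨y', hy', hyy'⟩ := sep D hyn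
  have hy'n : y' ∉ pl v w := by
    intro h
    have h5 := hy y' h
    rw [D.symm, hyy'] at h5
    exact one_ne_zero h5
  have hsn : y + y' ∉ pl v w := by
    intro h
    have h5 := hy (y + y') h
    rw [map_add, D.alt, D.symm y y', hyy'] at h5
    exact absurd h5 (by decide)
  have hb : q D v 0 1 ∈ ⁅S, S⁆ := by
    have e1 : q D v 0 1 = q D v y 0 * q D v y' 0 * q D v (y + y') 0 := by
      have a1 := ((mem_perp_pl D).1 hy).1
      have a2 := ((mem_perp_pl D).1 hy').1
      have a3 : D.B (y + y') v = 0 := by rw [map_add, LinearMap.add_apply, a1, a2, add_zero]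
      rw [q_mul D a1 a2, q_mul D a3 a3, aa, D.alt, D.symm y y', hyy']; simp
    rw [e1]
    exact mul_mem (mul_mem (key y hy hyn) (key y' hy' hy'n)) (key _ (add_mem hy hy') hsn)
  have hc : q D v w 1 ∈ ⁅S, S⁆ := by
    obtain ⟨u, hu, huw⟩ := sep D hw
    rw [mem_perp_ln] at hu
    have h3 := q_comm_τ D hwv hu (0 : ZMod 2)
    rw [huw, one_smul] at h3
    rw [← h3]
    have h4 : q D v u 0 * D.τ w * q D v u 0 * D.τ w = ⁅q D v u 0, D.τ w⁆ := by
      rw [commutatorElement_def, q_inv D hu, D.τ_inv]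
    rw [h4]
    exact Subgroup.commutator_mem_commutator (h1 (q_mem_QU D hv hu 0))
      (h2 (τ_mem_QU D (pl_ti D hvw) (right_mem_pl v w)))
  have h0v : D.B 0 v = 0 := by rw [map_zero]; rfl
  have hw0 : q D v w 0 ∈ ⁅S, S⁆ := by
    have e1 : q D v w 0 = q D v w 1 * q D v 0 1 := by
      rw [q_mul D hwv h0v]; simp; rfl
    rw [e1]; exact mul_mem hc hb
  rcases z2 f with rfl | rfl <;> rcases z2 e with rfl | rfl
  · rw [zero_smul, q_zero]; exact one_mem _
  · rw [zero_smul]; exact hb
  · rw [one_smul]; exact hw0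
  · rw [one_smul]; exact hc

/-- the centralizer of `S` -/
theorem of_commute_S [Finite V] (h256 : 256 ≤ Nat.card V) {S : Subgroup X} {v w : V} (hv : v ≠ 0)
    (hvw : D.B v w = 0) (hw : w ∉ ln v) (h1 : QU D (ln v) ≤ S) (h2 : QU D (pl v w) ≤ S) {z : X}
    (hz : ∀ s ∈ S, z * s = s * z) : ∃ f e : ZMod 2, z = q D v (f • w) e := by
  have hwv : D.B w v = 0 := by rw [D.symm]; exact hvw
  have h3 : z ∈ QU D (ln v) := by
    apply mem_QU_of_commute D hv
    · rw [← q_zero_one]
      exact hz _ (h1 (q_mem_QU D hv (by rw [map_zero]; rfl) 1))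
    · intro u hu
      exact hz _ (h1 (q_mem_QU D hv hu 0))
  obtain ⟨u, e, hu, rfl⟩ := mem_QU_ln D hv h3
  have h4 : ∀ y ∈ perp D (pl v w), D.B u y • w + D.B u w • y ∈ ln v := by
    intro y hy
    have h5 := hz _ (h2 (q_mem_QU_pl D hw hvw hy 0))
    rw [mem_perp_pl] at hy
    have hmv : D.ρ (q D w y 0) v = v := by
      rw [q_apply D hy.2, hvw, D.symm v y, hy.1]; simp
    have hm : D.ρ (q D w y 0) u = u + D.B u y • w + D.B u w • y := by
      rw [q_apply D hy.2]; simp
    have h6 := q_conj D (q D w y 0) (v := v) (u := u) e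
    rw [← h5, mul_inv_cancel_right, hmv] at h6
    have h7 : D.B (D.ρ (q D w y 0) u) v = 0 := by
      rw [← hmv, D.inv]; exact hu
    have h8 := (q_inj D hv hu h7 h6).1
    rw [hm, ← add_assoc, ← add_assoc, aa, zero_add] at h8
    exact h8
  have h5 : D.B u w = 0 := by
    by_contra h
    have h := z2_ne.1 h
    obtain ⟨y, hy, hyn⟩ := room D h256 (A := pl v w) (A' := pl v w) (by
      have := finrank_pl_le v w; omega)
    have h6 := h4 y hy
    rw [h, one_smul] at h6
    apply hyn
    have h7 : y = D.B u y • w + (D.B u y • w + y) := (aac _ _).symm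
    rw [h7]
    refine add_mem (Submodule.smul_mem _ _ (right_mem_pl v w)) ?_
    rw [pl_eq]; exact Submodule.mem_sup_left h6
  have h6 : u ∈ pl v w := by
    apply mem_of_perp D
    intro y hy
    have h7 := h4 y hy
    rw [h5, zero_smul, add_zero] at h7
    rw [D.symm]
    rcases z2 (D.B u y) with h8 | h8
    · exact h8
    · rw [h8, one_smul] at h7; exact absurd h7 hw
  rcases mem_pl.1 h6 with rfl | rfl | rfl | rfl
  · exact ⟨0, e, by rw [zero_smul]⟩
  · exact ⟨0, e, by rw [zero_smul, q_self]⟩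
  · exact ⟨1, e, by rw [one_smul]⟩
  · exact ⟨1, e, by rw [one_smul, add_comm, q_add_self D hwv]⟩

/-! ### orders -/

/-- the subgroup interchanging `v` and `w` -/
theorem swap_spec {v w b : V} (h1 : D.B b v = 1) (h2 : D.B b w = 1) (hvw : D.B v w = 0) :
    D.ρ (q D (v + w) b 0) v = w ∧ D.ρ (q D (v + w) b 0) w = v := by
  have h3 : D.B b (v + w) = 0 := by rw [map_add, h1, h2]; decide
  have hwv : D.B w v = 0 := by rw [D.symm]; exact hvw
  constructor
  · rw [q_apply D h3, D.symm v b, h1, map_add, D.alt, hvw]; simp [aac]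
  · rw [q_apply D h3, D.symm w b, h2, map_add, D.alt, hwv]; simp
    rw [add_comm v w, aac]

theorem mem_PU_pl [Finite V] {g : X} {v w : V} (h1 : D.ρ g v ∈ pl v w) (h2 : D.ρ g w ∈ pl v w) :
    g ∈ PU D (pl v w) := by
  apply mem_PU_of
  intro u hu
  rcases mem_pl.1 hu with rfl | rfl | rfl | rfl
  · rw [map_zero]; exact zero_mem _
  · exact h1
  · exact h2
  · rw [map_add]; exact add_mem h1 h2

theorem pl_comm (v w : V) : pl v w = pl w v := by rw [pl_eq, pl_eq, sup_comm]

theorem pl_add (v w : V) : pl v (v + w) = pl v w := by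
  apply le_antisymm
  · intro x hx
    rcases mem_pl.1 hx with rfl | rfl | rfl | rfl
    · exact zero_mem _
    · exact left_mem_pl _ _
    · exact add_mem (left_mem_pl _ _) (right_mem_pl _ _)
    · rw [aac]; exact right_mem_pl _ _
  · intro x hx
    rcases mem_pl.1 hx with rfl | rfl | rfl | rfl
    · exact zero_mem _
    · exact left_mem_pl _ _
    · exact mem_pl.2 (by right; right; right; rw [aac])
    · exact right_mem_pl _ _

/-- an element of the stabilizer of the line moving `v` to `w` -/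
theorem exists_swap [Finite V] {v w : V} (hv : v ≠ 0) (hw : w ∉ ln v) (hvw : D.B v w = 0) :
    ∃ m ∈ PU D (pl v w), D.ρ m v = w ∧ D.ρ m w = v := by
  have h1 : v ∉ ln (v + w) := by
    rw [mem_ln]
    rintro (h | h)
    · exact hv h
    · apply ne_zero_of_notMem hw
      exact (add_eq_left.1 h.symm)
  obtain ⟨b, hb, hbv⟩ := sep D h1
  rw [mem_perp_ln, map_add, hbv] at hb
  have hbw : D.B b w = 1 := by
    rcases z2 (D.B b w) with h | h
    · rw [h] at hb; exact absurd hb (by decide)
    · exact h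
  have h2 := swap_spec D hbv hbw hvw
  refine ⟨q D (v + w) b 0, mem_PU_pl D ?_ ?_, h2⟩
  · rw [h2.1]; exact right_mem_pl _ _
  · rw [h2.2]; exact left_mem_pl _ _

theorem card_PU_pl_le [Finite X] [Finite V] {v w : V} (hv : v ≠ 0) (hw : w ∉ ln v) (hvw : D.B v w = 0) :
    Nat.card (PU D (pl v w)) ≤ 3 * Nat.card (PU D (ln v) ⊓ PU D (pl v w) : Subgroup X) := by
  obtain ⟨m1, hm1, hm1v, hm1w⟩ := exists_swap D hv hw hvw
  have hw' : v + w ∉ ln v := by
    intro h
    apply hw
    have : w = v + (v + w) := (aac _ _).symm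
    rw [this]; exact add_mem (self_mem_ln v) h
  obtain ⟨m2, hm2, hm2v, hm2w⟩ := exists_swap D hv hw' (by rw [map_add, D.alt, hvw, add_zero])
  rw [pl_add] at hm2
  let m : Fin 3 → X := ![1, m1, m2]
  have hm : ∀ i, m i ∈ PU D (pl v w) := by
    intro i
    fin_cases i
    · exact one_mem _
    · exact hm1
    · exact hm2
  let F : Fin 3 × (PU D (ln v) ⊓ PU D (pl v w) : Subgroup X) → PU D (pl v w) :=
    fun x => ⟨m x.1 * x.2, mul_mem (hm x.1) x.2.2.2⟩
  have hF : Function.Surjective F := by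
    rintro ⟨x, hx⟩
    have h0 : ∃ i, D.ρ (m i) v = D.ρ x v := by
      have h1 := (hx v).2 (left_mem_pl v w)
      rcases mem_pl.1 h1 with h | h | h | h
      · rw [← map_zero (D.ρ x)] at h
        exact absurd (D.ρ_inj x h) hv
      · exact ⟨0, by rw [h]; exact D.ρ_one v⟩
      · exact ⟨1, by rw [h]; exact hm1v⟩
      · exact ⟨2, by rw [h]; exact hm2v⟩
    obtain ⟨i, hi⟩ := h0
    refine ⟨(i, ⟨(m i)⁻¹ * x, Subgroup.mem_inf.2 ⟨?_,
      (PU D (pl v w)).mul_mem ((PU D (pl v w)).inv_mem (hm i)) hx⟩⟩), ?_⟩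
    · refine (mem_PU_ln D hv).2 ?_
      rw [D.ρ_mul, ← hi, D.ρ_inv_apply]
    · apply Subtype.ext
      change m i * ((m i)⁻¹ * x) = x
      rw [mul_inv_cancel_left]
  have := Nat.card_le_card_of_surjective F hF
  rwa [Nat.card_prod, Nat.card_fin] at this

theorem card_lt_PU_pl [Finite X] [Finite V] {v w : V} (hv : v ≠ 0) (hw : w ∉ ln v) (hvw : D.B v w = 0) :
    Nat.card (PU D (ln v) ⊓ PU D (pl v w) : Subgroup X) < Nat.card (PU D (pl v w)) := by
  obtain ⟨m1, hm1, hm1v, hm1w⟩ := exists_swap D hv hw hvw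
  refine lt_of_le_of_ne (Subgroup.card_le_of_le inf_le_right) ?_
  intro h
  have h1 := Subgroup.eq_of_le_of_card_ge inf_le_right h.ge
  have h2 : m1 ∈ (PU D (ln v) ⊓ PU D (pl v w) : Subgroup X) := by rw [h1]; exact hm1
  have h3 := (mem_PU_ln D hv).1 h2.1
  rw [hm1v] at h3
  exact hw (by rw [h3]; exact self_mem_ln v)

theorem card_lt_PU_ln [Finite X] [Finite V] (h256 : 256 ≤ Nat.card V) {v w : V} (_hv : v ≠ 0) (hw : w ∉ ln v)
    (hvw : D.B v w = 0) :
    4 * Nat.card (PU D (ln v) ⊓ PU D (pl v w) : Subgroup X) ≤ Nat.card (PU D (ln v)) := by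
  have hwv : D.B w v = 0 := by rw [D.symm]; exact hvw
  obtain ⟨y, hy, hyn⟩ := room D h256 (A := pl v w) (A' := pl v w) (by
    have := finrank_pl_le v w; omega)
  obtain ⟨y', hy', hyy'⟩ := sep D hyn
  obtain ⟨x, hx, hxw⟩ := sep D hw
  rw [mem_perp_ln] at hx
  rw [mem_perp_pl] at hy hy'
  have hvy : D.B v y = 0 := by rw [D.symm]; exact hy.1
  have hvy' : D.B v y' = 0 := by rw [D.symm]; exact hy'.1
  have hy'y : D.B y y' = 1 := by rw [D.symm]; exact hyy'
  let a : Fin 4 → V := ![0, y, y', y + y']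
  have ha : ∀ i, D.B (a i) v = 0 ∧ D.B (a i) w = 0 := by
    intro i
    fin_cases i
    · exact ⟨by simp [a], by simp [a]⟩
    · exact hy
    · exact hy'
    · constructor
      · change D.B (y + y') v = 0
        rw [map_add, LinearMap.add_apply, hy.1, hy'.1, add_zero]
      · change D.B (y + y') w = 0
        rw [map_add, LinearMap.add_apply, hy.2, hy'.2, add_zero]
  have hd : ∀ i j, a i + a j ∈ pl v w → i = j := by
    intro i j h
    have h1 : D.B (a i) y = D.B (a j) y := by
      have : D.B (a i + a j) y = 0 := by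
        rw [D.symm]; exact (mem_perp_pl D).2 hy _ h
      rw [map_add, LinearMap.add_apply] at this
      exact eq_of_add _ _ this
    have h2 : D.B (a i) y' = D.B (a j) y' := by
      have : D.B (a i + a j) y' = 0 := by
        rw [D.symm]; exact (mem_perp_pl D).2 hy' _ h
      rw [map_add, LinearMap.add_apply] at this
      exact eq_of_add _ _ this
    fin_cases i <;> fin_cases j <;> first | rfl | (exfalso; revert h1 h2; simp [a, D.alt, hyy', hy'y])
  have hmem : ∀ i, D.τ (x + a i) ∈ PU D (ln v) := by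
    intro i
    apply τ_mem_PU
    rw [mem_perp_ln, map_add, LinearMap.add_apply, hx, (ha i).1, add_zero]
  let F : Fin 4 × (PU D (ln v) ⊓ PU D (pl v w) : Subgroup X) → PU D (ln v) :=
    fun z => ⟨D.τ (x + a z.1) * z.2, mul_mem (hmem z.1) z.2.2.1⟩
  have hF : Function.Injective F := by
    rintro ⟨i, p, hp⟩ ⟨j, p', hp'⟩ h
    have h1 : D.τ (x + a i) * p = D.τ (x + a j) * p' := congrArg Subtype.val h
    have h2 : D.τ (x + a j) * D.τ (x + a i) = p' * p⁻¹ := by
      have : D.τ (x + a j) * (D.τ (x + a i) * p) = p' := by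
        rw [h1, ← mul_assoc, D.τ_sq, one_mul]
      rw [← this]; group
    have h3 : D.τ (x + a j) * D.τ (x + a i) ∈ PU D (pl v w) := by
      rw [h2]; exact mul_mem hp'.2 (inv_mem hp.2)
    have h4 := (h3 w).2 (right_mem_pl v w)
    have e1 : D.B w (x + a i) = 1 := by
      rw [D.symm, map_add, LinearMap.add_apply, hxw, (ha i).2, add_zero]
    have e2 : D.B w (x + a j) = 1 := by
      rw [D.symm, map_add, LinearMap.add_apply, hxw, (ha j).2, add_zero]
    have h5 : i = j := by
      have e3 : D.B (w + (x + a i)) (x + a j) = 1 + D.B (x + a i) (x + a j) := by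
        rw [B_add, e2]
      rw [D.ρ_mul, D.hτ _ w, e1, one_smul, D.hτ, e3] at h4
      rcases z2 (D.B (x + a i) (x + a j)) with h6 | h6
      · rw [h6, add_zero, one_smul] at h4
        apply hd
        have h7 : w + (x + a i) + (x + a j) = w + (a i + a j) := by
          have : w + (x + a i) + (x + a j) = w + (a i + a j) + (x + x) := by abel
          rw [this, aa, add_zero]
        rw [h7] at h4
        have := add_mem (right_mem_pl v w) h4
        rwa [aac] at this
      · exfalso
        have h7 : (1 : ZMod 2) + 1 = 0 := by decide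
        rw [h6, h7, zero_smul, add_zero] at h4
        have h8 := (pl_ti D hvw) h4 w (right_mem_pl v w)
        rw [map_add, LinearMap.add_apply, D.alt, zero_add, D.symm, e1] at h8
        exact one_ne_zero h8
    subst h5
    have h6 : p = p' := mul_left_cancel h1
    subst h6
    rfl
  have := Nat.card_le_card_of_injective F hF
  rwa [Nat.card_prod, Nat.card_fin] at this

end Cfsg.Agent.OddHalf.SpTwo
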